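import Mathlib.RingTheory.Regular.ProjectiveDimension
import Mathlib.RingTheory.LocalProperties.ProjectiveDimension
import Mathlib.RingTheory.Flat.EquationalCriterion
import Mathlib.RingTheory.Flat.FaithfullyFlat.Algebra
import Mathlib.Algebra.Module.Injective
import Mathlib.CategoryTheory.Abelian.Injective.Dimension
import Mathlib.Algebra.Category.ModuleCat.Injective
import Mathlib.Algebra.Category.ModuleCat.EnoughInjectives
import Mathlib.LinearAlgebra.TensorProduct.Quotient

/-!
# Projective dimension of modules: dimension shifting, base change, descent, cyclic criterion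

All statements are in terms of `HasProjectiveDimensionLE (ModuleCat.of R M) n`.

* `pd_shift`, `pd_zero_iff`, `pd_congr`
* `pd_baseChange` : base change, given acyclicity on a class of modules
* `pd_baseChange_of_flat`, `pd_baseChange_quotient`
* `pd_of_faithfullyFlat` : descent for finite modules over Noetherian rings
* `pd_restrictScalars_quotient` : `pd_R L ≤ pd_{R/x} L + 1`
* `pd_of_forall_cyclic` : Auslander's cyclic criterion
-/

namespace Groth.Agent.RegLoc.PD

open CategoryTheory Abelian
open scoped TensorProduct

universe u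

variable {R : Type u} [CommRing R]

lemma pd_zero_iff (M : Type u) [AddCommGroup M] [Module R M] :
    HasProjectiveDimensionLE (ModuleCat.of R M) 0 ↔ Module.Projective R M := by
  rw [← projective_iff_hasProjectiveDimensionLE_zero]
  exact (IsProjective.iff_projective M).symm

lemma pd_mono (M : Type u) [AddCommGroup M] [Module R M] {m n : ℕ} (h : m ≤ n)
    (hm : HasProjectiveDimensionLE (ModuleCat.of R M) m) :
    HasProjectiveDimensionLE (ModuleCat.of R M) n :=
  hasProjectiveDimensionLT_of_ge _ (m + 1) (n + 1) (by omega)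

lemma pd_of_projective (M : Type u) [AddCommGroup M] [Module R M] [Module.Projective R M] (n : ℕ) :
    HasProjectiveDimensionLE (ModuleCat.of R M) n :=
  pd_mono M (Nat.zero_le n) ((pd_zero_iff M).mpr inferInstance)

lemma pd_congr {M N : Type u} [AddCommGroup M] [Module R M] [AddCommGroup N] [Module R N]
    (e : M ≃ₗ[R] N) (n : ℕ) (h : HasProjectiveDimensionLE (ModuleCat.of R M) n) :
    HasProjectiveDimensionLE (ModuleCat.of R N) n :=
  hasProjectiveDimensionLT_of_iso e.toModuleIso _

lemma pd_retract {M N : Type u} [AddCommGroup M] [Module R M] [AddCommGroup N] [Module R N]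
    (i : N →ₗ[R] M) (r : M →ₗ[R] N) (h : r ∘ₗ i = LinearMap.id) (n : ℕ)
    (hM : HasProjectiveDimensionLE (ModuleCat.of R M) n) :
    HasProjectiveDimensionLE (ModuleCat.of R N) n :=
  Retract.hasProjectiveDimensionLT (Y := ModuleCat.of R M)
    ⟨ModuleCat.ofHom i, ModuleCat.ofHom r, by rw [← ModuleCat.ofHom_comp, h]; rfl⟩ _

lemma pd_shift {F M : Type u} [AddCommGroup F] [Module R F] [AddCommGroup M] [Module R M]
    [Module.Projective R F] (f : F →ₗ[R] M) (hf : Function.Surjective f) (n : ℕ) :
    HasProjectiveDimensionLE (ModuleCat.of R M) (n + 1) ↔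
      HasProjectiveDimensionLE (ModuleCat.of R (LinearMap.ker f)) n :=
  (LinearMap.shortExact_shortComplexKer hf).hasProjectiveDimensionLT_X₃_iff n
    ((IsProjective.iff_projective F).mp inferInstance)

lemma pd_of_ker {F M : Type u} [AddCommGroup F] [Module R F] [AddCommGroup M] [Module R M]
    (f : F →ₗ[R] M) (hf : Function.Surjective f) (n : ℕ)
    (h₁ : HasProjectiveDimensionLE (ModuleCat.of R (LinearMap.ker f)) n)
    (h₂ : HasProjectiveDimensionLE (ModuleCat.of R F) (n + 1)) :
    HasProjectiveDimensionLE (ModuleCat.of R M) (n + 1) :=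
  (LinearMap.shortExact_shortComplexKer hf).hasProjectiveDimensionLT_X₃ (n + 1) h₁ h₂

section BaseChange

variable (S : Type u) [CommRing S] [Algebra R S]

/-- Base change of a presentation, when it stays injective on the kernel. -/
noncomputable def kerBaseChangeEquiv {F M : Type u} [AddCommGroup F] [Module R F] [AddCommGroup M]
    [Module R M] (f : F →ₗ[R] M) (hf : Function.Surjective f)
    (hinj : Function.Injective ((LinearMap.ker f).subtype.baseChange S)) :
    (S ⊗[R] LinearMap.ker f) ≃ₗ[S] LinearMap.ker (f.baseChange S) :=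
  (LinearEquiv.ofInjective _ hinj).trans (LinearEquiv.ofEq _ _ (by
    have := lTensor_exact S (LinearMap.exact_subtype_ker_map f) hf
    exact SetLike.ext fun x => (this x).symm))

lemma baseChange_surjective {F M : Type u} [AddCommGroup F] [Module R F] [AddCommGroup M]
    [Module R M] (f : F →ₗ[R] M) (hf : Function.Surjective f) :
    Function.Surjective (f.baseChange S) :=
  LinearMap.lTensor_surjective S hf

/-- Base change does not increase the projective dimension on a class `Q` of acyclic modules. -/
theorem pd_baseChange (Q : ∀ (M : Type u) [AddCommGroup M] [Module R M], Prop)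
    (hQ : ∀ (F M : Type u) [AddCommGroup F] [Module R F] [Module.Free R F] [AddCommGroup M]
      [Module R M] (f : F →ₗ[R] M), Function.Surjective f → Q M →
      Q (LinearMap.ker f) ∧ Function.Injective ((LinearMap.ker f).subtype.baseChange S))
    (n : ℕ) : ∀ (M : Type u) [AddCommGroup M] [Module R M], Q M →
      HasProjectiveDimensionLE (ModuleCat.of R M) n →
      HasProjectiveDimensionLE (ModuleCat.of S (S ⊗[R] M)) n := by
  induction n with
  | zero =>
    intro M _ _ _ h
    rw [pd_zero_iff] at h ⊢
    infer_instance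
  | succ n ih =>
    intro M _ _ hM h
    let f : (M →₀ R) →ₗ[R] M := Finsupp.linearCombination R id
    have hf : Function.Surjective f := Finsupp.linearCombination_id_surjective R M
    obtain ⟨hK, hinj⟩ := hQ _ _ f hf hM
    rw [pd_shift f hf] at h
    rw [pd_shift (f.baseChange S) (baseChange_surjective S f hf)]
    exact pd_congr (kerBaseChangeEquiv S f hf hinj) n (ih _ hK h)

theorem pd_baseChange_of_flat [Module.Flat R S] (n : ℕ) (M : Type u) [AddCommGroup M] [Module R M]
    (h : HasProjectiveDimensionLE (ModuleCat.of R M) n) :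
    HasProjectiveDimensionLE (ModuleCat.of S (S ⊗[R] M)) n :=
  pd_baseChange (R := R) S (fun _ _ _ => True)
    (fun _ _ _ _ _ _ _ _ _ _ => ⟨trivial,
      Module.Flat.lTensor_preserves_injective_linearMap _ (Submodule.injective_subtype _)⟩)
    n M trivial h

/-- Descent of the projective dimension along a faithfully flat map. -/
theorem pd_of_faithfullyFlat [IsNoetherianRing R] [Module.FaithfullyFlat R S] (n : ℕ) :
    ∀ (M : Type u) [AddCommGroup M] [Module R M] [Module.Finite R M],
      HasProjectiveDimensionLE (ModuleCat.of S (S ⊗[R] M)) n →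
      HasProjectiveDimensionLE (ModuleCat.of R M) n := by
  induction n with
  | zero =>
    intro M _ _ _ h
    rw [pd_zero_iff] at h ⊢
    have : Module.Flat R M := Module.Flat.of_flat_tensorProduct R M S
    have := Module.finitePresentation_of_finite R M
    exact Module.Flat.projective_of_finitePresentation
  | succ n ih =>
    intro M _ _ _ h
    obtain ⟨F, _, _, _, _, f, hf⟩ := Module.exists_finite_presentation R M
    rw [pd_shift f hf]
    rw [pd_shift (f.baseChange S) (baseChange_surjective S f hf)] at h
    exact ih _ (pd_congr (kerBaseChangeEquiv S f hf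
      (Module.Flat.lTensor_preserves_injective_linearMap _ (Submodule.injective_subtype _))).symm n h)

end BaseChange

section Quotient

variable {x : R}

/-- For `x` regular on `R` and `M`, `pd_{R/x} (M/xM) ≤ pd_R M`. -/
theorem pd_baseChange_quotient (hx : IsSMulRegular R x) (n : ℕ) (M : Type u) [AddCommGroup M]
    [Module R M] (hM : IsSMulRegular M x) (h : HasProjectiveDimensionLE (ModuleCat.of R M) n) :
    HasProjectiveDimensionLE (ModuleCat.of (R ⧸ Ideal.span {x}) ((R ⧸ Ideal.span {x}) ⊗[R] M)) n := by
  refine pd_baseChange (R := R) (R ⧸ Ideal.span {x}) (fun N _ _ => IsSMulRegular N x) ?_ n M hM h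
  intro F N _ _ _ _ _ f hf hN
  have hF : IsSMulRegular F x := by
    let b := Module.Free.chooseBasis R F
    intro a c hac
    refine b.repr.injective (Finsupp.ext fun i => hx ?_)
    simpa using DFunLike.congr_fun (congrArg b.repr hac) i
  refine ⟨fun a c hac => Subtype.ext (hF (congrArg Subtype.val hac)), ?_⟩
  rw [injective_iff_map_eq_zero]
  intro z hz
  obtain ⟨k, rfl⟩ : ∃ k : LinearMap.ker f, (1 : R ⧸ Ideal.span {x}) ⊗ₜ[R] k = z :=
    TensorProduct.mk_surjective R _ (R ⧸ Ideal.span {x}) Ideal.Quotient.mk_surjective z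
  rw [LinearMap.baseChange_tmul] at hz
  have hz' := congrArg (TensorProduct.quotTensorEquivQuotSMul F (Ideal.span {x})) hz
  rw [TensorProduct.quotTensorEquivQuotSMul_mk_one_tmul, map_zero, Submodule.Quotient.mk_eq_zero,
    Submodule.ideal_span_singleton_smul, Submodule.mem_smul_pointwise_iff_exists] at hz'
  obtain ⟨y, -, hy⟩ := hz'
  have hy' : f y = 0 := by
    refine hN ?_
    show x • f y = x • 0
    rw [← map_smul, hy, smul_zero]
    exact LinearMap.mem_ker.mp k.2
  obtain rfl : k = x • ⟨y, hy'⟩ := Subtype.ext (by simpa using hy.symm)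
  rw [← TensorProduct.smul_tmul, ← Algebra.algebraMap_eq_smul_one, Ideal.Quotient.algebraMap_eq,
    Ideal.Quotient.eq_zero_iff_mem.mpr (Ideal.mem_span_singleton_self x), TensorProduct.zero_tmul]

/-- A free `R/x`-module has projective dimension at most one over `R`. -/
lemma pd_finsupp_quotient (hx : IsSMulRegular R x) (ι : Type u) :
    HasProjectiveDimensionLE (ModuleCat.of R (ι →₀ R ⧸ Ideal.span {x})) 1 := by
  let f : (ι →₀ R) →ₗ[R] (ι →₀ R ⧸ Ideal.span {x}) :=
    Finsupp.mapRange.linearMap (Submodule.mkQ (Ideal.span {x}))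
  have hf : Function.Surjective f :=
    Finsupp.mapRange_surjective _ (map_zero _) (Submodule.mkQ_surjective _)
  rw [pd_shift f hf]
  let g : (ι →₀ R) →ₗ[R] LinearMap.ker f := (x • LinearMap.id).codRestrict _ (fun v => by
    rw [LinearMap.mem_ker]
    ext i
    simp only [f, LinearMap.smul_apply, LinearMap.id_apply, Finsupp.mapRange.linearMap_apply,
      Finsupp.mapRange_apply, Finsupp.coe_smul, Pi.smul_apply, smul_eq_mul, Submodule.mkQ_apply,
      Finsupp.coe_zero, Pi.zero_apply, Submodule.Quotient.mk_eq_zero]
    exact Ideal.mul_mem_right _ _ (Ideal.mem_span_singleton_self x))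
  have hg : Function.Bijective g := by
    refine ⟨fun a c h => Finsupp.ext fun i => hx ?_, fun v => ?_⟩
    · simpa [g] using DFunLike.congr_fun (congrArg Subtype.val h) i
    · have hv : ∀ i, ∃ c, x * c = v.1 i := by
        intro i
        have := DFunLike.congr_fun (LinearMap.mem_ker.mp v.2) i
        simp only [f, Finsupp.mapRange.linearMap_apply, Finsupp.mapRange_apply, Submodule.mkQ_apply,
          Finsupp.coe_zero, Pi.zero_apply, Submodule.Quotient.mk_eq_zero,
          Ideal.mem_span_singleton'] at this
        obtain ⟨c, hc⟩ := this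
        exact ⟨c, by rw [mul_comm, hc]⟩
      choose c hc using hv
      classical
      refine ⟨Finsupp.onFinset v.1.support (fun i => if v.1 i = 0 then 0 else c i)
        (fun i hi => by simp at hi ⊢; exact hi.1), Subtype.ext (Finsupp.ext fun i => ?_)⟩
      by_cases h0 : v.1 i = 0 <;> simp [g, h0, hc]
  exact pd_congr (LinearEquiv.ofBijective g hg) 0 ((pd_zero_iff _).mpr inferInstance)

/-- Change of rings: `pd_R L ≤ pd_{R/x} L + 1`. -/
theorem pd_restrictScalars_quotient (hx : IsSMulRegular R x) (n : ℕ) :
    ∀ (L : Type u) [AddCommGroup L] [Module (R ⧸ Ideal.span {x}) L] [Module R L]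
      [IsScalarTower R (R ⧸ Ideal.span {x}) L],
      HasProjectiveDimensionLE (ModuleCat.of (R ⧸ Ideal.span {x}) L) n →
      HasProjectiveDimensionLE (ModuleCat.of R L) (n + 1) := by
  induction n with
  | zero =>
    intro L _ _ _ _ h
    rw [pd_zero_iff, Module.projective_def'] at h
    obtain ⟨s, hs⟩ := h
    refine pd_retract (s.restrictScalars R) ((Finsupp.linearCombination _ id).restrictScalars R)
      (LinearMap.ext fun l => LinearMap.congr_fun hs l) 1 (pd_finsupp_quotient hx L)
  | succ n ih =>
    intro L _ _ _ _ h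
    let f := Finsupp.linearCombination (R ⧸ Ideal.span {x}) (id : L → L)
    have hf : Function.Surjective f := Finsupp.linearCombination_id_surjective _ L
    rw [pd_shift f hf] at h
    exact pd_of_ker (f.restrictScalars R) hf (n + 1) (ih (LinearMap.ker f) h)
      (pd_mono _ (by omega) (pd_finsupp_quotient hx L))

end Quotient

section Cyclic

theorem hasInjectiveDimensionLT_of_forall_cyclic (n : ℕ) :
    ∀ (N : ModuleCat.{u} R),
      (∀ I : Ideal R, Subsingleton (Ext (ModuleCat.of R (R ⧸ I)) N (n + 1))) →
      HasInjectiveDimensionLT N (n + 1) := by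
  induction n with
  | zero =>
    intro N h
    rw [← injective_iff_hasInjectiveDimensionLT_one]
    refine (Module.injective_iff_injective_object R N).mp (Module.Baer.injective fun I g => ?_)
    have hS : (Submodule.mkQ I).shortComplexKer.ShortExact :=
      LinearMap.shortExact_shortComplexKer (Submodule.mkQ_surjective I)
    let e : LinearMap.ker (Submodule.mkQ I) ≃ₗ[R] I := LinearEquiv.ofEq _ _ (Submodule.ker_mkQ I)
    let g' : (Submodule.mkQ I).shortComplexKer.X₁ ⟶ N := ModuleCat.ofHom (g ∘ₗ e.toLinearMap)
    obtain ⟨x₂, hx₂⟩ := Ext.contravariant_sequence_exact₁ hS N (Ext.mk₀ g') (add_zero 1)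
      ((h I).elim _ _)
    obtain ⟨φ, rfl⟩ := (Ext.mk₀_bijective _ _).2 x₂
    rw [Ext.mk₀_comp_mk₀] at hx₂
    have := (Ext.mk₀_bijective _ _).1 hx₂
    refine ⟨φ.hom, fun y hy => ?_⟩
    exact LinearMap.congr_fun (congrArg ModuleCat.Hom.hom this) ⟨y, by simpa using hy⟩
  | succ n ih =>
    intro N h
    obtain ⟨p⟩ := EnoughInjectives.presentation N
    have hS : (ShortComplex.mk _ _ (Limits.cokernel.condition p.f)).ShortExact :=
      { exact := ShortComplex.exact_cokernel p.f }
    refine (hS.hasInjectiveDimensionLT_X₃_iff n p.injective).mp (ih _ fun I => ⟨fun a b => ?_⟩)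
    suffices h0 : ∀ c : Ext (ModuleCat.of R (R ⧸ I)) (Limits.cokernel p.f) (n + 1), c = 0 by
      rw [h0 a, h0 b]
    intro c
    obtain ⟨y, rfl⟩ := Ext.covariant_sequence_exact₃ _ hS c rfl ((h I).elim _ _)
    rw [Ext.eq_zero_of_injective y, Ext.zero_comp]

/-- Auslander: the projective dimension is bounded by that of the cyclic modules. -/
theorem pd_of_forall_cyclic (n : ℕ)
    (h : ∀ I : Ideal R, HasProjectiveDimensionLE (ModuleCat.of R (R ⧸ I)) n)
    (M : Type u) [AddCommGroup M] [Module R M] : HasProjectiveDimensionLE (ModuleCat.of R M) n := by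
  refine HasProjectiveDimensionLT.mk fun i hi Y e => ?_
  have := hasInjectiveDimensionLT_of_forall_cyclic n Y fun I =>
    haveI := h I
    HasProjectiveDimensionLT.subsingleton _ (n + 1) (n + 1) le_rfl Y
  exact e.eq_zero_of_hasInjectiveDimensionLT (n + 1) hi

end Cyclic

end Groth.Agent.RegLoc.PD
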