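import Groth.Agent.RegLoc.Basic
import Groth.Agent.RegLoc.PD
import Mathlib.RingTheory.Ideal.Cotangent
import Mathlib.RingTheory.Ideal.AssociatedPrime.Finiteness
import Mathlib.RingTheory.Regular.IsSMulRegular

/-!
# Serre's homological characterisation of regular local rings

* `pd_le_dim` : over a regular local ring of dimension `d` every module has projective dimension `≤ d`
* `isRegularLocalRing_of_pd_residueField` : finite `pd k` implies regular
* `projectiveDimension_residueField` : `pd k = dim R`
* `isRegularLocalRing_localization`, `isRegularRing` : localizations of regular local rings are regular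
* `isRegularLocalRing_of_flat` : descent along flat local homomorphisms
-/

namespace Groth.Agent.RegLoc.Homological

open IsLocalRing CategoryTheory
open scoped TensorProduct Pointwise
open Groth.Agent.RegLoc.PD

universe u

variable {R : Type u} [CommRing R]

/-- `M/xM` as a module over `R/x`, seen over `R`. -/
noncomputable def quotTensorEquivQuotSMulTop (x : R) (M : Type u) [AddCommGroup M] [Module R M] :
    ((R ⧸ Ideal.span {x}) ⊗[R] M) ≃ₗ[R] QuotSMulTop x M :=
  (TensorProduct.quotTensorEquivQuotSMul M (Ideal.span {x})).trans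
    (Submodule.quotEquivOfEq _ _ (Submodule.ideal_span_singleton_smul x ⊤))

lemma exists_mem_notMem_sq [IsLocalRing R] [IsNoetherianRing R] (h : maximalIdeal R ≠ ⊥) :
    ∃ x ∈ maximalIdeal R, x ∉ maximalIdeal R ^ 2 := by
  by_contra hc
  push Not at hc
  exact h (RegLoc.eq_maximalIdeal_of_le_sup_sq (J := (⊥ : Ideal R)) bot_le
    (le_sup_of_le_right hc)).symm

lemma pd_le_dim_finite (d : ℕ) : ∀ (R : Type u) [CommRing R] [IsRegularLocalRing R],
    ringKrullDim R = d → ∀ (M : Type u) [AddCommGroup M] [Module R M] [Module.Finite R M],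
    HasProjectiveDimensionLE (ModuleCat.of R M) d := by
  induction d with
  | zero =>
    intro R _ _ hd M _ _ _
    have hμ := RegLoc.spanFinrank_eq_dim hd
    rw [Submodule.spanFinrank_eq_zero_iff_eq_bot (IsNoetherian.noetherian _)] at hμ
    letI := (isField_iff_maximalIdeal_eq.mpr hμ).toField
    exact pd_of_projective M 0
  | succ d ih =>
    intro R _ _ hd M _ _ _
    have := RegLoc.isDomain R
    have hμ := RegLoc.spanFinrank_eq_dim hd
    obtain ⟨x, hx, hx2⟩ := exists_mem_notMem_sq (R := R) fun h => by
      rw [h, Submodule.spanFinrank_bot] at hμ; omega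
    obtain ⟨hreg, e, he, hed⟩ := RegLoc.isRegularLocalRing_quotient_span_singleton hx hx2 hd
    obtain rfl : e = d := by omega
    have hx0 : x ≠ 0 := fun h => hx2 (h ▸ zero_mem _)
    have hxreg : IsSMulRegular R x := fun a b h => mul_left_cancel₀ hx0 h
    obtain ⟨F, _, _, _, _, f, hf⟩ := Module.exists_finite_presentation R M
    rw [pd_shift f hf]
    have hK : IsSMulRegular (LinearMap.ker f) x := by
      let b := Module.Free.chooseBasis R F
      intro a c hac
      refine Subtype.ext (b.repr.injective (Finsupp.ext fun i => mul_left_cancel₀ hx0 ?_))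
      simpa using DFunLike.congr_fun (congrArg b.repr (congrArg Subtype.val hac)) i
    have h1 := ih (R ⧸ Ideal.span {x}) he ((R ⧸ Ideal.span {x}) ⊗[R] LinearMap.ker f)
    have h2 := pd_congr (quotTensorEquivQuotSMulTop x (LinearMap.ker f)) (e + 1)
      (pd_restrictScalars_quotient hxreg e _ h1)
    rw [← projectiveDimension_le_iff,
      ModuleCat.projectiveDimension_quotSMulTop_eq_succ_of_isSMulRegular
        (ModuleCat.of R (LinearMap.ker f)) x hK hx] at h2
    rw [← projectiveDimension_le_iff]
    rwa [Nat.cast_succ, ENat.WithBot.add_le_add_one_right_iff] at h2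

/-- Over a regular local ring of dimension `d`, every module has projective dimension at most `d`. -/
theorem pd_le_dim [IsRegularLocalRing R] {d : ℕ} (hd : ringKrullDim R = d)
    (M : Type u) [AddCommGroup M] [Module R M] :
    HasProjectiveDimensionLE (ModuleCat.of R M) d :=
  pd_of_forall_cyclic d (fun I => pd_le_dim_finite d R hd (R ⧸ I)) M

section Serre

variable [IsLocalRing R] [IsNoetherianRing R]

omit [IsNoetherianRing R] in
/-- A minimal presentation. -/
lemma exists_minimal_cover (M : Type u) [AddCommGroup M] [Module R M] [Module.Finite R M] :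
    ∃ (n : ℕ) (f : (Fin n → R) →ₗ[R] M), Function.Surjective f ∧
      ∀ v ∈ LinearMap.ker f, ∀ i, v i ∈ maximalIdeal R := by
  classical
  obtain ⟨g, hg⟩ := Submodule.fg_iff_exists_fin_generating_family.mp
    (Module.finite_def.mp ‹Module.Finite R M›)
  have hP : ∃ n, ∃ g : Fin n → M, Submodule.span R (Set.range g) = ⊤ := ⟨g, hg⟩
  obtain ⟨g, hg⟩ := Nat.find_spec hP
  refine ⟨Nat.find hP, Fintype.linearCombination R g, ?_, fun v hv i => ?_⟩
  · rw [← LinearMap.range_eq_top, Fintype.range_linearCombination, hg]
  · by_contra hi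
    have hu : IsUnit (v i) := not_not.mp fun h => hi h
    obtain ⟨m, hm⟩ : ∃ m, Nat.find hP = m + 1 := ⟨Nat.find hP - 1, by have := i.2; omega⟩
    let g' : Fin m → M := fun j => g (Fin.cast hm.symm ((Fin.cast hm i).succAbove j))
    refine Nat.find_min hP (m := m) (by omega) ⟨g', top_le_iff.mp (hg ▸ Submodule.span_le.mpr ?_)⟩
    rintro _ ⟨j, rfl⟩
    have hmem : ∀ j, j ≠ i → g j ∈ Submodule.span R (Set.range g') := fun j hj => by
      obtain ⟨k, hk⟩ := Fin.exists_succAbove_eq (x := Fin.cast hm j) (y := Fin.cast hm i)
        (fun h => hj (Fin.cast_injective _ h))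
      exact Submodule.subset_span ⟨k, by simp only [g', hk]; rfl⟩
    by_cases hj : j = i
    · subst hj
      rw [LinearMap.mem_ker, Fintype.linearCombination_apply, ← Finset.add_sum_erase _ _
        (Finset.mem_univ j), add_eq_zero_iff_eq_neg] at hv
      rw [SetLike.mem_coe, ← Submodule.smul_mem_iff_of_isUnit _ hu, hv]
      exact neg_mem (sum_mem fun k hk => Submodule.smul_mem _ _ (hmem k (Finset.ne_of_mem_erase hk)))
    · exact hmem j hj

/-- If `z • m = 0` with `z ≠ 0`, a finite module of finite projective dimension is projective. -/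
lemma projective_of_pd_of_socle {z : R} (hz : z ≠ 0) (hzm : ∀ a ∈ maximalIdeal R, z * a = 0)
    (n : ℕ) : ∀ (M : Type u) [AddCommGroup M] [Module R M] [Module.Finite R M],
      HasProjectiveDimensionLE (ModuleCat.of R M) n → Module.Projective R M := by
  induction n with
  | zero => intro M _ _ _ h; exact (pd_zero_iff M).mp h
  | succ n ih =>
    intro M _ _ _ h
    obtain ⟨k, f, hf, hker⟩ := exists_minimal_cover (R := R) M
    have := ih _ ((pd_shift f hf n).mp h)
    have : Module.Free R (LinearMap.ker f) := Module.free_of_flat_of_isLocalRing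
    let b := Module.Free.chooseBasis R (LinearMap.ker f)
    have hbot : LinearMap.ker f = ⊥ := by
      rw [eq_bot_iff]
      intro v hv
      suffices (⟨v, hv⟩ : LinearMap.ker f) = 0 by simpa using congrArg Subtype.val this
      apply b.repr.injective
      ext i
      exfalso
      apply hz
      have h0 : z • b i = 0 := Subtype.ext <| funext fun j => by
        simpa using hzm _ (hker _ (b i).2 j)
      simpa using congrArg (fun w => b.repr w i) h0
    exact Module.Projective.of_equiv
      (LinearEquiv.ofBijective f ⟨LinearMap.ker_eq_bot.mp hbot, hf⟩)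

omit [IsNoetherianRing R] in
lemma maximalIdeal_eq_bot_of_projective (h : Module.Projective R (ResidueField R)) :
    maximalIdeal R = ⊥ := by
  obtain ⟨s, hs⟩ := Module.projective_lifting_property (Algebra.linearMap R (ResidueField R))
    (LinearMap.id : ResidueField R →ₗ[R] ResidueField R) residue_surjective
  have hu : IsUnit (s 1) := by
    by_contra hnu
    have h1 : residue R (s 1) = 1 := LinearMap.congr_fun hs 1
    rw [(residue_eq_zero_iff _).mpr hnu] at h1
    exact zero_ne_one h1
  rw [eq_bot_iff]
  intro a ha
  have h0 : a * s 1 = 0 := by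
    rw [← smul_eq_mul, ← map_smul, Algebra.smul_def, ResidueField.algebraMap_eq,
      (residue_eq_zero_iff a).mpr ha, zero_mul, map_zero]
  exact (hu.mul_left_eq_zero).mp h0

omit [IsNoetherianRing R] in
lemma exists_functional {x : R} (hx : x ∈ maximalIdeal R) (hx2 : x ∉ maximalIdeal R ^ 2) :
    ∃ ψ : maximalIdeal R →ₗ[R] ResidueField R, ψ ⟨x, hx⟩ = 1 := by
  have hv : (maximalIdeal R).toCotangent ⟨x, hx⟩ ≠ 0 := fun h =>
    hx2 ((Ideal.toCotangent_eq_zero _ _).mp h)
  obtain ⟨φ, hφ⟩ := LinearMap.exists_leftInverse_of_injective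
    (LinearMap.toSpanSingleton (ResidueField R) (CotangentSpace R)
      ((maximalIdeal R).toCotangent ⟨x, hx⟩)) (LinearMap.ker_eq_bot.mpr
        (smul_left_injective (ResidueField R) hv))
  exact ⟨φ.restrictScalars R ∘ₗ (maximalIdeal R).toCotangent, by
    simpa using LinearMap.congr_fun hφ 1⟩

lemma isRegularLocalRing_of_isField (h : maximalIdeal R = ⊥) : IsRegularLocalRing R := by
  refine IsRegularLocalRing.of_spanFinrank_maximalIdeal_le _ ?_
  rw [h, Submodule.spanFinrank_bot]
  exact_mod_cast ringKrullDim_nonneg_of_nontrivial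

end Serre

set_option maxHeartbeats 1600000 in
set_option synthInstance.maxHeartbeats 200000 in
theorem serre_aux (e : ℕ) : ∀ (R : Type u) [CommRing R] [IsLocalRing R] [IsNoetherianRing R],
    (maximalIdeal R).spanFinrank = e → ∀ n : ℕ,
    HasProjectiveDimensionLE (ModuleCat.of R (ResidueField R)) n → IsRegularLocalRing R := by
  induction e using Nat.strong_induction_on with
  | _ e ih =>
    intro R _ _ _ he n hn
    classical
    by_cases hbot : maximalIdeal R = ⊥
    · exact isRegularLocalRing_of_isField hbot
    by_cases hass : maximalIdeal R ∈ associatedPrimes R R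
    · obtain ⟨-, z, hz⟩ := isAssociatedPrime_iff.mp hass
      have hzm : ∀ a ∈ maximalIdeal R, z * a = 0 := by
        intro a ha
        rw [hz, Submodule.mem_colon_singleton, Submodule.mem_bot, smul_eq_mul] at ha
        rw [mul_comm, ha]
      have hz0 : z ≠ 0 := by
        rintro rfl
        refine (maximalIdeal.isMaximal R).ne_top ?_
        rw [hz]; ext; simp
      have := projective_of_pd_of_socle hz0 hzm n _ hn
      exact absurd (maximalIdeal_eq_bot_of_projective this) hbot
    obtain ⟨x, hx, hx2, hxA⟩ : ∃ x ∈ maximalIdeal R, x ∉ maximalIdeal R ^ 2 ∧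
        ∀ P ∈ associatedPrimes R R, x ∉ P := by
      by_contra h
      push Not at h
      have hfin := associatedPrimes.finite R R
      have hsub : (maximalIdeal R : Set R) ⊆
          ⋃ P ∈ (↑(insert (maximalIdeal R ^ 2) hfin.toFinset) : Set (Ideal R)), (P : Set R) := by
        intro x hx
        simp only [Set.mem_iUnion, Finset.coe_insert, Set.mem_insert_iff, exists_prop,
          Set.Finite.coe_toFinset, SetLike.mem_coe]
        by_cases hx2 : x ∈ maximalIdeal R ^ 2
        · exact ⟨_, Or.inl rfl, hx2⟩
        · obtain ⟨P, hP, hxP⟩ := h x hx hx2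
          exact ⟨P, Or.inr hP, hxP⟩
      rw [Ideal.subset_union_prime (maximalIdeal R ^ 2) (maximalIdeal R ^ 2)] at hsub
      · obtain ⟨P, hP, hle⟩ := hsub
        rcases Finset.mem_insert.mp hP with rfl | hP
        · obtain ⟨x, hx, hx2⟩ := exists_mem_notMem_sq hbot
          exact hx2 (hle hx)
        · rw [hfin.mem_toFinset] at hP
          exact hass ((le_antisymm (le_maximalIdeal hP.isPrime.ne_top) hle) ▸ hP)
      · intro P hP h1 _
        rcases Finset.mem_insert.mp hP with rfl | hP
        · exact absurd rfl h1
        · exact (hfin.mem_toFinset.mp hP).isPrime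
    have hxreg : IsSMulRegular R x := by
      by_contra hc
      have : x ∈ ⋃ P ∈ associatedPrimes R R, (P : Set R) := by
        rw [biUnion_associatedPrimes_eq_compl_regular R R]; exact hc
      simp only [Set.mem_iUnion, SetLike.mem_coe, exists_prop] at this
      obtain ⟨P, hP, hxP⟩ := this
      exact hxA P hP hxP
    have hloc : IsLocalRing (R ⧸ Ideal.span {x}) :=
      RegLoc.isLocalRing_quotient ((Ideal.span_singleton_le_iff_mem _).mpr hx)
    -- embedding dimension drops
    have hlt : (maximalIdeal (R ⧸ Ideal.span {x})).spanFinrank < e := by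
      obtain ⟨s, hs, hs'⟩ := Submodule.FG.exists_span_finset_card_eq_spanFinrank
        (IsNoetherian.noetherian (maximalIdeal R))
      obtain ⟨y, hy, hspan⟩ := RegLoc.exists_mem_span_insert_erase hs' s subset_rfl hx
        (by simpa using hx2)
      have hpos : 0 < s.card := Finset.card_pos.mpr ⟨y, hy⟩
      rw [RegLoc.maximalIdeal_quotient_eq_map, ← hspan, Finset.coe_insert, Ideal.span_insert,
        Ideal.map_sup, Ideal.map_quotient_self, bot_sup_eq, Ideal.map_span]
      refine lt_of_le_of_lt (Submodule.spanFinrank_span_le_ncard_of_finite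
        ((Finset.finite_toSet _).image _)) ?_
      refine lt_of_le_of_lt (Set.ncard_image_le (Finset.finite_toSet _)) ?_
      rw [Set.ncard_coe_finset, Finset.card_erase_of_mem hy]
      omega
    -- `m` has finite projective dimension
    have hm : HasProjectiveDimensionLE (ModuleCat.of R (maximalIdeal R)) n := by
      have := pd_mono _ (Nat.le_succ n) hn
      rw [pd_shift (Algebra.linearMap R (ResidueField R)) residue_surjective] at this
      refine pd_congr (LinearEquiv.ofEq _ _ ?_) n this
      ext a
      rw [LinearMap.mem_ker, Algebra.linearMap_apply, ResidueField.algebraMap_eq, residue_eq_zero_iff]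
    have hxm : IsSMulRegular (maximalIdeal R) x := fun a b h =>
      Subtype.ext (hxreg (congrArg Subtype.val h))
    have hT := pd_baseChange_quotient hxreg n _ hxm hm
    -- the residue field of `R/x` is a retract of `m/xm`
    obtain ⟨ψ, hψ⟩ := exists_functional hx hx2
    let S := R ⧸ Ideal.span {x}
    let kmap : R →ₗ[R] S ⧸ maximalIdeal S :=
      (Submodule.mkQ (maximalIdeal S)).restrictScalars R ∘ₗ Algebra.linearMap R S
    have hle : maximalIdeal R ≤ LinearMap.ker kmap := by
      intro a ha
      simp only [kmap, LinearMap.mem_ker, LinearMap.comp_apply, LinearMap.restrictScalars_apply,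
        Submodule.mkQ_apply, Submodule.Quotient.mk_eq_zero, Algebra.linearMap_apply,
        Ideal.Quotient.algebraMap_eq, S]
      rw [RegLoc.maximalIdeal_quotient_eq_map]
      exact Ideal.mem_map_of_mem _ ha
    let back : S ⊗[R] maximalIdeal R →ₗ[S] S ⧸ maximalIdeal S :=
      LinearMap.liftBaseChange S (Submodule.liftQ (maximalIdeal R) kmap hle ∘ₗ ψ)
    let forth : (S ⧸ maximalIdeal S) →ₗ[S] S ⊗[R] maximalIdeal R :=
      Submodule.liftQ (maximalIdeal S) (LinearMap.toSpanSingleton S _ (1 ⊗ₜ ⟨x, hx⟩)) (by
        intro a ha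
        obtain ⟨a, rfl⟩ := Ideal.Quotient.mk_surjective a
        rw [RegLoc.maximalIdeal_quotient_eq_map, Ideal.mem_quotient_iff_mem
          ((Ideal.span_singleton_le_iff_mem _).mpr hx)] at ha
        rw [LinearMap.mem_ker, LinearMap.toSpanSingleton_apply, TensorProduct.smul_tmul', smul_eq_mul,
          mul_one, show (Ideal.Quotient.mk (Ideal.span {x}) a : S) = a • (1 : S) from
            (Algebra.algebraMap_eq_smul_one (A := S) a),
          TensorProduct.smul_tmul, show a • (⟨x, hx⟩ : maximalIdeal R) = x • ⟨a, ha⟩ from
            Subtype.ext (mul_comm a x), ← TensorProduct.smul_tmul, ← Algebra.algebraMap_eq_smul_one,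
          Ideal.Quotient.algebraMap_eq,
          Ideal.Quotient.eq_zero_iff_mem.mpr (Ideal.mem_span_singleton_self x),
          TensorProduct.zero_tmul])
    have hret : back ∘ₗ forth = LinearMap.id := by
      refine LinearMap.ext fun c => ?_
      obtain ⟨c, rfl⟩ := Submodule.Quotient.mk_surjective _ c
      rw [LinearMap.comp_apply,
        show forth (Submodule.Quotient.mk c) = c • ((1 : S) ⊗ₜ[R] (⟨x, hx⟩ : maximalIdeal R)) from rfl,
        map_smul, LinearMap.liftBaseChange_tmul, one_smul]
      change c • Submodule.liftQ (maximalIdeal R) kmap hle (ψ ⟨x, hx⟩) = _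
      rw [hψ,
        show Submodule.liftQ (maximalIdeal R) kmap hle (1 : ResidueField R) =
          Submodule.Quotient.mk (algebraMap R S 1) from rfl,
        map_one, ← Submodule.Quotient.mk_smul, smul_eq_mul, mul_one, LinearMap.id_apply]
    have hk := pd_retract forth back hret n hT
    have := ih _ hlt S rfl n hk
    exact RegLoc.isRegularLocalRing_of_quotient_span_singleton hx
      (mem_nonZeroDivisors_iff_right.mpr fun a ha => hxreg (by simpa [mul_comm] using ha))

theorem isRegularLocalRing_of_pd_residueField [IsLocalRing R] [IsNoetherianRing R] (n : ℕ)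
    (h : HasProjectiveDimensionLE (ModuleCat.of R (ResidueField R)) n) : IsRegularLocalRing R :=
  serre_aux _ R rfl n h

theorem projectiveDimension_residueField [IsRegularLocalRing R] {d : ℕ} (hd : ringKrullDim R = d) :
    projectiveDimension (ModuleCat.of R (ResidueField R)) = d := by
  classical
  obtain ⟨g, hg⟩ : ∃ g : Fin d → R, Ideal.span (Set.range g) = maximalIdeal R := by
    obtain ⟨s, hs, hs'⟩ := Submodule.FG.exists_span_finset_card_eq_spanFinrank
      (IsNoetherian.noetherian (maximalIdeal R))
    rw [RegLoc.spanFinrank_eq_dim hd] at hs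
    subst hs
    exact ⟨fun i => (s.equivFin.symm i : R), by
      rw [show (fun i => (s.equivFin.symm i : R)) = Subtype.val ∘ s.equivFin.symm from rfl,
        Set.range_comp, Equiv.range_eq_univ, Set.image_univ, Subtype.range_coe_subtype]
      exact hs'⟩
  have h := ModuleCat.projectiveDimension_quotient_eq_length.{u} (List.ofFn g)
    (RegLoc.isRegular_ofFn hd g hg)
  rw [List.length_ofFn] at h
  rw [← h]
  refine ModuleCat.projectiveDimension_eq_of_linearEquiv ?_
  refine LinearEquiv.trans (Submodule.quotEquivOfEq _ _ ?_) (Shrink.linearEquiv R _).symm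
  rw [← hg, Ideal.ofList]
  congr 1
  ext; simp [List.mem_ofFn]

theorem isRegularLocalRing_localization [IsRegularLocalRing R] (p : Ideal R) [p.IsPrime] :
    IsRegularLocalRing (Localization.AtPrime p) := by
  obtain ⟨d, hd, -⟩ := RegLoc.exists_natCast_eq_ringKrullDim R
  let S := Localization.AtPrime p
  have h := pd_baseChange_of_flat S d _ (pd_le_dim hd (R ⧸ p))
  refine isRegularLocalRing_of_pd_residueField d (pd_congr
    ((Algebra.TensorProduct.quotIdealMapEquivTensorQuot S p).symm.toLinearEquiv.trans
      (Submodule.quotEquivOfEq _ _ ?_)) d h)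
  exact Localization.AtPrime.map_eq_maximalIdeal

theorem isRegularRing [IsRegularLocalRing R] : IsRegularRing R :=
  isRegularRing_iff.mpr fun p _ => isRegularLocalRing_localization p

theorem isRegularLocalRing_of_flat [IsLocalRing R] [IsNoetherianRing R] (S : Type u) [CommRing S]
    [IsRegularLocalRing S] [Algebra R S] [IsLocalHom (algebraMap R S)] [Module.Flat R S] :
    IsRegularLocalRing R := by
  have := Module.FaithfullyFlat.of_flat_of_isLocalHom (A := R) (B := S)
  obtain ⟨d, hd, -⟩ := RegLoc.exists_natCast_eq_ringKrullDim S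
  exact isRegularLocalRing_of_pd_residueField d
    (pd_of_faithfullyFlat S d _ (pd_le_dim hd _))

end Groth.Agent.RegLoc.Homological
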