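import Mathlib.RingTheory.RegularLocalRing.Defs
import Mathlib.RingTheory.KrullDimension.Regular
import Mathlib.RingTheory.KrullDimension.NonZeroDivisors
import Mathlib.RingTheory.Regular.RegularSequence
import Mathlib.RingTheory.Ideal.MinimalPrime.Localization

/-!
# Basic theory of regular local rings

* `maximalIdeal_quotient_eq_map`, `maximalIdeal_le_sup_of_swap`
* `isRegularLocalRing_quotient_of_sup_eq` : `R` regular, `I ⊔ J = m`, `μ I + μ J ≤ dim` gives `R ⧸ I` regular
* `isRegularLocalRing_quotient_span_singleton` : `x ∈ m \ m²`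
* `isDomain` : regular local rings are domains
* `isRegular_ofFn` : a minimal generating family of `m` is a regular sequence
* `isRegularLocalRing_of_quotient_span_singleton` : `R/x` regular, `x` NZD gives `R` regular
* `exists_finset_span_eq_of_quotient` : `R/I` regular gives `I` generated by part of a minimal generating set
-/

namespace Groth.Agent.RegLoc

open IsLocalRing

variable {R : Type*} [CommRing R]

lemma exists_natCast_eq_ringKrullDim (R : Type*) [CommRing R] [IsLocalRing R] [IsNoetherianRing R] :
    ∃ n : ℕ, ringKrullDim R = n ∧ n ≤ (maximalIdeal R).spanFinrank := by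
  have h := ringKrullDim_le_spanFinrank_maximalIdeal R
  have h0 := ringKrullDim_nonneg_of_nontrivial (R := R)
  generalize ringKrullDim R = d at h h0
  induction d using WithBot.recBotCoe with
  | bot => simp at h0
  | coe e =>
    induction e using ENat.recTopCoe with
    | top => exact absurd (WithBot.coe_le_coe.mp h) (by simp)
    | coe n =>
      refine ⟨n, rfl, ?_⟩
      exact_mod_cast h

lemma spanFinrank_eq_dim [IsRegularLocalRing R] {n : ℕ} (hn : ringKrullDim R = n) :
    (maximalIdeal R).spanFinrank = n := by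
  have h := (isRegularLocalRing_iff R).mp ‹_›
  rw [hn] at h
  exact_mod_cast h

section Local

variable [IsLocalRing R]

lemma isLocalRing_quotient {I : Ideal R} (hI : I ≤ maximalIdeal R) : IsLocalRing (R ⧸ I) :=
  have : Nontrivial (R ⧸ I) := Ideal.Quotient.nontrivial_iff.mpr
    (fun h => (maximalIdeal.isMaximal R).ne_top (top_le_iff.mp (h ▸ hI)))
  .of_surjective' (Ideal.Quotient.mk I) Ideal.Quotient.mk_surjective

lemma maximalIdeal_quotient_eq_map (I : Ideal R) [IsLocalRing (R ⧸ I)] :
    maximalIdeal (R ⧸ I) = (maximalIdeal R).map (Ideal.Quotient.mk I) :=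
  (map_maximalIdeal_of_surjective _ Ideal.Quotient.mk_surjective).symm

lemma le_maximalIdeal_of_isLocalRing_quotient (I : Ideal R) [IsLocalRing (R ⧸ I)] :
    I ≤ maximalIdeal R := by
  refine le_maximalIdeal ?_
  rintro rfl
  exact not_subsingleton (R ⧸ (⊤ : Ideal R)) (Ideal.Quotient.subsingleton_iff.mpr rfl)

section Noetherian

variable [IsNoetherianRing R]

/-- Nakayama in the form `m = J + m²` implies `m = J`. -/
lemma eq_maximalIdeal_of_le_sup_sq {J : Ideal R} (hJ : J ≤ maximalIdeal R)
    (h : maximalIdeal R ≤ J ⊔ maximalIdeal R ^ 2) : J = maximalIdeal R := by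
  refine le_antisymm hJ (Submodule.le_of_le_smul_of_le_jacobson_bot
    (IsNoetherian.noetherian _) (maximalIdeal_le_jacobson _) ?_)
  rwa [smul_eq_mul, ← pow_two]

/-- The number of generators of `m` is at most that of `m/I` plus that of `I`. -/
lemma spanFinrank_maximalIdeal_le_quotient_add (I : Ideal R) [IsLocalRing (R ⧸ I)] :
    (maximalIdeal R).spanFinrank ≤ (maximalIdeal (R ⧸ I)).spanFinrank + I.spanFinrank := by
  classical
  obtain ⟨s, hs, hs'⟩ := Submodule.FG.exists_span_finset_card_eq_spanFinrank
    (IsNoetherian.noetherian (maximalIdeal (R ⧸ I)))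
  obtain ⟨t, ht, ht'⟩ := Submodule.FG.exists_span_finset_card_eq_spanFinrank
    (IsNoetherian.noetherian I)
  rw [← hs, ← ht]
  choose g hg using Ideal.Quotient.mk_surjective (I := I)
  have hI := le_maximalIdeal_of_isLocalRing_quotient I
  have hsp : maximalIdeal R = Ideal.span ((s.image g ∪ t : Finset R) : Set R) := by
    have h1 : (maximalIdeal R).map (Ideal.Quotient.mk I) =
        (Ideal.span (s.image g : Set R)).map (Ideal.Quotient.mk I) := by
      rw [← maximalIdeal_quotient_eq_map, Ideal.map_span, Finset.coe_image, ← Set.image_comp]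
      simpa [Function.comp_def, hg] using hs'.symm
    have h2 := congrArg (Ideal.comap (Ideal.Quotient.mk I)) h1
    simp only [Ideal.comap_map_of_surjective _ Ideal.Quotient.mk_surjective, ← RingHom.ker_eq_comap_bot,
      Ideal.mk_ker] at h2
    rw [sup_eq_left.mpr hI] at h2
    rw [h2, Finset.coe_union, Ideal.span_union]
    congr 1
    exact ht'.symm
  rw [hsp]
  refine (Submodule.spanFinrank_span_le_ncard_of_finite (Finset.finite_toSet _)).trans ?_
  rw [Set.ncard_coe_finset]
  exact (Finset.card_union_le _ _).trans (Nat.add_le_add_right Finset.card_image_le _)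

omit [IsNoetherianRing R] in
/-- An element of `m` which is not in `m²` can be exchanged for one generator. -/
lemma exists_mem_span_insert_erase [DecidableEq R] {s : Finset R} {x : R}
    (hs : Ideal.span (s : Set R) = maximalIdeal R) (t : Finset R) (hts : t ⊆ s)
    (hx : x ∈ maximalIdeal R) (hx' : x ∉ Ideal.span ((s \ t : Finset R) : Set R) ⊔ maximalIdeal R ^ 2) :
    ∃ y ∈ t, Ideal.span ((insert x (s.erase y) : Finset R) : Set R) = maximalIdeal R := by
  rw [← hs, Submodule.mem_span_finset] at hx
  obtain ⟨f, -, hf⟩ := hx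
  have hmem : ∀ z ∈ s, z ∈ maximalIdeal R := fun z hz => hs ▸ Ideal.subset_span hz
  obtain ⟨y, hy, hyu⟩ : ∃ y ∈ t, IsUnit (f y) := by
    by_contra h
    push Not at h
    apply hx'
    rw [← hf, ← Finset.sum_sdiff hts]
    refine add_mem (Submodule.mem_sup_left ?_) (Submodule.mem_sup_right ?_)
    · exact sum_mem fun z hz => Ideal.mul_mem_left _ _ (Ideal.subset_span hz)
    · exact sum_mem fun z hz => pow_two (maximalIdeal R) ▸
        Ideal.mul_mem_mul (h z hz) (hmem z (hts hz))
  refine ⟨y, hy, le_antisymm ?_ ?_⟩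
  · rw [Ideal.span_le, Finset.coe_insert, Set.insert_subset_iff]
    refine ⟨?_, fun z hz => hmem z (Finset.mem_of_mem_erase hz)⟩
    rw [← hf]
    exact sum_mem fun z hz => Ideal.mul_mem_left _ _ (hmem z hz)
  · have key : Ideal.span ((insert x (s.erase y) : Finset R) : Set R) ≥
        Ideal.span (s : Set R) := by
      refine Ideal.span_le.mpr fun z hz => ?_
      by_cases hzy : z = y
      · subst hzy
        rw [SetLike.mem_coe, ← Ideal.unit_mul_mem_iff_mem _ hyu]
        have h1 : f z * z = x - ∑ w ∈ s.erase z, f w • w := by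
          rw [← hf, ← Finset.add_sum_erase _ _ hz, smul_eq_mul]; ring
        rw [h1]
        refine sub_mem (Ideal.subset_span (by simp)) (sum_mem fun w hw => Ideal.mul_mem_left _ _
          (Ideal.subset_span (by simp [Finset.mem_erase.mp hw])))
      · exact Ideal.subset_span (by simp [hzy, Finset.mem_coe.mp hz])
    exact hs.symm.trans_le key

/-- If `R/x` is regular for a nonzerodivisor `x ∈ m`, then `R` is regular. -/
theorem isRegularLocalRing_of_quotient_span_singleton {x : R} (hx : x ∈ maximalIdeal R)
    (hreg : x ∈ nonZeroDivisors R) [IsRegularLocalRing (R ⧸ Ideal.span {x})] :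
    IsRegularLocalRing R := by
  refine IsRegularLocalRing.of_spanFinrank_maximalIdeal_le _ ?_
  rw [← ringKrullDim_quotient_span_singleton_succ_eq_ringKrullDim_of_mem_nonZeroDivisors hreg hx,
    ← (isRegularLocalRing_iff (R ⧸ Ideal.span {x})).mp ‹_›]
  have h := spanFinrank_maximalIdeal_le_quotient_add (Ideal.span {x})
  have h' : (Ideal.span {x}).spanFinrank ≤ 1 :=
    (Submodule.spanFinrank_span_le_ncard_of_finite (Set.finite_singleton x)).trans
      (Set.ncard_singleton x).le
  exact_mod_cast (by omega : (maximalIdeal R).spanFinrank ≤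
    (maximalIdeal (R ⧸ Ideal.span {x})).spanFinrank + 1)

end Noetherian

end Local

section Regular

variable [IsRegularLocalRing R]

/-- `R` regular, `I + J = m` with few generators: `R ⧸ I` is regular of the expected dimension. -/
lemma isRegularLocalRing_quotient_of_sup_eq {I J : Ideal R} {n a b : ℕ}
    (hn : ringKrullDim R = n) (hIJ : I ⊔ J = maximalIdeal R) (hI : I.spanFinrank ≤ a)
    (hJ : J.spanFinrank ≤ b) (hab : a + b ≤ n) :
    IsRegularLocalRing (R ⧸ I) ∧ ∃ e : ℕ, ringKrullDim (R ⧸ I) = e ∧ e + a = n ∧ e = b := by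
  have hIm : I ≤ maximalIdeal R := hIJ ▸ le_sup_left
  have := isLocalRing_quotient hIm
  obtain ⟨e, he, hle⟩ := exists_natCast_eq_ringKrullDim (R ⧸ I)
  have h1 : (maximalIdeal (R ⧸ I)).spanFinrank ≤ b := by
    rw [maximalIdeal_quotient_eq_map, ← hIJ, Ideal.map_sup, Ideal.map_quotient_self, bot_sup_eq]
    exact (Ideal.spanFinrank_map_le_of_fg _ (IsNoetherian.noetherian J)).trans hJ
  have h2 : n ≤ e + I.spanFinrank := by
    have := ringKrullDim_le_ringKrullDim_quotient_add_spanFinrank I
      (hIm.trans (IsLocalRing.ringJacobson_eq_maximalIdeal R).ge)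
    rw [hn, he] at this
    exact_mod_cast this
  refine ⟨IsRegularLocalRing.of_spanFinrank_maximalIdeal_le _ ?_, e, he, by omega, by omega⟩
  rw [he]
  exact_mod_cast (by omega : (maximalIdeal (R ⧸ I)).spanFinrank ≤ e)


/-- Dividing a regular local ring by `x ∈ m \ m²` gives a regular local ring. -/
lemma isRegularLocalRing_quotient_span_singleton {x : R} (hx : x ∈ maximalIdeal R)
    (hx2 : x ∉ maximalIdeal R ^ 2) {n : ℕ} (hn : ringKrullDim R = n) :
    IsRegularLocalRing (R ⧸ Ideal.span {x}) ∧
      ∃ e : ℕ, ringKrullDim (R ⧸ Ideal.span {x}) = e ∧ e + 1 = n := by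
  classical
  obtain ⟨s, hs, hs'⟩ := Submodule.FG.exists_span_finset_card_eq_spanFinrank
    (IsNoetherian.noetherian (maximalIdeal R))
  rw [spanFinrank_eq_dim hn] at hs
  obtain ⟨y, hy, hspan⟩ := exists_mem_span_insert_erase hs' s subset_rfl hx (by simpa using hx2)
  rw [Finset.coe_insert, Ideal.span_insert] at hspan
  have hpos : 1 ≤ s.card := Finset.card_pos.mpr ⟨y, hy⟩
  obtain ⟨h1, e, he, he', -⟩ := isRegularLocalRing_quotient_of_sup_eq (a := 1)
    (b := (s.erase y).card) hn hspan
    ((Submodule.spanFinrank_span_le_ncard_of_finite (Set.finite_singleton x)).trans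
      (Set.ncard_singleton x).le)
    ((Submodule.spanFinrank_span_le_ncard_of_finite (Finset.finite_toSet _)).trans
      (Set.ncard_coe_finset _).le)
    (by rw [Finset.card_erase_of_mem hy]; omega)
  exact ⟨h1, e, he, he'⟩

theorem isDomain_aux (n : ℕ) : ∀ (A : Type*) [CommRing A] [IsRegularLocalRing A],
    ringKrullDim A = n → IsDomain A := by
  induction n using Nat.strong_induction_on with
  | _ n ih =>
    intro A _ _ hn
    have hμ := spanFinrank_eq_dim hn
    have hfg := IsNoetherian.noetherian (maximalIdeal A)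
    rcases Nat.eq_zero_or_pos n with rfl | hpos
    · rw [Submodule.spanFinrank_eq_zero_iff_eq_bot hfg] at hμ
      exact (isField_iff_maximalIdeal_eq.mpr hμ).isDomain
    classical
    have hfin := minimalPrimes.finite_of_isNoetherianRing A
    -- an element of `m` outside `m²` and outside all minimal primes
    obtain ⟨x, hx, hx2, hxP⟩ : ∃ x ∈ maximalIdeal A, x ∉ maximalIdeal A ^ 2 ∧
        ∀ P ∈ minimalPrimes A, x ∉ P := by
      by_contra h
      push Not at h
      have hsub : (maximalIdeal A : Set A) ⊆
          ⋃ P ∈ (↑(insert (maximalIdeal A ^ 2) hfin.toFinset) : Set (Ideal A)), (P : Set A) := by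
        intro x hx
        simp only [Set.mem_iUnion, Finset.coe_insert, Set.mem_insert_iff, exists_prop,
          Set.Finite.coe_toFinset, SetLike.mem_coe]
        by_cases hx2 : x ∈ maximalIdeal A ^ 2
        · exact ⟨_, Or.inl rfl, hx2⟩
        · obtain ⟨P, hP, hxP⟩ := h x hx hx2
          exact ⟨P, Or.inr hP, hxP⟩
      rw [Ideal.subset_union_prime (maximalIdeal A ^ 2) (maximalIdeal A ^ 2)] at hsub
      · obtain ⟨P, hP, hle⟩ := hsub
        rcases Finset.mem_insert.mp hP with rfl | hP
        · have := eq_maximalIdeal_of_le_sup_sq (J := (⊥ : Ideal A)) bot_le (by simpa using hle)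
          rw [← this, Submodule.spanFinrank_bot] at hμ
          omega
        · rw [hfin.mem_toFinset] at hP
          have hPp : P.IsPrime := Ideal.IsMinimalPrime.isPrime hP
          have hPm : P = maximalIdeal A := le_antisymm (le_maximalIdeal hPp.ne_top) hle
          have h0 : (maximalIdeal A).height = 0 := by
            subst hPm
            rwa [Ideal.height_eq_zero_iff]
          have := maximalIdeal_height_eq_ringKrullDim (R := A)
          rw [h0, hn] at this
          have : n = 0 := by exact_mod_cast this.symm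
          omega
      · intro P hP h1 _
        rcases Finset.mem_insert.mp hP with rfl | hP
        · exact absurd rfl h1
        · exact Ideal.IsMinimalPrime.isPrime (hfin.mem_toFinset.mp hP)
    obtain ⟨hreg, e, he, hen⟩ := isRegularLocalRing_quotient_span_singleton hx hx2 hn
    have := ih e (by omega) _ he
    have hprime : (Ideal.span {x}).IsPrime := (Ideal.Quotient.isDomain_iff_prime _).mp this
    obtain ⟨P, hP, hle⟩ := Ideal.exists_minimalPrimes_le (I := (⊥ : Ideal A))
      (J := Ideal.span {x}) bot_le
    have hPp : P.IsPrime := Ideal.IsMinimalPrime.isPrime hP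
    have hxnP := hxP P hP
    have hsmul : P ≤ Ideal.span {x} • P := by
      intro y hy
      obtain ⟨a, rfl⟩ := Ideal.mem_span_singleton'.mp (hle hy)
      rw [mul_comm, smul_eq_mul]
      exact Ideal.mul_mem_mul (Ideal.mem_span_singleton_self x)
        ((hPp.mem_or_mem hy).resolve_right hxnP)
    have hbot : P = ⊥ := Submodule.eq_bot_of_le_smul_of_le_jacobson_bot _ _
      (IsNoetherian.noetherian _) hsmul
      (((Ideal.span_singleton_le_iff_mem _).mpr hx).trans (maximalIdeal_le_jacobson _))
    rw [hbot] at hPp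
    exact IsDomain.of_bot_isPrime A

/-- Regular local rings are domains. -/
theorem isDomain (A : Type*) [CommRing A] [IsRegularLocalRing A] : IsDomain A :=
  (exists_natCast_eq_ringKrullDim A).elim fun n h => isDomain_aux n A h.1

/-- A minimal generating family of the maximal ideal is a regular sequence. -/
theorem isRegular_ofFn {n : ℕ} (hn : ringKrullDim R = n) (x : Fin n → R)
    (hx : Ideal.span (Set.range x) = maximalIdeal R) :
    RingTheory.Sequence.IsRegular R (List.ofFn x) := by
  classical
  have hmem : ∀ i, x i ∈ maximalIdeal R := fun i => hx ▸ Ideal.subset_span (Set.mem_range_self i)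
  rw [IsLocalRing.isRegular_iff_isWeaklyRegular_of_subset_maximalIdeal (by simpa using hmem)]
  refine ⟨fun i hi => ?_⟩
  simp only [List.length_ofFn] at hi
  set I : Ideal R := Ideal.ofList ((List.ofFn x).take i) with hI
  have hI' : I = Ideal.span (x '' {j | (j : ℕ) < i}) := by
    rw [hI, Ideal.ofList]
    congr 1
    ext z
    simp only [List.mem_take_iff_getElem, List.getElem_ofFn, List.length_ofFn, Set.mem_image]
    constructor
    · rintro ⟨j, hj, rfl⟩
      exact ⟨⟨j, (lt_min_iff.mp hj).2⟩, (lt_min_iff.mp hj).1, rfl⟩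
    · rintro ⟨⟨j, hjn⟩, hj, rfl⟩
      exact ⟨j, lt_min hj hjn, rfl⟩
  set J : Ideal R := Ideal.span (x '' {j | i ≤ (j : ℕ)}) with hJ
  clear_value I J
  have hIJ : I ⊔ J = maximalIdeal R := by
    rw [hI', hJ, ← Ideal.span_union, ← Set.image_union, ← hx]
    congr 1
    rw [← Set.image_univ]
    congr 1
    ext j
    simp [lt_or_ge]
  have hs : ∀ s : Set (Fin n), (Ideal.span (x '' s)).spanFinrank ≤ s.ncard := fun s =>
    (Submodule.spanFinrank_span_le_ncard_of_finite (s.toFinite.image x)).trans
      (Set.ncard_image_le s.toFinite)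
  have hc1 : ({j : Fin n | (j : ℕ) < i}).ncard = i := by
    have : {j : Fin n | (j : ℕ) < i} = Set.range (Fin.castLE hi.le) := by
      ext j; exact ⟨fun h => ⟨⟨j, h⟩, rfl⟩, fun ⟨k, hk⟩ => hk ▸ k.2⟩
    rw [this, Set.ncard_range_of_injective (Fin.castLE_injective _), Nat.card_fin]
  have hc2 : ({j : Fin n | i ≤ (j : ℕ)}).ncard = n - i := by
    have : {j : Fin n | i ≤ (j : ℕ)} = {j : Fin n | (j : ℕ) < i}ᶜ := by ext j; simp
    rw [this, Set.ncard_compl, hc1, Nat.card_fin]
  obtain ⟨hreg, -⟩ := isRegularLocalRing_quotient_of_sup_eq (a := i) (b := n - i) hn hIJ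
    (hI' ▸ (hs _).trans hc1.le) (hJ ▸ (hs _).trans hc2.le) (by omega)
  have hdom := isDomain (R ⧸ I)
  have hxi : x ⟨i, hi⟩ ∉ I := by
    intro hmemI
    have hle : maximalIdeal R ≤ Ideal.span (x '' {j | (j : ℕ) ≠ i}) := by
      rw [← hx, Ideal.span_le]
      rintro _ ⟨j, rfl⟩
      by_cases hj : (j : ℕ) = i
      · have : j = ⟨i, hi⟩ := Fin.ext hj
        subst this
        exact Ideal.span_mono (Set.image_mono (s := {j : Fin n | (j : ℕ) < i})
          (t := {j | (j : ℕ) ≠ i}) fun k (hk : (k : ℕ) < i) => Nat.ne_of_lt hk) (hI' ▸ hmemI)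
      · exact Ideal.subset_span ⟨j, hj, rfl⟩
    have heq : Ideal.span (x '' {j | (j : ℕ) ≠ i}) = maximalIdeal R :=
      le_antisymm (Ideal.span_le.mpr (by rintro _ ⟨j, -, rfl⟩; exact hmem j)) hle
    have h := hs {j | (j : ℕ) ≠ i}
    have hne : {j : Fin n | (j : ℕ) ≠ i} = {⟨i, hi⟩}ᶜ := by ext j; simp [Fin.ext_iff]
    rw [heq, spanFinrank_eq_dim hn, hne, Set.ncard_compl, Set.ncard_singleton, Nat.card_fin] at h
    omega
  have hIs : (I • ⊤ : Submodule R R) = I := Ideal.mul_top I
  simp only [List.getElem_ofFn]
  rw [hIs]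
  intro a b hab
  induction a using Submodule.Quotient.induction_on with | _ a => ?_
  induction b using Submodule.Quotient.induction_on with | _ b => ?_
  simp only [← Submodule.Quotient.mk_smul, Submodule.Quotient.eq] at hab ⊢
  rw [← smul_sub, smul_eq_mul] at hab
  exact (((Ideal.Quotient.isDomain_iff_prime I).mp hdom).mem_or_mem hab).resolve_left hxi

/-- If `R ⧸ I` is regular, `I` is generated by part of a minimal generating set of `m`. -/
theorem exists_finset_span_eq_of_quotient {n : ℕ} (hn : ringKrullDim R = n) (I : Ideal R)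
    [IsRegularLocalRing (R ⧸ I)] :
    ∃ (s t : Finset R), Ideal.span (s : Set R) = I ∧
      Ideal.span (s : Set R) ⊔ Ideal.span (t : Set R) = maximalIdeal R ∧ s.card + t.card = n := by
  classical
  suffices h : ∀ (k : ℕ) (s t : Finset R), t.card ≤ k → (s : Set R) ⊆ I →
      Ideal.span (s : Set R) ⊔ Ideal.span (t : Set R) = maximalIdeal R → s.card + t.card = n →
      ∃ (s t : Finset R), I ≤ Ideal.span (s : Set R) ⊔ maximalIdeal R ^ 2 ∧ (s : Set R) ⊆ I ∧
      Ideal.span (s : Set R) ⊔ Ideal.span (t : Set R) = maximalIdeal R ∧ s.card + t.card = n by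
    obtain ⟨t₀, ht, ht'⟩ := Submodule.FG.exists_span_finset_card_eq_spanFinrank
      (IsNoetherian.noetherian (maximalIdeal R))
    rw [spanFinrank_eq_dim hn] at ht
    obtain ⟨s, t, hI, hsI, hst, hcard⟩ := h _ ∅ t₀ le_rfl (by simp) (by simpa using ht') (by simpa)
    refine ⟨s, t, ?_, hst, hcard⟩
    have hle : Ideal.span (s : Set R) ≤ I := Ideal.span_le.mpr hsI
    obtain ⟨hreg, e, he, hea, -⟩ := isRegularLocalRing_quotient_of_sup_eq (a := s.card)
      (b := t.card) hn hst
      ((Submodule.spanFinrank_span_le_ncard_of_finite (Finset.finite_toSet _)).trans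
        (Set.ncard_coe_finset _).le)
      ((Submodule.spanFinrank_span_le_ncard_of_finite (Finset.finite_toSet _)).trans
        (Set.ncard_coe_finset _).le) hcard.le
    obtain ⟨f, hf, -⟩ := exists_natCast_eq_ringKrullDim (R ⧸ I)
    have hμI := spanFinrank_eq_dim hf
    have hIm := le_maximalIdeal_of_isLocalRing_quotient I
    -- lifts of generators of `m/I`
    obtain ⟨u, hu, hu'⟩ := Submodule.FG.exists_span_finset_card_eq_spanFinrank
      (IsNoetherian.noetherian (maximalIdeal (R ⧸ I)))
    rw [hμI] at hu
    choose g hg using Ideal.Quotient.mk_surjective (I := I)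
    have h2 : maximalIdeal R = Ideal.span (u.image g : Set R) ⊔ I := by
      have h1 : (maximalIdeal R).map (Ideal.Quotient.mk I) =
          (Ideal.span (u.image g : Set R)).map (Ideal.Quotient.mk I) := by
        rw [← maximalIdeal_quotient_eq_map, Ideal.map_span, Finset.coe_image, ← Set.image_comp]
        simpa [Function.comp_def, hg] using hu'.symm
      have h2 := congrArg (Ideal.comap (Ideal.Quotient.mk I)) h1
      simp only [Ideal.comap_map_of_surjective _ Ideal.Quotient.mk_surjective,
        ← RingHom.ker_eq_comap_bot, Ideal.mk_ker] at h2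
      rwa [sup_eq_left.mpr hIm] at h2
    have h3 : Ideal.span ((u.image g ∪ s : Finset R) : Set R) = maximalIdeal R := by
      rw [Finset.coe_union, Ideal.span_union]
      refine eq_maximalIdeal_of_le_sup_sq (sup_le (h2 ▸ le_sup_left) (hle.trans hIm)) ?_
      calc maximalIdeal R = Ideal.span (u.image g : Set R) ⊔ I := h2
        _ ≤ Ideal.span (u.image g : Set R) ⊔ (Ideal.span (s : Set R) ⊔ maximalIdeal R ^ 2) :=
          sup_le_sup_left hI _
        _ = _ := (sup_assoc _ _ _).symm
    have h4 : n ≤ f + s.card := by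
      rw [← spanFinrank_eq_dim hn, ← h3]
      refine (Submodule.spanFinrank_span_le_ncard_of_finite (Finset.finite_toSet _)).trans ?_
      rw [Set.ncard_coe_finset, ← hu]
      exact (Finset.card_union_le _ _).trans (Nat.add_le_add_right Finset.card_image_le _)
    have := isDomain (R ⧸ Ideal.span (s : Set R))
    by_contra hne
    obtain ⟨z, hzI, hzs⟩ := SetLike.exists_of_lt (lt_of_le_of_ne hle hne)
    have hlt := ringKrullDim_succ_le_of_surjective (Ideal.Quotient.factor hle)
      (Ideal.Quotient.factor_surjective hle) (r := Ideal.Quotient.mk _ z)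
      (mem_nonZeroDivisors_of_ne_zero (by simpa [Ideal.Quotient.eq_zero_iff_mem] using hzs))
      (by simpa [Ideal.Quotient.eq_zero_iff_mem] using hzI)
    rw [he, hf] at hlt
    have hlt' : f + 1 ≤ e := by exact_mod_cast hlt
    omega
  intro k
  induction k with
  | zero =>
    intro s t hk hsI hst hcard
    refine ⟨s, t, ?_, hsI, hst, hcard⟩
    simp only [nonpos_iff_eq_zero, Finset.card_eq_zero] at hk
    subst hk
    have h : Ideal.span (s : Set R) = maximalIdeal R := by simpa using hst
    rw [h]
    exact (le_maximalIdeal_of_isLocalRing_quotient I).trans le_sup_left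
  | succ k ih =>
    intro s t hk hsI hst hcard
    by_cases hI : I ≤ Ideal.span (s : Set R) ⊔ maximalIdeal R ^ 2
    · exact ⟨s, t, hI, hsI, hst, hcard⟩
    obtain ⟨z, hzI, hz⟩ := SetLike.not_le_iff_exists.mp hI
    have hspan : Ideal.span ((s ∪ t : Finset R) : Set R) = maximalIdeal R := by
      rwa [Finset.coe_union, Ideal.span_union]
    obtain ⟨y, hy, hy'⟩ := exists_mem_span_insert_erase hspan (t \ s)
      (Finset.sdiff_subset.trans Finset.subset_union_right)
      (le_maximalIdeal_of_isLocalRing_quotient I hzI) (fun h => hz <| by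
        have hsub : (((s ∪ t) \ (t \ s) : Finset R) : Set R) ⊆ (s : Set R) := by
          intro w; simp; tauto
        exact (sup_le_sup_right (Ideal.span_mono hsub) (maximalIdeal R ^ 2) :) h)
    have hzs : z ∉ s := fun h => hz (Submodule.mem_sup_left (Ideal.subset_span h))
    rw [Finset.mem_sdiff] at hy
    have hpos : 1 ≤ t.card := Finset.card_pos.mpr ⟨y, hy.1⟩
    refine ih (insert z s) (t.erase y) (by rw [Finset.card_erase_of_mem hy.1]; omega)
      (by simp [Set.insert_subset_iff, hzI, hsI]) ?_
      (by rw [Finset.card_insert_of_notMem hzs, Finset.card_erase_of_mem hy.1]; omega)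
    rw [← Ideal.span_union, ← hy']
    congr 1
    ext w
    simp only [Finset.coe_insert, Finset.coe_erase, Set.mem_union, Set.mem_insert_iff,
      Set.mem_sdiff, Finset.coe_union, Set.mem_singleton_iff, Finset.mem_coe]
    constructor
    · rintro ((rfl | hw) | ⟨hw, hne⟩)
      · simp
      · exact Or.inr ⟨Or.inl hw, fun h => hy.2 (h ▸ hw)⟩
      · exact Or.inr ⟨Or.inr hw, hne⟩
    · rintro (rfl | ⟨hw | hw, hne⟩)
      · simp
      · simp [hw]
      · simp [hw, hne]

end Regular

end Groth.Agent.RegLoc
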