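import Groth.Agent.RegLoc.AdicNoeth
import Groth.Agent.RegLoc.Basic
import Mathlib.RingTheory.AdicCompletion.AsTensorProduct
import Mathlib.RingTheory.Flat.FaithfullyFlat.Algebra
import Mathlib.RingTheory.Ideal.GoingDown
import Mathlib.RingTheory.DiscreteValuationRing.TFAE

/-!
# The completion of a Noetherian local ring: dimension, regularity, discrete valuation rings
-/

namespace Groth.Agent.RegLoc.Completion

open IsLocalRing

theorem isNoetherianRing_adicCompletion' {R : Type*} [CommRing R] [IsNoetherianRing R] (I : Ideal R) :
    IsNoetherianRing (AdicCompletion I R) :=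
  AdicNoeth.isNoetherianRing_adicCompletion I (IsNoetherian.noetherian I)

variable (A : Type*) [CommRing A] [IsLocalRing A] [IsNoetherianRing A]

/-- Flat local extension with `m S = m_S`: same dimension. -/
theorem ringKrullDim_eq_of_flat_of_map_eq (B : Type*) [CommRing B] [IsLocalRing B]
    [IsNoetherianRing B] [Algebra A B] [Module.Flat A B]
    (h : (maximalIdeal A).map (algebraMap A B) = maximalIdeal B) :
    ringKrullDim B = ringKrullDim A := by
  have : (maximalIdeal B).LiesOver (maximalIdeal A) := by
    refine ⟨((maximalIdeal.isMaximal A).eq_of_le ?_ ?_)⟩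
    · exact Ideal.IsPrime.ne_top (inferInstanceAs ((maximalIdeal B).comap (algebraMap A B)).IsPrime)
    · exact Ideal.map_le_iff_le_comap.mp h.le
  have key := Ideal.height_eq_height_add_of_liesOver_of_hasGoingDown (maximalIdeal A) (maximalIdeal B)
  have h0 : ((maximalIdeal B).map (Ideal.Quotient.mk ((maximalIdeal A).map (algebraMap A B)))) = ⊥ := by
    rw [h, Ideal.map_quotient_self]
  rw [h0] at key
  have : ((maximalIdeal A).map (algebraMap A B)).IsPrime := h ▸ inferInstance
  have hbot : (⊥ : Ideal (B ⧸ (maximalIdeal A).map (algebraMap A B))).height = 0 := Ideal.height_bot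
  rw [hbot, add_zero] at key
  rw [← maximalIdeal_height_eq_ringKrullDim, ← maximalIdeal_height_eq_ringKrullDim, key]

theorem ringKrullDim_completion :
    ringKrullDim (AdicCompletion (maximalIdeal A) A) = ringKrullDim A :=
  have := isNoetherianRing_adicCompletion' (maximalIdeal A)
  ringKrullDim_eq_of_flat_of_map_eq A _ AdicCompletion.maximalIdeal_eq_map.symm

theorem isRegularLocalRing_completion_iff :
    IsRegularLocalRing A ↔ IsRegularLocalRing (AdicCompletion (maximalIdeal A) A) := by
  have := isNoetherianRing_adicCompletion' (maximalIdeal A)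
  rw [isRegularLocalRing_iff, isRegularLocalRing_iff, ringKrullDim_completion,
    AdicCompletion.spanFinrank_maximalIdeal_eq]

/-- A ring is a DVR iff it is regular local of dimension one. -/
theorem exists_isDiscreteValuationRing_iff (B : Type*) [CommRing B] :
    (∃ _ : IsDomain B, IsDiscreteValuationRing B) ↔ IsRegularLocalRing B ∧ ringKrullDim B = 1 := by
  constructor
  · rintro ⟨_, _⟩
    exact ⟨inferInstance,
      IsPrincipalIdealRing.ringKrullDim_eq_one B (IsDiscreteValuationRing.not_isField B)⟩
  · rintro ⟨_, hd⟩
    have := RegLoc.isDomain B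
    have hμ := spanFinrank_eq_dim (R := B) (n := 1) hd
    have hpr := ((maximalIdeal B).spanFinrank_eq_one_iff.mp hμ).1
    refine ⟨this, ?_⟩
    have hnf : ¬ IsField B := by
      intro hf
      rw [ringKrullDim_eq_zero_of_isField hf] at hd
      exact zero_ne_one hd
    exact ((IsDiscreteValuationRing.TFAE B hnf).out 0 4).mpr hpr

theorem isDiscreteValuationRing_completion_iff :
    (∃ _ : IsDomain A, IsDiscreteValuationRing A) ↔
      ∃ _ : IsDomain (AdicCompletion (maximalIdeal A) A),
        IsDiscreteValuationRing (AdicCompletion (maximalIdeal A) A) := by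
  rw [exists_isDiscreteValuationRing_iff, exists_isDiscreteValuationRing_iff,
    ringKrullDim_completion, ← isRegularLocalRing_completion_iff]

end Groth.Agent.RegLoc.Completion
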