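import Groth.Agent.Depth.CM
import Groth.Agent.RegLoc.Homological
import Mathlib.RingTheory.Regular.Free

/-!
# Maximal Cohen–Macaulay modules over regular local rings are free
-/

universe u

namespace Groth.Agent.RegLoc.MCM

open IsLocalRing
open scoped Pointwise

lemma free_aux (d : ℕ) : ∀ (R : Type u) [CommRing R] [IsRegularLocalRing R],
    ringKrullDim R = d → ∀ (M : Type u) [AddCommGroup M] [Module R M] [Module.Finite R M],
    LocCoh.depth R M = d → Module.Free R M := by
  induction d with
  | zero =>
    intro R _ _ hd M _ _ _ _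
    have : Module.Projective R M := by
      have h := RegLoc.Homological.pd_le_dim hd M
      exact (RegLoc.PD.pd_zero_iff M).mp h
    exact Module.free_of_flat_of_isLocalRing
  | succ d ih =>
    intro R _ _ hd M _ _ _ hM
    have := RegLoc.isDomain R
    have hμ := RegLoc.spanFinrank_eq_dim hd
    obtain ⟨x, hx, hx2⟩ := RegLoc.Homological.exists_mem_notMem_sq (R := R) fun h => by
      rw [h, Submodule.spanFinrank_bot] at hμ; omega
    obtain ⟨hreg', e, he, hed⟩ := RegLoc.isRegularLocalRing_quotient_span_singleton hx hx2 hd
    obtain rfl : e = d := by omega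
    have hx0 : x ≠ 0 := fun h => hx2 (h ▸ zero_mem _)
    have hass : ∀ p ∈ associatedPrimes R M, p = ⊥ := by
      intro p hp
      have := Depth.isPrime_of_mem_associatedPrimes hp
      by_contra hne
      obtain ⟨r, hrp, hr0⟩ := Submodule.exists_mem_ne_zero_of_ne_bot hne
      have h1 := Depth.depth_le_ringKrullDim_quotient hp
      have h2 := ringKrullDim_succ_le_of_surjective (Ideal.Quotient.mk p) Ideal.Quotient.mk_surjective
        (mem_nonZeroDivisors_of_ne_zero hr0) (Ideal.Quotient.eq_zero_iff_mem.mpr hrp)
      have := RegLoc.isLocalRing_quotient (IsLocalRing.le_maximalIdeal (‹p.IsPrime›).ne_top)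
      obtain ⟨f, hf, -⟩ := RegLoc.exists_natCast_eq_ringKrullDim (R ⧸ p)
      rw [hM, hf] at h1
      rw [hf, hd] at h2
      have h1' : e + 1 ≤ f := by exact_mod_cast h1
      have h2' : f + 1 ≤ e + 1 := by exact_mod_cast h2
      omega
    have hreg : IsSMulRegular M x := by
      by_contra hc
      have : x ∈ ⋃ p ∈ associatedPrimes R M, (p : Set R) := by
        rw [biUnion_associatedPrimes_eq_compl_regular R M]; exact hc
      simp only [Set.mem_iUnion, SetLike.mem_coe, exists_prop] at this
      obtain ⟨p, hp, hxp⟩ := this
      exact hx0 (by simpa [hass p hp] using hxp)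
    have h1 : LocCoh.depth R (QuotSMulTop x M) = e := by
      have h := Depth.idealDepth_quotSMulTop_add_one (I := maximalIdeal R) hx hreg
      rw [← Depth.depth_eq_idealDepth, ← Depth.depth_eq_idealDepth, hM] at h
      exact WithTop.add_right_cancel ENat.one_ne_top (by exact_mod_cast h)
    have h2 : LocCoh.depth (R ⧸ Ideal.span {x}) (QuotSMulTop x M) = e := by
      rw [Depth.depth_eq_idealDepth, ← map_maximalIdeal_of_surjective (algebraMap R (R ⧸ Ideal.span {x}))
        Ideal.Quotient.mk_surjective, Depth.idealDepth_map_of_surjective Ideal.Quotient.mk_surjective,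
        ← Depth.depth_eq_idealDepth, h1]
    have : Module.Finite (R ⧸ Ideal.span {x}) (QuotSMulTop x M) :=
      Module.Finite.of_restrictScalars_finite R _ _
    have := ih (R ⧸ Ideal.span {x}) he (QuotSMulTop x M) h2
    have := Module.finitePresentation_of_finite R M
    exact (Module.free_quotSMulTop_iff_free R M ((IsLocalRing.maximalIdeal_le_jacobson _) hx) hreg).mp
      (by assumption)

/-- A finite module of depth `dim R` over a regular local ring is free. -/
theorem free_of_depth_eq_dim {R : Type u} [CommRing R] [IsRegularLocalRing R] (M : Type u)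
    [AddCommGroup M] [Module R M] [Module.Finite R M]
    (h : ((LocCoh.depth R M : ℕ∞) : WithBot ℕ∞) = ringKrullDim R) : Module.Free R M := by
  obtain ⟨d, hd, -⟩ := RegLoc.exists_natCast_eq_ringKrullDim R
  rw [hd] at h
  exact free_aux d R hd M (by exact_mod_cast h)

end Groth.Agent.RegLoc.MCM
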