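import Mathlib.RingTheory.MvPolynomial.Homogeneous
import Mathlib.RingTheory.AdicCompletion.LocalRing
import Mathlib.RingTheory.Polynomial.Basic

/-!
# Noetherianity of adic completions

* `isNoetherianRing_of_isAdicComplete` : `A` complete w.r.t. a f.g. ideal `J`, `A ⧸ J` Noetherian ⟹ `A` Noetherian
* `isNoetherianRing_adicCompletion` : `I` f.g., `R ⧸ I` Noetherian ⟹ `AdicCompletion I R` Noetherian
-/

namespace Groth.Agent.RegLoc.AdicNoeth

open MvPolynomial

section

variable {A : Type*} [CommRing A] {σ : Type*}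

/-- Multiplying with a homogeneous polynomial shifts homogeneous components. -/
lemma homogeneousComponent_mul_of_isHomogeneous {P : MvPolynomial σ A} {k : ℕ}
    (hP : P.IsHomogeneous k) (Q : MvPolynomial σ A) (n : ℕ) :
    homogeneousComponent n (Q * P) =
      if k ≤ n then homogeneousComponent (n - k) Q * P else 0 := by
  classical
  conv_lhs => rw [← sum_homogeneousComponent Q, Finset.sum_mul, map_sum]
  have h : ∀ i, homogeneousComponent n (homogeneousComponent i Q * P) =
      if i + k = n then homogeneousComponent i Q * P else 0 := by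
    intro i
    rw [homogeneousComponent_of_mem ((homogeneousComponent_isHomogeneous i Q).mul hP)]
    exact if_congr eq_comm rfl rfl
  simp only [h]
  split_ifs with hk
  · rw [Finset.sum_eq_single (n - k)]
    · rw [if_pos (by omega)]
    · intro b _ hb
      rw [if_neg (by omega)]
    · intro hnk
      rw [if_pos (by omega), homogeneousComponent_eq_zero _ _ (by simp at hnk; omega), zero_mul]
  · exact Finset.sum_eq_zero fun b _ => if_neg (by omega)

lemma mem_pow_of_isHomogeneous (a : σ → A) {n : ℕ} {P : MvPolynomial σ A}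
    (hP : P.IsHomogeneous n) : eval a P ∈ Ideal.span (Set.range a) ^ n :=
  (Ideal.mem_span_pow_iff_exists_isHomogeneous a _).mpr ⟨P, hP, rfl⟩

/-- If the coefficients lie in `J = (a)`, evaluation of a degree `n` form lies in `J^(n+1)`. -/
lemma mem_pow_succ_of_coeff_mem (a : σ → A) {n : ℕ} {P : MvPolynomial σ A}
    (hP : P.IsHomogeneous n) (h : ∀ d, P.coeff d ∈ Ideal.span (Set.range a)) :
    eval a P ∈ Ideal.span (Set.range a) ^ (n + 1) := by
  classical
  rw [eval_eq, pow_succ']
  refine sum_mem fun d hd => Ideal.mul_mem_mul (h d) ?_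
  have : ((monomial d) (1 : A)).IsHomogeneous n :=
    isHomogeneous_monomial _ (by
      by_contra hne
      exact (mem_support_iff.mp hd) (hP.coeff_eq_zero hne))
  simpa [eval_monomial, Finsupp.prod] using mem_pow_of_isHomogeneous a this

end

theorem isNoetherianRing_of_isAdicComplete {A : Type*} [CommRing A] (J : Ideal A) (hJ : J.FG)
    [IsNoetherianRing (A ⧸ J)] [IsAdicComplete J A] : IsNoetherianRing A := by
  classical
  obtain ⟨m, a, rfl⟩ := Submodule.fg_iff_exists_fin_generating_family.mp hJ
  set J : Ideal A := Ideal.span (Set.range a) with hJdef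
  let π : MvPolynomial (Fin m) A →+* MvPolynomial (Fin m) (A ⧸ J) := map (Ideal.Quotient.mk J)
  rw [isNoetherianRing_iff_ideal_fg]
  intro K
  let gens : Set (MvPolynomial (Fin m) (A ⧸ J)) :=
    {G | ∃ (n : ℕ) (P : MvPolynomial (Fin m) A), P.IsHomogeneous n ∧
      eval a P ∈ K ⊔ J ^ (n + 1) ∧ π P = G}
  obtain ⟨S, hSsub, hSspan⟩ := Submodule.fg_span_iff_fg_span_finset_subset gens |>.mp
    (IsNoetherian.noetherian (Ideal.span gens))
  choose! d P hP hPK hPπ using fun G (hG : G ∈ S) => hSsub hG
  have hex : ∀ G ∈ S, ∃ f ∈ K, eval a (P G) - f ∈ J ^ (d G + 1) := by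
    intro G hG
    obtain ⟨f, hf, g, hg, h⟩ := Submodule.mem_sup.mp (hPK G hG)
    exact ⟨f, hf, by rw [← h, add_sub_cancel_left]; exact hg⟩
  choose! f hfK hfP using hex
  have step : ∀ (n : ℕ) (x : A), x ∈ K → x ∈ J ^ n → ∃ c : MvPolynomial (Fin m) (A ⧸ J) → A,
      (∀ G ∈ S, c G ∈ J ^ (n - d G)) ∧ x - ∑ G ∈ S, c G * f G ∈ J ^ (n + 1) := by
    intro n x hxK hxJ
    obtain ⟨Q, hQ, rfl⟩ := (Ideal.mem_span_pow_iff_exists_isHomogeneous a x).mp hxJ
    have hT : π Q ∈ Submodule.span (MvPolynomial (Fin m) (A ⧸ J)) (S : Set _) := by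
      rw [← hSspan]
      exact Ideal.subset_span ⟨n, Q, hQ, Submodule.mem_sup_left hxK, rfl⟩
    obtain ⟨w, -, hw⟩ := Submodule.mem_span_finset.mp hT
    choose W hW using fun G => map_surjective (Ideal.Quotient.mk J) Ideal.Quotient.mk_surjective (w G)
    refine ⟨fun G => if d G ≤ n then eval a (homogeneousComponent (n - d G) (W G)) else 0,
      fun G _ => ?_, ?_⟩
    · dsimp only
      split_ifs
      · exact mem_pow_of_isHomogeneous a (homogeneousComponent_isHomogeneous _ _)
      · exact zero_mem _
    let D := Q - ∑ G ∈ S, W G * P G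
    have hD : π D = 0 := by
      simp only [D, map_sub, map_sum, map_mul, sub_eq_zero]
      rw [← hw]
      exact Finset.sum_congr rfl fun G hG => by rw [smul_eq_mul, hPπ G hG]; exact (congrArg (· * G) (hW G)).symm
    have hDc : ∀ e, D.coeff e ∈ J := fun e => by
      rw [← Ideal.Quotient.eq_zero_iff_mem, ← coeff_map]
      change (π D).coeff e = 0
      rw [hD, coeff_zero]
    have h1 : eval a (homogeneousComponent n D) ∈ J ^ (n + 1) :=
      mem_pow_succ_of_coeff_mem a (homogeneousComponent_isHomogeneous n D) fun e => by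
        rw [coeff_homogeneousComponent]
        split_ifs
        · exact hDc e
        · exact zero_mem _
    simp only [D, map_sub, map_sum, homogeneousComponent_eq_self hQ] at h1
    have h2 : ∀ G ∈ S, eval a (homogeneousComponent n (W G * P G)) -
        (if d G ≤ n then eval a (homogeneousComponent (n - d G) (W G)) else 0) * f G ∈
          J ^ (n + 1) := by
      intro G hG
      rw [homogeneousComponent_mul_of_isHomogeneous (hP G hG)]
      split_ifs with hle
      · rw [map_mul, ← mul_sub, show n + 1 = (n - d G) + (d G + 1) by omega, pow_add]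
        exact Ideal.mul_mem_mul
          (mem_pow_of_isHomogeneous a (homogeneousComponent_isHomogeneous _ _)) (hfP G hG)
      · simp
    have h3 := add_mem h1 (sum_mem h2)
    convert h3 using 1
    rw [Finset.sum_sub_distrib]
    ring
  refine ⟨S.image f, le_antisymm (Submodule.span_le.mpr ?_) fun x hx => ?_⟩
  · intro y hy
    obtain ⟨G, hG, rfl⟩ := Finset.mem_image.mp (Finset.mem_coe.mp hy)
    exact hfK G hG
  choose! c hc hc' using step
  let r : ℕ → A := fun n => Nat.rec x (fun n y => y - ∑ G ∈ S, c n y G * f G) n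
  have hr0 : r 0 = x := rfl
  have hrs : ∀ n, r (n + 1) = r n - ∑ G ∈ S, c n (r n) G * f G := fun n => rfl
  have hr : ∀ n, r n ∈ K ∧ r n ∈ J ^ n := by
    intro n
    induction n with
    | zero => exact ⟨hx, by simp⟩
    | succ n ih =>
      rw [hrs]
      exact ⟨sub_mem ih.1 (sum_mem fun G hG => K.mul_mem_left _ (hfK G hG)), hc' n _ ih.1 ih.2⟩
  have hcmem : ∀ i, ∀ G ∈ S, c i (r i) G ∈ J ^ (i - d G) :=
    fun i G hG => hc i _ (hr i).1 (hr i).2 G hG
  have hIco : ∀ G ∈ S, ∀ k N M, k + d G ≤ N → N ≤ M →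
      (∑ i ∈ Finset.range M, c i (r i) G) - ∑ i ∈ Finset.range N, c i (r i) G ∈ J ^ k := by
    intro G hG k N M hkN hNM
    rw [← Finset.sum_Ico_eq_sub _ hNM]
    exact sum_mem fun i hi => Ideal.pow_le_pow_right (by simp at hi; omega) (hcmem i G hG)
  have hlim : ∀ G ∈ S, ∃ L, ∀ k, (∑ i ∈ Finset.range (k + d G), c i (r i) G) - L ∈ J ^ k := by
    intro G hG
    obtain ⟨L, hL⟩ := IsPrecomplete.prec' (I := J) (M := A)
      (fun k => ∑ i ∈ Finset.range (k + d G), c i (r i) G) fun {p q} hpq => by
        rw [SModEq.sub_mem, smul_eq_mul, Ideal.mul_top, ← neg_mem_iff, neg_sub]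
        exact hIco G hG p _ _ le_rfl (Nat.add_le_add_right hpq _)
    refine ⟨L, fun k => ?_⟩
    have := hL k
    rwa [SModEq.sub_mem, smul_eq_mul, Ideal.mul_top] at this
  choose! L hL using hlim
  have hsum : ∀ N, x = r N + ∑ G ∈ S, (∑ i ∈ Finset.range N, c i (r i) G) * f G := by
    intro N
    induction N with
    | zero => simp [hr0]
    | succ N ih =>
      simp only [Finset.sum_range_succ, add_mul, Finset.sum_add_distrib, hrs]
      linear_combination ih
  have hxL : x - ∑ G ∈ S, L G * f G = 0 := by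
    refine IsHausdorff.haus' (I := J) _ fun k => ?_
    rw [SModEq.zero, smul_eq_mul, Ideal.mul_top]
    rw [hsum (k + S.sup d), add_sub_assoc, ← Finset.sum_sub_distrib]
    refine add_mem (Ideal.pow_le_pow_right (Nat.le_add_right k _) (hr _).2)
      (sum_mem fun G hG => ?_)
    rw [← sub_mul]
    refine Ideal.mul_mem_right _ _ ?_
    have h1 := hIco G hG k (k + d G) (k + S.sup d) le_rfl
      (Nat.add_le_add_left (Finset.le_sup hG) k)
    simpa using add_mem h1 (hL G hG k)
  rw [sub_eq_zero.mp hxL]
  exact sum_mem fun G hG => Ideal.mul_mem_left _ _ (Ideal.subset_span (Finset.mem_image_of_mem f hG))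

theorem isNoetherianRing_adicCompletion {R : Type*} [CommRing R] (I : Ideal R) (hI : I.FG)
    [IsNoetherianRing (R ⧸ I)] : IsNoetherianRing (AdicCompletion I R) := by
  have := AdicCompletion.isAdicComplete_self I hI
  have e : (AdicCompletion I R ⧸ I.map (algebraMap R (AdicCompletion I R))) ≃+* R ⧸ I :=
    (Ideal.quotEquivOfEq (AdicCompletion.ker_evalOneₐ_eq_map I hI).symm).trans
      (RingHom.quotientKerEquivOfSurjective (AdicCompletion.evalOneₐ_surjective I))
  have := isNoetherianRing_of_ringEquiv _ e.symm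
  exact isNoetherianRing_of_isAdicComplete (I.map (algebraMap R (AdicCompletion I R))) (hI.map _)

end Groth.Agent.RegLoc.AdicNoeth
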