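import Mathlib.RingTheory.Smooth.Field
import Mathlib.RingTheory.AdicCompletion.RingHom
import Mathlib.RingTheory.AlgebraicIndependent.TranscendenceBasis
import Mathlib.FieldTheory.Perfect
import Mathlib.RingTheory.LocalRing.ResidueField.Basic

/-!
Coefficient fields of complete local rings of equal characteristic zero, lifting along
formally smooth algebras.
-/

set_option autoImplicit false
set_option linter.style.haveILetI false

universe u

namespace Groth.Agent.RegLoc

/-- A formally smooth algebra mapping to `R ⧸ I` lifts to `R` when `R` is `I`-adically complete. -/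
theorem exists_lift_adicComplete {k : Type*} [CommRing k] {A : Type u} [CommRing A] [Algebra k A]
    [Algebra.FormallySmooth k A] {R : Type u} [CommRing R] [Algebra k R] (I : Ideal R)
    [IsAdicComplete I R] (φ : A →ₐ[k] R ⧸ I) :
    ∃ ψ : A →ₐ[k] R, (Ideal.Quotient.mkₐ k I).comp ψ = φ := by
  have hstep : ∀ (n : ℕ) (g : A →ₐ[k] R ⧸ I ^ (n + 1)), ∃ g' : A →ₐ[k] R ⧸ I ^ (n + 2),
      (Ideal.Quotient.factorₐ k (Ideal.pow_le_pow_right (Nat.le_succ (n + 1)))).comp g' = g := by
    intro n g
    let π := Ideal.Quotient.factorₐ k (Ideal.pow_le_pow_right (I := I) (Nat.le_succ (n + 1)))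
    have hπ : Function.Surjective π :=
      Ideal.Quotient.factor_surjective (Ideal.pow_le_pow_right (Nat.le_succ (n + 1)))
    have hnil : IsNilpotent (RingHom.ker π.toRingHom) := by
      refine ⟨n + 2, ?_⟩
      have : RingHom.ker π.toRingHom ≤ I.map (Ideal.Quotient.mk (I ^ (n + 2))) := by
        intro x hx
        obtain ⟨x, rfl⟩ := Ideal.Quotient.mk_surjective x
        exact Ideal.mem_map_of_mem _ (Ideal.pow_le_self n.succ_ne_zero
          (Ideal.Quotient.eq_zero_iff_mem.mp hx))
      refine le_bot_iff.mp ((Ideal.pow_right_mono this _).trans ?_)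
      rw [← Ideal.map_pow, Ideal.map_quotient_self]
    exact ⟨Algebra.FormallySmooth.liftOfSurjective g π hπ hnil,
      Algebra.FormallySmooth.comp_liftOfSurjective g π hπ hnil⟩
  choose next hnext using hstep
  let g : (n : ℕ) → (A →ₐ[k] R ⧸ I ^ (n + 1)) := fun n =>
    Nat.rec ((Ideal.quotientEquivAlgOfEq k (pow_one I).symm).toAlgHom.comp φ) (fun n g => next n g) n
  let f : (n : ℕ) → (A →+* R ⧸ I ^ n) := fun n =>
    (Ideal.Quotient.factorPow I (Nat.le_succ n)).comp (g n).toRingHom
  have hg : ∀ n, (Ideal.Quotient.factorₐ k (Ideal.pow_le_pow_right (I := I) (Nat.le_succ (n + 1)))).comp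
      (g (n + 1)) = g n := fun n => hnext n (g n)
  have hf1 : ∀ n, (Ideal.Quotient.factorPow I (Nat.le_succ n)).comp (f (n + 1)) = f n := by
    intro n
    ext a
    simp only [f, RingHom.comp_apply, AlgHom.toRingHom_eq_coe, RingHom.coe_coe]
    congr 1
    exact AlgHom.congr_fun (hg n) a
  have hf : ∀ {m n : ℕ} (hle : m ≤ n), (Ideal.Quotient.factorPow I hle).comp (f n) = f m := by
    intro m n hle
    induction hle with
    | refl =>
      ext a
      simp only [RingHom.comp_apply]
      generalize f m a = z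
      obtain ⟨z, rfl⟩ := Ideal.Quotient.mk_surjective z
      rfl
    | @step n hle ih =>
      have : Ideal.Quotient.factorPow I (Nat.le.step hle) =
          (Ideal.Quotient.factorPow I hle).comp (Ideal.Quotient.factorPow I (Nat.le_succ n)) :=
        Ideal.Quotient.ringHom_ext (RingHom.ext fun z => rfl)
      rw [← ih, ← hf1 n, this, RingHom.comp_assoc]
  let ψ : A →+* R := IsAdicComplete.liftRingHom I f hf
  have hψ : ∀ n a, Ideal.Quotient.mk (I ^ n) (ψ a) = f n a :=
    fun n a => IsAdicComplete.mk_liftRingHom I f hf n a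
  refine ⟨{ ψ with commutes' := fun r => ?_ }, AlgHom.ext fun a => ?_⟩
  · refine (IsHausdorff.eq_iff_smodEq (I := I)).mpr fun n => ?_
    rw [SModEq.sub_mem, smul_eq_mul, Ideal.mul_top, ← Ideal.Quotient.eq]
    refine (hψ n _).trans ?_
    simp only [f, RingHom.comp_apply, AlgHom.toRingHom_eq_coe, RingHom.coe_coe, AlgHom.commutes]
    rfl
  · have h1 := congrArg (Ideal.quotientEquivAlgOfEq k (pow_one I)) (hψ 1 a)
    have h2 : f 1 a = Ideal.quotientEquivAlgOfEq k (pow_one I).symm (φ a) :=
      AlgHom.congr_fun (hg 0) a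
    rw [h2] at h1
    obtain ⟨z, hz⟩ := Ideal.Quotient.mk_surjective (φ a)
    rw [← hz] at h1 ⊢
    simp only [Ideal.quotientEquivAlgOfEq_mk] at h1
    exact h1

theorem formallySmooth_of_charZero (k K : Type*) [Field k] [CharZero k] [Field K] [Algebra k K] :
    Algebra.FormallySmooth k K := by
  obtain ⟨s, hs⟩ := exists_isTranscendenceBasis k K
  have := hs.isAlgebraic_field
  exact Algebra.FormallySmooth.of_algebraicIndependent_of_isSeparable hs.1

theorem exists_coefficient_field (R : Type u) [CommRing R] [IsLocalRing R]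
    [IsAdicComplete (IsLocalRing.maximalIdeal R) R] [CharZero (IsLocalRing.ResidueField R)] :
    ∃ s : IsLocalRing.ResidueField R →+* R, (IsLocalRing.residue R).comp s = RingHom.id _ := by
  have hu : ∀ z : nonZeroDivisors ℤ, IsUnit (Int.castRingHom R z) := fun z => by
    rw [← IsLocalRing.notMem_maximalIdeal, ← IsLocalRing.residue_eq_zero_iff]
    simp
  letI : Algebra ℚ R := (IsLocalization.lift (S := ℚ) hu).toAlgebra
  letI : Algebra ℚ (IsLocalRing.ResidueField R) :=
    ((IsLocalRing.residue R).comp (algebraMap ℚ R)).toAlgebra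
  haveI := formallySmooth_of_charZero ℚ (IsLocalRing.ResidueField R)
  let φ : IsLocalRing.ResidueField R →ₐ[ℚ] R ⧸ IsLocalRing.maximalIdeal R :=
    { RingHom.id _ with commutes' := fun _ => rfl }
  obtain ⟨ψ, hψ⟩ := exists_lift_adicComplete (IsLocalRing.maximalIdeal R) φ
  exact ⟨ψ.toRingHom, RingHom.ext fun x => AlgHom.congr_fun hψ x⟩

end Groth.Agent.RegLoc
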