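import Mathlib.RingTheory.AdicCompletion.Exactness
import Mathlib.RingTheory.AdicCompletion.Noetherian
import Mathlib.RingTheory.AdicCompletion.Completeness
import Mathlib.RingTheory.Filtration
import Mathlib.RingTheory.Ideal.Quotient.Operations

/-!
Completeness for `I` together with completeness of `A ⧸ I` for `J` gives completeness for `J`.
-/

set_option autoImplicit false

universe u

namespace Groth.Agent.RegLoc.CompleteTrans

open AdicCompletion

variable {A : Type u} [CommRing A] [IsNoetherianRing A]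

/-- A completeness statement passes to smaller ideals. -/
theorem isAdicComplete_of_le {J K : Ideal A} (hJK : J ≤ K) [IsAdicComplete K A] :
    IsAdicComplete J A := by
  have hjac : K ≤ (⊥ : Ideal A).jacobson := IsAdicComplete.le_jacobson_bot K
  have hmono : ∀ n, J ^ n ≤ K ^ n := fun n => Ideal.pow_right_mono hJK n
  refine { haus' := ?_, prec' := ?_ }
  · intro x hx
    refine IsHausdorff.haus (I := K) inferInstance x fun n => ?_
    exact SModEq.mono (Submodule.smul_mono (hmono n) le_rfl) (hx n)
  · intro f hf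
    obtain ⟨L, hL⟩ := IsPrecomplete.prec (I := K) inferInstance (f := f)
      (fun {m n} hmn => SModEq.mono (Submodule.smul_mono (hmono m) le_rfl) (hf hmn))
    refine ⟨L, fun n => ?_⟩
    rw [SModEq.sub_mem]
    let P : Submodule A A := J ^ n • ⊤
    have h0 : P.mkQ (f n - L) ∈ (⨅ m, K ^ m • ⊤ : Submodule A (A ⧸ P)) := by
      rw [Submodule.mem_iInf]
      intro m
      have h1 : f n - f (n + m) ∈ P := SModEq.sub_mem.mp (hf (Nat.le_add_right n m))
      have h2 : f (n + m) - L ∈ (K ^ m • ⊤ : Submodule A A) :=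
        Submodule.smul_mono_left (Ideal.pow_le_pow_right (Nat.le_add_left m n))
          (SModEq.sub_mem.mp (hL (n + m)))
      have h3 := Submodule.mem_map_of_mem (f := P.mkQ) h2
      rw [Submodule.map_smul''] at h3
      have : P.mkQ (f n - L) = P.mkQ (f (n + m) - L) := by
        rw [Submodule.mkQ_apply, Submodule.mkQ_apply, Submodule.Quotient.eq, sub_sub_sub_cancel_right]
        exact h1
      rw [this]
      exact Submodule.smul_mono le_rfl le_top h3
    rw [Ideal.iInf_pow_smul_eq_bot_of_le_jacobson _ hjac, Submodule.mem_bot] at h0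
    exact (Submodule.Quotient.mk_eq_zero P).mp h0

variable {I J : Ideal A} [IsAdicComplete I A]
  [IsAdicComplete (Ideal.map (Ideal.Quotient.mk I) J) (A ⧸ I)]

theorem le_jacobson : I ⊔ J ≤ (⊥ : Ideal A).jacobson := by
  refine sup_le (IsAdicComplete.le_jacobson_bot I) fun x hx => ?_
  rw [Ideal.mem_jacobson_bot]
  intro y
  have h1 : Ideal.Quotient.mk I x ∈ (⊥ : Ideal (A ⧸ I)).jacobson :=
    IsAdicComplete.le_jacobson_bot (J.map (Ideal.Quotient.mk I)) (Ideal.mem_map_of_mem _ hx)
  have h2 := Ideal.mem_jacobson_bot.mp h1 (Ideal.Quotient.mk I y)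
  rw [← map_mul, ← map_one (Ideal.Quotient.mk I), ← map_add] at h2
  obtain ⟨z, hz⟩ := Ideal.Quotient.mk_surjective (↑h2.unit⁻¹ : A ⧸ I)
  have h3 : Ideal.Quotient.mk I ((x * y + 1) * z) = 1 := by
    rw [map_mul, hz]; exact h2.mul_val_inv
  have h4 : (x * y + 1) * z - 1 ∈ I := by rw [← Ideal.Quotient.eq, h3, map_one]
  have h5 := Ideal.mem_jacobson_bot.mp (IsAdicComplete.le_jacobson_bot I h4) 1
  rw [mul_one, sub_add_cancel] at h5
  exact isUnit_of_mul_isUnit_left h5

theorem exists_approx {r : ℕ} (g : Fin r → A) (hg : Ideal.span (Set.range g) = I)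
    (x : AdicCompletion (I ⊔ J) A) :
    ∃ a : A, x - of (I ⊔ J) A a ∈ (I • ⊤ : Submodule A (AdicCompletion (I ⊔ J) A)) := by
  classical
  let K := I ⊔ J
  have hKmap : K.map (algebraMap A (A ⧸ I)) = J.map (Ideal.Quotient.mk I) := by
    rw [Ideal.Quotient.algebraMap_eq, Ideal.map_sup, Ideal.map_quotient_self, bot_sup_eq]
  have : IsAdicComplete K (A ⧸ I) :=
    (IsAdicComplete.map_algebraMap_iff (S := A ⧸ I) (M := A ⧸ I) (I := K)).mp (hKmap ▸ inferInstance)
  let q : A →ₗ[A] A ⧸ I := Submodule.mkQ I
  obtain ⟨b, hb⟩ := (AdicCompletion.of_bijective K (A ⧸ I)).2 (map K q x)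
  obtain ⟨a, rfl⟩ := Submodule.mkQ_surjective I b
  refine ⟨a, ?_⟩
  let G : (Fin r → A) →ₗ[A] A := Fintype.linearCombination A g
  obtain ⟨w₀, hw₀⟩ := (AdicCompletion.map_exact (I := K) I.injective_subtype
    (LinearMap.exact_subtype_mkQ I) (Submodule.mkQ_surjective I)
    (x - of K A a)).mp (by rw [map_sub, map_of, ← hb, sub_self])
  let G' : (Fin r → A) →ₗ[A] I := G.codRestrict I fun v => by
    have : G v ∈ LinearMap.range G := LinearMap.mem_range_self G v
    rw [Fintype.range_linearCombination] at this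
    exact hg ▸ this
  have hG' : Function.Surjective G' := by
    rintro ⟨z, hz⟩
    have : z ∈ LinearMap.range G := by
      rw [Fintype.range_linearCombination]
      change z ∈ Ideal.span (Set.range g)
      rw [hg]; exact hz
    obtain ⟨v, hv⟩ := this
    exact ⟨v, Subtype.ext hv⟩
  obtain ⟨w, rfl⟩ := AdicCompletion.map_surjective (I := K) hG' w₀
  have hw : map K G w = x - of K A a := by
    rw [← hw₀, ← LinearMap.comp_apply, AdicCompletion.map_comp]
    rfl
  rw [← hw]
  have : map K G w = ∑ l, g l • map K (LinearMap.proj l : (Fin r → A) →ₗ[A] A) w := by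
    refine AdicCompletion.ext fun n => ?_
    obtain ⟨v, hv⟩ := Submodule.Quotient.mk_surjective _ (w.val n)
    simp only [val_sum_apply, val_smul_apply, map_val_apply, ← hv]
    change (K ^ n • ⊤ : Submodule A A).mkQ (G v) =
      ∑ l, g l • (K ^ n • ⊤ : Submodule A A).mkQ (v l)
    rw [Fintype.linearCombination_apply, map_sum]
    refine Finset.sum_congr rfl fun l _ => ?_
    rw [smul_eq_mul (v l) (g l), mul_comm]
    rfl
  rw [this]
  exact Submodule.sum_mem _ fun l _ =>
    Submodule.smul_mem_smul (hg ▸ Ideal.subset_span ⟨l, rfl⟩) trivial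

theorem isAdicComplete (I J : Ideal A) [IsAdicComplete I A]
    [IsAdicComplete (Ideal.map (Ideal.Quotient.mk I) J) (A ⧸ I)] : IsAdicComplete J A := by
  classical
  set K := I ⊔ J with hK
  suffices IsAdicComplete K A from isAdicComplete_of_le (K := K) le_sup_right
  refine { haus' := fun x hx => ?_, prec' := ?_ }
  · have h1 : x ∈ (⨅ n, K ^ n • ⊤ : Submodule A A) :=
      Submodule.mem_iInf _ |>.mpr fun n => by simpa [SModEq.zero] using hx n
    rwa [Ideal.iInf_pow_smul_eq_bot_of_le_jacobson _ (le_jacobson (I := I) (J := J)),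
      Submodule.mem_bot] at h1
  obtain ⟨r, g, hg⟩ := Submodule.fg_iff_exists_fin_generating_family.mp (IsNoetherian.noetherian I)
  have step : ∀ (m : ℕ) (e : AdicCompletion K A),
      e ∈ (I ^ m • ⊤ : Submodule A (AdicCompletion K A)) →
      ∃ a ∈ I ^ m, e - of K A a ∈ (I ^ (m + 1) • ⊤ : Submodule A (AdicCompletion K A)) := by
    intro m e he
    refine Submodule.smul_induction_on he (fun c hc y _ => ?_) ?_
    · obtain ⟨b, hb⟩ := exists_approx g hg y
      refine ⟨c * b, Ideal.mul_mem_right _ _ hc, ?_⟩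
      have : c • y - of K A (c * b) = c • (y - of K A b) := by
        rw [smul_sub, ← map_smul, smul_eq_mul]
      rw [this, pow_succ, Submodule.mul_smul]
      exact Submodule.smul_mem_smul hc hb
    · rintro y z ⟨a, ha, hy⟩ ⟨b, hb, hz⟩
      refine ⟨a + b, add_mem ha hb, ?_⟩
      rw [map_add, add_sub_add_comm]
      exact add_mem hy hz
  choose next hnext hnext' using step
  have hsurj : Function.Surjective (of K A) := by
    intro x
    let seq : (m : ℕ) → {a : A // x - of K A a ∈ (I ^ m • ⊤ : Submodule A (AdicCompletion K A))} :=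
      fun m => Nat.rec ⟨0, by rw [pow_zero, Ideal.one_eq_top, Submodule.top_smul]; trivial⟩ (fun m p => ⟨p.1 + next m _ p.2, by
        rw [map_add, ← sub_sub]; exact hnext' m _ p.2⟩) m
    have hcauchy : ∀ m, (seq (m + 1)).1 - (seq m).1 ∈ I ^ m := fun m => by
      show (seq m).1 + next m _ (seq m).2 - (seq m).1 ∈ I ^ m
      rw [add_sub_cancel_left]
      exact hnext m _ _
    obtain ⟨a, ha⟩ := IsPrecomplete.prec (I := I) inferInstance (f := fun m => (seq m).1)
      (fun {m n} hmn => by
        induction hmn with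
        | refl => exact SModEq.rfl
        | @step n hmn ih =>
          refine ih.trans ?_
          rw [SModEq.sub_mem, smul_eq_mul, Ideal.mul_top, ← neg_sub]
          exact (I ^ m).neg_mem (Ideal.pow_le_pow_right hmn (hcauchy n)))
    refine ⟨a, (AdicCompletion.ext fun m => ?_).symm⟩
    have h1 := (SModEq.sub_mem.mp (ha m))
    have h2 : x - of K A a ∈ (I ^ m • ⊤ : Submodule A (AdicCompletion K A)) := by
      rw [← sub_add_sub_cancel x (of K A (seq m).1) (of K A a), ← map_sub]
      refine add_mem (seq m).2 ?_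
      have := Submodule.mem_map_of_mem (f := of K A) h1
      rw [Submodule.map_smul''] at this
      exact Submodule.smul_mono le_rfl le_top this
    have h3 : x - of K A a ∈ (K ^ m • ⊤ : Submodule A (AdicCompletion K A)) :=
      Submodule.smul_mono (Ideal.pow_right_mono le_sup_left m) le_rfl h2
    have h4 : eval K A m (x - of K A a) = 0 := by
      rw [← LinearMap.mem_ker, ← AdicCompletion.pow_smul_top_eq_ker_eval (IsNoetherian.noetherian K)]
      exact h3
    rw [map_sub, sub_eq_zero] at h4
    exact h4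
  exact (of_surjective_iff.mp hsurj).prec'

end Groth.Agent.RegLoc.CompleteTrans
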