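import Mathlib.RingTheory.Ideal.AssociatedPrime.Localization
import Mathlib.RingTheory.Ideal.AssociatedPrime.Finiteness
import Mathlib.RingTheory.IntegralClosure.IntegrallyClosed
import Mathlib.RingTheory.Localization.Integral
import Mathlib.RingTheory.Spectrum.Prime.Topology
import Mathlib.RingTheory.Localization.AtPrime.Basic

/-!
The normal locus of a Noetherian domain which is generically normal is open.
-/

set_option autoImplicit false

universe u

namespace Groth.Agent.RegLoc

variable {R : Type u} [CommRing R] [IsDomain R]

/-- `y` is a fraction with denominator outside `p`. -/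
def InLocal (p : Ideal R) (y : FractionRing R) : Prop :=
  ∃ s : R, s ∉ p ∧ algebraMap R (FractionRing R) s * y ∈ Set.range (algebraMap R (FractionRing R))

/-- If `R_p` is integrally closed, every integral fraction has a denominator outside `p`. -/
theorem inLocal_of_isIntegrallyClosed (p : Ideal R) [p.IsPrime]
    [IsIntegrallyClosed (Localization.AtPrime p)] {y : FractionRing R} (hy : IsIntegral R y) :
    InLocal p y := by
  let K := FractionRing R
  have hle : p.primeCompl ≤ nonZeroDivisors R := p.primeCompl_le_nonZeroDivisors
  letI : Algebra (Localization.AtPrime p) K :=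
    IsLocalization.localizationAlgebraOfSubmonoidLe (Localization.AtPrime p) K p.primeCompl _ hle
  haveI : IsScalarTower R (Localization.AtPrime p) K :=
    IsLocalization.localization_isScalarTower_of_submonoid_le (Localization.AtPrime p) K p.primeCompl _ hle
  haveI : IsFractionRing (Localization.AtPrime p) K :=
    IsFractionRing.isFractionRing_of_isDomain_of_isLocalization p.primeCompl _ _
  obtain ⟨z, hz⟩ := IsIntegrallyClosed.isIntegral_iff.mp (hy.tower_top (A := Localization.AtPrime p))
  obtain ⟨⟨a, s⟩, hs⟩ := IsLocalization.surj p.primeCompl z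
  refine ⟨s, s.2, a, ?_⟩
  rw [← hz, IsScalarTower.algebraMap_apply R (Localization.AtPrime p) K,
    IsScalarTower.algebraMap_apply R (Localization.AtPrime p) K, ← map_mul, mul_comm, hs]

theorem isIntegrallyClosed_atPrime_of_forall (p : Ideal R) [p.IsPrime]
    (h : ∀ y : FractionRing R, IsIntegral R y → InLocal p y) :
    IsIntegrallyClosed (Localization.AtPrime p) := by
  let K := FractionRing R
  have hle : p.primeCompl ≤ nonZeroDivisors R := p.primeCompl_le_nonZeroDivisors
  letI : Algebra (Localization.AtPrime p) K :=
    IsLocalization.localizationAlgebraOfSubmonoidLe (Localization.AtPrime p) K p.primeCompl _ hle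
  haveI : IsScalarTower R (Localization.AtPrime p) K :=
    IsLocalization.localization_isScalarTower_of_submonoid_le (Localization.AtPrime p) K p.primeCompl _ hle
  haveI : IsFractionRing (Localization.AtPrime p) K :=
    IsFractionRing.isFractionRing_of_isDomain_of_isLocalization p.primeCompl _ _
  refine (isIntegrallyClosed_iff K).mpr fun {x} hx => ?_
  obtain ⟨⟨t, ht⟩, htx⟩ :=
    IsIntegral.exists_multiple_integral_of_isLocalization p.primeCompl x hx
  have htx' : IsIntegral R (algebraMap R K t * x) := by
    simpa [Submonoid.smul_def, Algebra.smul_def] using htx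
  obtain ⟨s, hs, a, ha⟩ := h _ htx'
  refine ⟨IsLocalization.mk' (Localization.AtPrime p) a (⟨s, hs⟩ * ⟨t, ht⟩ : p.primeCompl), ?_⟩
  have hu : algebraMap R K (s * t) ≠ 0 := by
    rw [Ne, IsFractionRing.to_map_eq_zero_iff (K := K)]
    intro h0
    exact (show s * t ∈ p.primeCompl from p.primeCompl.mul_mem hs ht) (h0 ▸ p.zero_mem)
  refine mul_left_cancel₀ hu ?_
  have hspec := IsLocalization.mk'_spec (Localization.AtPrime p) a (⟨s, hs⟩ * ⟨t, ht⟩ : p.primeCompl)
  have := congrArg (algebraMap (Localization.AtPrime p) K) hspec
  rw [map_mul, ← IsScalarTower.algebraMap_apply, ← IsScalarTower.algebraMap_apply] at this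
  rw [mul_comm, show s * t = ((⟨s, hs⟩ * ⟨t, ht⟩ : p.primeCompl) : R) from rfl, this, ha,
    show ((⟨s, hs⟩ * ⟨t, ht⟩ : p.primeCompl) : R) = s * t from rfl, map_mul, mul_assoc]

variable [IsNoetherianRing R]

/-- If `f y` is a fraction with denominator outside `p` and `R_q` is integrally closed at every
associated prime of `R/fR` inside `p`, then so is `y`. -/
theorem inLocal_of_mul {f : R} (hf : f ≠ 0) (p : Ideal R) [p.IsPrime]
    (hgood : ∀ q ∈ associatedPrimes R (R ⧸ Ideal.span {f}), q ≤ p →
      ∀ z : FractionRing R, IsIntegral R z → InLocal q z)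
    {y : FractionRing R} (hy : IsIntegral R y)
    (h : InLocal p (algebraMap R (FractionRing R) f * y)) : InLocal p y := by
  classical
  obtain ⟨t, ht, a, ha⟩ := h
  have hf' : algebraMap R (FractionRing R) f ≠ 0 := by simpa using hf
  let J : Ideal R := (Ideal.span {f}).colon {a}
  by_cases hJ : J ≤ p
  · exfalso
    obtain ⟨q, hq, hqp⟩ := Ideal.exists_minimalPrimes_le hJ
    let N : Submodule R (R ⧸ Ideal.span {f}) := R ∙ Ideal.Quotient.mk (Ideal.span {f}) a
    have hann : Module.annihilator R N = J := by
      ext r
      simp only [Module.mem_annihilator, J, Submodule.mem_colon_singleton]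
      constructor
      · intro hr
        have := congrArg Subtype.val (hr ⟨_, Submodule.mem_span_singleton_self _⟩)
        simpa [Algebra.smul_def, ← map_mul, Ideal.Quotient.eq_zero_iff_mem] using this
      · rintro hr ⟨x, hx⟩
        obtain ⟨c, rfl⟩ := Submodule.mem_span_singleton.mp hx
        apply Subtype.ext
        simp only [SetLike.mk_smul_mk, smul_smul, Submodule.coe_zero]
        rw [Algebra.smul_def, Ideal.Quotient.algebraMap_eq, ← map_mul,
          Ideal.Quotient.eq_zero_iff_mem, show r * c * a = c * (r * a) by ring]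
        exact Ideal.mul_mem_left _ _ hr
    have hqN : q ∈ associatedPrimes R N :=
      Module.associatedPrimes.minimalPrimes_annihilator_subset_associatedPrimes R N (by rwa [hann])
    have hqA : q ∈ associatedPrimes R (R ⧸ Ideal.span {f}) :=
      associatedPrimes.subset_of_injective (f := N.subtype) N.injective_subtype hqN
    obtain ⟨s, hs, b, hb⟩ := hgood q hqA hqp (algebraMap R (FractionRing R) t * y)
      (isIntegral_algebraMap.mul hy)
    refine hs (hq.1.2 ?_)
    simp only [J, Submodule.mem_colon_singleton, smul_eq_mul, Ideal.mem_span_singleton]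
    refine ⟨b, IsFractionRing.injective R (FractionRing R) ?_⟩
    rw [map_mul, map_mul, ha, hb]; ring
  · obtain ⟨s, hsJ, hsp⟩ := SetLike.not_le_iff_exists.mp hJ
    simp only [J, Submodule.mem_colon_singleton, smul_eq_mul, Ideal.mem_span_singleton] at hsJ
    obtain ⟨b, hb⟩ := hsJ
    refine ⟨s * t, fun hh => (Ideal.IsPrime.mem_or_mem ‹_› hh).elim hsp ht, b, ?_⟩
    refine mul_left_cancel₀ hf' ?_
    rw [← map_mul, ← hb, map_mul, ha, map_mul]; ring

/-- The normal locus of a generically normal Noetherian domain is open. -/
theorem isOpen_normal_locus (f : R) (hf : f ≠ 0) [IsIntegrallyClosed (Localization.Away f)] :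
    IsOpen {p : PrimeSpectrum R | IsIntegrallyClosed (Localization.AtPrime p.asIdeal)} := by
  classical
  let K := FractionRing R
  -- integral fractions have denominator a power of `f`
  have hpow : ∀ y : K, IsIntegral R y → ∃ n : ℕ, algebraMap R K (f ^ n) * y ∈
      Set.range (algebraMap R K) := by
    intro y hy
    have hle : Submonoid.powers f ≤ nonZeroDivisors R :=
      powers_le_nonZeroDivisors_of_noZeroDivisors hf
    letI : Algebra (Localization.Away f) K :=
      IsLocalization.localizationAlgebraOfSubmonoidLe (Localization.Away f) K (Submonoid.powers f) _ hle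
    haveI : IsScalarTower R (Localization.Away f) K :=
      IsLocalization.localization_isScalarTower_of_submonoid_le (Localization.Away f) K (Submonoid.powers f) _ hle
    haveI : IsFractionRing (Localization.Away f) K :=
      IsFractionRing.isFractionRing_of_isDomain_of_isLocalization (Submonoid.powers f) _ _
    obtain ⟨z, hz⟩ := IsIntegrallyClosed.isIntegral_iff.mp (hy.tower_top (A := Localization.Away f))
    obtain ⟨⟨a, ⟨_, n, rfl⟩⟩, hs⟩ := IsLocalization.surj (Submonoid.powers f) z
    refine ⟨n, a, ?_⟩
    rw [← hz, IsScalarTower.algebraMap_apply R (Localization.Away f) K,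
      IsScalarTower.algebraMap_apply R (Localization.Away f) K, ← map_mul, mul_comm, hs]
  let bad : Set (Ideal R) := {q ∈ associatedPrimes R (R ⧸ Ideal.span {f}) |
    ∃ y : K, IsIntegral R y ∧ ¬ InLocal q y}
  have hbad : bad.Finite := (associatedPrimes.finite R _).subset fun q hq => hq.1
  have key : {p : PrimeSpectrum R | IsIntegrallyClosed (Localization.AtPrime p.asIdeal)} =
      (⋃ q ∈ bad, PrimeSpectrum.zeroLocus (q : Set R))ᶜ := by
    ext p
    simp only [Set.mem_setOf_eq, Set.mem_compl_iff, Set.mem_iUnion, PrimeSpectrum.mem_zeroLocus,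
      SetLike.coe_subset_coe, not_exists]
    constructor
    · rintro hp q ⟨-, y, hy, hq⟩ hqp
      obtain ⟨s, hs, h⟩ := inLocal_of_isIntegrallyClosed p.asIdeal hy
      exact hq ⟨s, fun hsq => hs (hqp hsq), h⟩
    · intro hp
      have hgood : ∀ q ∈ associatedPrimes R (R ⧸ Ideal.span {f}), q ≤ p.asIdeal →
          ∀ z : K, IsIntegral R z → InLocal q z := by
        intro q hq hqp z hz
        by_contra hn
        exact hp q ⟨hq, z, hz, hn⟩ hqp
      refine isIntegrallyClosed_atPrime_of_forall p.asIdeal fun y hy => ?_
      obtain ⟨n, hn⟩ := hpow y hy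
      have h1 : ∀ m ≤ n, InLocal p.asIdeal (algebraMap R K (f ^ m) * y) := by
        intro m hm
        induction hm using Nat.decreasingInduction with
        | self => exact ⟨1, fun h1 => p.2.ne_top (p.asIdeal.eq_top_iff_one.mpr h1), by simpa using hn⟩
        | of_succ m _ ih =>
          refine inLocal_of_mul hf p.asIdeal hgood (isIntegral_algebraMap.mul hy) ?_
          rwa [pow_succ, mul_comm (f ^ m), map_mul, mul_assoc] at ih
      simpa using h1 0 (Nat.zero_le n)
  rw [key, isOpen_compl_iff]
  exact hbad.isClosed_biUnion fun q _ => PrimeSpectrum.isClosed_zeroLocus _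

end Groth.Agent.RegLoc
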