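import Groth.Prelude.Def_Found
import Groth.Agent.RegLoc.NormalLocus

/-!
A Noetherian domain is N-1 iff it is generically normal and N-1 at all maximal ideals.
-/

set_option autoImplicit false
set_option linter.style.haveILetI false

universe u

namespace Groth.Agent.RegLoc.N1

theorem finite_integralClosure_of_isN1 {D : Type u} [CommRing D] [IsDomain D] (h : CAlg.IsN1 D)
    (K : Type u) [Field K] [Algebra D K] [IsFractionRing D K] :
    Module.Finite D (integralClosure D K) := by
  have : Module.Finite D (integralClosure D (FractionRing D)) := h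
  exact Module.Finite.equiv (FractionRing.algEquiv D K).mapIntegralClosure.toLinearEquiv

theorem isN1_of_finite {D : Type u} [CommRing D] [IsDomain D]
    (K : Type u) [Field K] [Algebra D K] [IsFractionRing D K]
    (h : Module.Finite D (integralClosure D K)) : CAlg.IsN1 D :=
  Module.Finite.equiv (FractionRing.algEquiv D K).symm.mapIntegralClosure.toLinearEquiv

variable {R : Type u} [CommRing R] [IsDomain R]

local notation "K" => FractionRing R

theorem exists_isN1_forward [IsNoetherianRing R] (h : CAlg.IsN1 R) :
    (∃ f : R, f ≠ 0 ∧ IsIntegrallyClosed (Localization.Away f)) ∧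
      ∀ (m : Ideal R) [m.IsMaximal], CAlg.IsN1 (Localization.AtPrime m) := by
  classical
  have hS : (integralClosure R K).toSubmodule.FG := by
    have : Module.Finite R (integralClosure R K) := h
    exact (Module.Finite.iff_fg (N := (integralClosure R K).toSubmodule)).mp this
  obtain ⟨T, hT⟩ := hS
  refine ⟨?_, fun m _ => ?_⟩
  · obtain ⟨⟨f, hf⟩, hfT⟩ := IsLocalization.exist_integer_multiples_of_finset (nonZeroDivisors R) T
    have hf0 : f ≠ 0 := nonZeroDivisors.ne_zero hf
    refine ⟨f, hf0, ?_⟩
    have hle : Submonoid.powers f ≤ nonZeroDivisors R :=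
      powers_le_nonZeroDivisors_of_noZeroDivisors hf0
    letI : Algebra (Localization.Away f) K :=
      IsLocalization.localizationAlgebraOfSubmonoidLe (Localization.Away f) K (Submonoid.powers f) _ hle
    haveI : IsScalarTower R (Localization.Away f) K :=
      IsLocalization.localization_isScalarTower_of_submonoid_le (Localization.Away f) K (Submonoid.powers f) _ hle
    haveI : IsFractionRing (Localization.Away f) K :=
      IsFractionRing.isFractionRing_of_isDomain_of_isLocalization (Submonoid.powers f) _ _
    refine (isIntegrallyClosed_iff K).mpr fun {x} hx => ?_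
    obtain ⟨⟨_, n, rfl⟩, hn⟩ :=
      IsIntegral.exists_multiple_integral_of_isLocalization (Submonoid.powers f) x hx
    have key : ∀ z ∈ (integralClosure R K).toSubmodule, ∃ a : R, algebraMap R K a = f • z := by
      intro z hz
      rw [← hT] at hz
      induction hz using Submodule.span_induction with
      | mem z hz =>
        obtain ⟨a, ha⟩ := hfT z hz
        exact ⟨a, ha⟩
      | zero => exact ⟨0, by simp⟩
      | add y z _ _ hy hz =>
        obtain ⟨a, ha⟩ := hy; obtain ⟨b, hb⟩ := hz
        exact ⟨a + b, by rw [map_add, ha, hb, smul_add]⟩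
      | smul r y _ hy =>
        obtain ⟨a, ha⟩ := hy
        exact ⟨r * a, by rw [map_mul, ha, smul_comm, Algebra.smul_def r]⟩
    obtain ⟨a, ha⟩ := key _ hn
    refine ⟨IsLocalization.mk' (Localization.Away f) a (⟨f ^ (n + 1), n + 1, rfl⟩ : Submonoid.powers f), ?_⟩
    have hu : algebraMap R K (f ^ (n + 1)) ≠ 0 :=
      (map_ne_zero_iff _ (IsFractionRing.injective R K)).mpr (pow_ne_zero _ hf0)
    refine mul_left_cancel₀ hu ?_
    have hspec := IsLocalization.mk'_spec (Localization.Away f) a
      (⟨f ^ (n + 1), n + 1, rfl⟩ : Submonoid.powers f)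
    have := congrArg (algebraMap (Localization.Away f) K) hspec
    rw [map_mul, ← IsScalarTower.algebraMap_apply, ← IsScalarTower.algebraMap_apply] at this
    rw [mul_comm, this, ha]
    simp only [Submonoid.smul_def, Algebra.smul_def, pow_succ', map_mul, mul_assoc]
  · have hle : m.primeCompl ≤ nonZeroDivisors R := m.primeCompl_le_nonZeroDivisors
    letI : Algebra (Localization.AtPrime m) K :=
      IsLocalization.localizationAlgebraOfSubmonoidLe (Localization.AtPrime m) K m.primeCompl _ hle
    haveI : IsScalarTower R (Localization.AtPrime m) K :=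
      IsLocalization.localization_isScalarTower_of_submonoid_le (Localization.AtPrime m) K m.primeCompl _ hle
    haveI : IsFractionRing (Localization.AtPrime m) K :=
      IsFractionRing.isFractionRing_of_isDomain_of_isLocalization m.primeCompl _ _
    refine isN1_of_finite K ((Module.Finite.iff_fg
      (N := (integralClosure (Localization.AtPrime m) K).toSubmodule)).mpr ⟨T, le_antisymm ?_ ?_⟩)
    · rw [Submodule.span_le]
      intro z hz
      have : z ∈ (integralClosure R K).toSubmodule := hT ▸ Submodule.subset_span hz
      exact (show IsIntegral R z from this).tower_top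
    · intro z hz
      obtain ⟨s, hs⟩ := IsIntegral.exists_multiple_integral_of_isLocalization m.primeCompl z hz
      have h1 : s • z ∈ Submodule.span R (T : Set K) := hT ▸ hs
      have h2 : s • z ∈ Submodule.span (Localization.AtPrime m) (T : Set K) :=
        Submodule.span_le_restrictScalars R (Localization.AtPrime m) (T : Set K) h1
      obtain ⟨v, hv⟩ := IsLocalization.map_units (Localization.AtPrime m) s
      have h3 : z = (↑v⁻¹ : Localization.AtPrime m) • (s • z) := by
        rw [Submonoid.smul_def, ← algebraMap_smul (Localization.AtPrime m) (s : R) z, ← hv, smul_smul,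
          Units.inv_mul, one_smul]
      rw [h3]
      exact Submodule.smul_mem _ _ h2

/-- `M` captures the integral closure near `p`. -/
def Good (M : Submodule R K) (p : Ideal R) : Prop :=
  ∀ y : K, IsIntegral R y → ∃ s : R, s ∉ p ∧ s • y ∈ M

theorem exists_good_of_isN1 (m : Ideal R) [m.IsPrime] (h : CAlg.IsN1 (Localization.AtPrime m)) :
    ∃ M : Submodule R K, M.FG ∧ (1 : K) ∈ M ∧ (∀ y ∈ M, IsIntegral R y) ∧ Good M m := by
  classical
  have hle : m.primeCompl ≤ nonZeroDivisors R := m.primeCompl_le_nonZeroDivisors
  letI : Algebra (Localization.AtPrime m) K :=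
    IsLocalization.localizationAlgebraOfSubmonoidLe (Localization.AtPrime m) K m.primeCompl _ hle
  haveI : IsScalarTower R (Localization.AtPrime m) K :=
    IsLocalization.localization_isScalarTower_of_submonoid_le (Localization.AtPrime m) K m.primeCompl _ hle
  haveI : IsFractionRing (Localization.AtPrime m) K :=
    IsFractionRing.isFractionRing_of_isDomain_of_isLocalization m.primeCompl _ _
  have hfin := finite_integralClosure_of_isN1 h K
  obtain ⟨T, hT⟩ := (Module.Finite.iff_fg
    (N := (integralClosure (Localization.AtPrime m) K).toSubmodule)).mp hfin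
  have hmul : ∀ y : T, ∃ s : m.primeCompl, IsIntegral R (s • (y : K)) := fun y =>
    IsIntegral.exists_multiple_integral_of_isLocalization m.primeCompl _
      (show IsIntegral (Localization.AtPrime m) (y : K) from
        (show (y : K) ∈ (integralClosure (Localization.AtPrime m) K).toSubmodule from
          hT ▸ Submodule.subset_span y.2))
  choose s hs using hmul
  refine ⟨Submodule.span R ({1} ∪ Set.range fun y : T => s y • (y : K)),
    Submodule.fg_span ((Set.finite_singleton _).union (Set.finite_range _)),
    Submodule.subset_span (Or.inl rfl), fun y hy => ?_, fun y hy => ?_⟩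
  · have : y ∈ (integralClosure R K).toSubmodule := by
      refine Submodule.span_le.mpr ?_ hy
      rintro _ (rfl | ⟨z, rfl⟩)
      · exact isIntegral_one
      · exact hs z
    exact this
  · have hy' : y ∈ Submodule.span (Localization.AtPrime m) (T : Set K) :=
      hT.symm ▸ (hy.tower_top : IsIntegral (Localization.AtPrime m) y)
    clear hy
    induction hy' using Submodule.span_induction with
    | mem z hz => exact ⟨s ⟨z, hz⟩, (s ⟨z, hz⟩).2, Submodule.subset_span (Or.inr ⟨⟨z, hz⟩, rfl⟩)⟩
    | zero => exact ⟨1, m.primeCompl.one_mem, by simp⟩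
    | add a b _ _ ha hb =>
      obtain ⟨u, hu, hua⟩ := ha; obtain ⟨v, hv, hvb⟩ := hb
      refine ⟨u * v, m.primeCompl.mul_mem hu hv, ?_⟩
      rw [smul_add, mul_smul, mul_smul]
      exact Submodule.add_mem _ (by rw [smul_comm]; exact Submodule.smul_mem _ _ hua)
        (Submodule.smul_mem _ _ hvb)
    | smul c a _ ha =>
      obtain ⟨u, hu, hua⟩ := ha
      obtain ⟨⟨r, v⟩, hv⟩ := IsLocalization.surj m.primeCompl c
      refine ⟨v * u, m.primeCompl.mul_mem v.2 hu, ?_⟩
      have : ((v : R) * u) • (c • a) = r • (u • a) := by
        have h2 := congrArg (algebraMap (Localization.AtPrime m) K) hv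
        rw [map_mul, ← IsScalarTower.algebraMap_apply, ← IsScalarTower.algebraMap_apply] at h2
        simp only [Algebra.smul_def, map_mul]
        linear_combination (algebraMap R K u * a) * h2
      rw [this]
      exact Submodule.smul_mem _ _ hua

variable [IsNoetherianRing R]

theorem isOpen_good (M : Submodule R K) (hM : M.FG) (h1 : (1 : K) ∈ M) {f : R} (hf : f ≠ 0)
    (hpow : ∀ y : K, IsIntegral R y → ∃ n : ℕ, f ^ n • y ∈ M) :
    IsOpen {p : PrimeSpectrum R | Good M p.asIdeal} := by
  classical
  have : Module.Finite R M := Module.Finite.iff_fg.mpr hM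
  have hf' : algebraMap R K f ≠ 0 := (map_ne_zero_iff _ (IsFractionRing.injective R K)).mpr hf
  let F : K →ₗ[R] K := f • LinearMap.id
  let M' : Submodule R K := M.comap F
  have hFinj : Function.Injective F := fun a b hab =>
    mul_left_cancel₀ hf' (by simpa [F, Algebra.smul_def] using hab)
  have : Module.Finite R M' := Module.Finite.of_injective
    ((F.comp M'.subtype).codRestrict M fun x => x.2) fun a b hab =>
      Subtype.ext (hFinj (congrArg Subtype.val hab))
  let N := M' ⧸ M.comap M'.subtype
  let bad : Set (Ideal R) := {q ∈ associatedPrimes R N | ¬ Good M q}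
  have hbad : bad.Finite := (associatedPrimes.finite R N).subset fun q hq => hq.1
  have key : {p : PrimeSpectrum R | Good M p.asIdeal} =
      (⋃ q ∈ bad, PrimeSpectrum.zeroLocus (q : Set R))ᶜ := by
    ext p
    simp only [Set.mem_ofPred_eq, Set.mem_compl_iff, Set.mem_iUnion, PrimeSpectrum.mem_zeroLocus,
      SetLike.coe_subset_coe, not_exists]
    constructor
    · rintro hp q ⟨-, hq⟩ hqp
      exact hq fun y hy => let ⟨s, hs, h⟩ := hp y hy; ⟨s, fun h' => hs (hqp h'), h⟩
    · intro hp
      have step : ∀ y : K, IsIntegral R y → (∃ t, t ∉ p.asIdeal ∧ t • f • y ∈ M) →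
          ∃ s, s ∉ p.asIdeal ∧ s • y ∈ M := by
        rintro y hy ⟨t, ht, hty⟩
        let w : M' := ⟨t • y, by show f • t • y ∈ M; rwa [smul_comm]⟩
        let J : Ideal R := (M.comap M'.subtype).colon {w}
        by_cases hJ : J ≤ p.asIdeal
        · exfalso
          obtain ⟨q, hq, hqp⟩ := Ideal.exists_minimalPrimes_le hJ
          let N' : Submodule R N := R ∙ (M.comap M'.subtype).mkQ w
          have hann : Module.annihilator R N' = J := by
            ext r
            simp only [Module.mem_annihilator, J, Submodule.mem_colon_singleton]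
            constructor
            · intro hr
              have := congrArg Subtype.val (hr ⟨_, Submodule.mem_span_singleton_self _⟩)
              refine (Submodule.Quotient.mk_eq_zero _).mp ?_
              rw [Submodule.Quotient.mk_smul]
              simpa using this
            · rintro hr ⟨x, hx⟩
              obtain ⟨c, rfl⟩ := Submodule.mem_span_singleton.mp hx
              apply Subtype.ext
              simp only [SetLike.mk_smul_mk, Submodule.coe_zero]
              rw [smul_comm, ← map_smul, Submodule.mkQ_apply, (Submodule.Quotient.mk_eq_zero _).mpr hr,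
                smul_zero]
          have hqN : q ∈ associatedPrimes R N :=
            associatedPrimes.subset_of_injective (f := N'.subtype) N'.injective_subtype
              (Module.associatedPrimes.minimalPrimes_annihilator_subset_associatedPrimes R N'
                (by rwa [hann]))
          have hgood : Good M q := by
            by_contra hn; exact hp q ⟨hqN, hn⟩ hqp
          obtain ⟨s, hs, hsy⟩ := hgood (t • y) (hy.smul t)
          exact hs (hq.1.2 (Submodule.mem_colon_singleton.mpr hsy))
        · obtain ⟨s, hsJ, hsp⟩ := SetLike.not_le_iff_exists.mp hJ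
          have hsw : s • w ∈ M.comap M'.subtype := Submodule.mem_colon_singleton.mp hsJ
          exact ⟨s * t, fun hh => (p.2.mem_or_mem hh).elim hsp ht,
            by rw [mul_smul]; exact hsw⟩
      intro y hy
      obtain ⟨n, hn⟩ := hpow y hy
      have h1 : ∀ k ≤ n, ∃ s, s ∉ p.asIdeal ∧ s • f ^ k • y ∈ M := by
        intro k hk
        induction hk using Nat.decreasingInduction with
        | self => exact ⟨1, fun h1 => p.2.ne_top (p.asIdeal.eq_top_iff_one.mpr h1), by simpa using hn⟩
        | of_succ k _ ih =>
          refine step _ (hy.smul (f ^ k)) ?_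
          simpa [pow_succ', mul_smul] using ih
      simpa using h1 0 (Nat.zero_le n)
  rw [key, isOpen_compl_iff]
  exact hbad.isClosed_biUnion fun q _ => PrimeSpectrum.isClosed_zeroLocus _

theorem isN1_iff :
    CAlg.IsN1 R ↔ ((∃ f : R, f ≠ 0 ∧ IsIntegrallyClosed (Localization.Away f)) ∧
      ∀ (m : Ideal R) [m.IsMaximal], CAlg.IsN1 (Localization.AtPrime m)) := by
  classical
  refine ⟨exists_isN1_forward, ?_⟩
  rintro ⟨⟨f, hf, hn⟩, hloc⟩
  have hpow : ∀ (M : Submodule R K), (1 : K) ∈ M → ∀ y : K, IsIntegral R y → ∃ n : ℕ, f ^ n • y ∈ M := by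
    intro M hM y hy
    have hle : Submonoid.powers f ≤ nonZeroDivisors R :=
      powers_le_nonZeroDivisors_of_noZeroDivisors hf
    letI : Algebra (Localization.Away f) K :=
      IsLocalization.localizationAlgebraOfSubmonoidLe (Localization.Away f) K (Submonoid.powers f) _ hle
    haveI : IsScalarTower R (Localization.Away f) K :=
      IsLocalization.localization_isScalarTower_of_submonoid_le (Localization.Away f) K (Submonoid.powers f) _ hle
    haveI : IsFractionRing (Localization.Away f) K :=
      IsFractionRing.isFractionRing_of_isDomain_of_isLocalization (Submonoid.powers f) _ _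
    obtain ⟨z, hz⟩ := IsIntegrallyClosed.isIntegral_iff.mp (hy.tower_top (A := Localization.Away f))
    obtain ⟨⟨a, ⟨_, n, rfl⟩⟩, hs⟩ := IsLocalization.surj (Submonoid.powers f) z
    refine ⟨n, ?_⟩
    have : f ^ n • y = a • (1 : K) := by
      rw [Algebra.smul_def, Algebra.smul_def, mul_one, ← hz,
        IsScalarTower.algebraMap_apply R (Localization.Away f) K,
        IsScalarTower.algebraMap_apply R (Localization.Away f) K, ← map_mul, mul_comm, hs]
    rw [this]
    exact M.smul_mem _ hM
  have hex : ∀ p : PrimeSpectrum R, ∃ M : Submodule R K,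
      M.FG ∧ (1 : K) ∈ M ∧ (∀ y ∈ M, IsIntegral R y) ∧ Good M p.asIdeal := by
    intro p
    obtain ⟨m, hm, hpm⟩ := Ideal.exists_le_maximal _ p.2.ne_top
    obtain ⟨M, hM, h1, hint, hg⟩ := exists_good_of_isN1 m (hloc m)
    exact ⟨M, hM, h1, hint, fun y hy => let ⟨s, hs, h⟩ := hg y hy; ⟨s, fun h' => hs (hpm h'), h⟩⟩
  choose M hM h1 hint hgood using hex
  obtain ⟨t, ht⟩ := isCompact_univ.elim_finite_subcover
    (fun p : PrimeSpectrum R => {q : PrimeSpectrum R | Good (M p) q.asIdeal})
    (fun p => isOpen_good (M p) (hM p) (h1 p) hf (hpow _ (h1 p)))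
    (fun p _ => Set.mem_iUnion.mpr ⟨p, hgood p⟩)
  have hle : (t.sup M) = (integralClosure R K).toSubmodule := by
    refine le_antisymm (Finset.sup_le fun p _ y hy => hint p y hy) fun y hy => ?_
    let J : Ideal R := (t.sup M).comap (LinearMap.toSpanSingleton R K y)
    have hJ : J = ⊤ := by
      by_contra hJ
      obtain ⟨m, hm, hJm⟩ := Ideal.exists_le_maximal _ hJ
      obtain ⟨p, hp, hmp⟩ := Set.mem_iUnion₂.mp (ht (Set.mem_univ ⟨m, hm.isPrime⟩))
      obtain ⟨s, hs, hsy⟩ := hmp y hy
      exact hs (hJm (by simpa [J] using Finset.le_sup (f := M) hp hsy))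
    have : (1 : R) ∈ J := hJ ▸ Submodule.mem_top
    simpa [J] using this
  refine (Module.Finite.iff_fg (N := (integralClosure R K).toSubmodule)).mpr (hle ▸ ?_)
  exact Submodule.fg_finset_sup _ _ fun p _ => hM p

end Groth.Agent.RegLoc.N1
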