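import Groth.Agent.Depth.CM
import Groth.Agent.Dim.LocalHom
import Groth.Agent.LocFlat.Basic
import Groth.Agent.RegLoc.Homological
import Mathlib.RingTheory.TensorProduct.Quotient

/-!
# Miracle flatness

* `isSMulRegular_of_dim_drop` : in a CM local ring, an element cutting down the dimension is regular
* `flat_of_quotient` : `S/xS` flat over `R/x`, `x` regular on `R` and `S` gives `S` flat over `R`
* `flat_of_ringKrullDim_eq_add` : miracle flatness
-/

universe u

namespace Groth.Agent.RegLoc.Miracle

open IsLocalRing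
open scoped TensorProduct Pointwise

theorem isSMulRegular_of_dim_drop {S : Type u} [CommRing S] [LocCoh.IsCohenMacaulayLocalRing S]
    (y : S) (h : ringKrullDim (S ⧸ Ideal.span {y}) + 1 ≤ ringKrullDim S) : IsSMulRegular S y := by
  by_contra hc
  have : y ∈ ⋃ p ∈ associatedPrimes S S, (p : Set S) := by
    rw [biUnion_associatedPrimes_eq_compl_regular S S]; exact hc
  simp only [Set.mem_iUnion, SetLike.mem_coe, exists_prop] at this
  obtain ⟨p, hp, hyp⟩ := this
  have hp' := Depth.isPrime_of_mem_associatedPrimes hp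
  have h1 := Depth.ringKrullDim_quotient_associatedPrime
    ((Depth.isCohenMacaulayLocalRing_iff (R := S)).mp inferInstance) hp
  rw [Module.supportDim_self_eq_ringKrullDim] at h1
  have hle := ringKrullDim_le_of_surjective (Ideal.Quotient.factor ((Ideal.span_singleton_le_iff_mem p).mpr hyp))
    (Ideal.Quotient.factor_surjective _)
  rw [h1] at hle
  obtain ⟨n, hn, -⟩ := RegLoc.exists_natCast_eq_ringKrullDim S
  have hy : y ∈ maximalIdeal S := le_maximalIdeal hp'.ne_top hyp
  have := RegLoc.isLocalRing_quotient ((Ideal.span_singleton_le_iff_mem (maximalIdeal S)).mpr hy)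
  obtain ⟨f, hf, -⟩ := RegLoc.exists_natCast_eq_ringKrullDim (S ⧸ Ideal.span {y})
  rw [hn, hf] at h hle
  have h' : f + 1 ≤ n := by exact_mod_cast h
  have hle' : n ≤ f := by exact_mod_cast hle
  omega

/-- Flatness from flatness of a regular hyperplane section. -/
theorem flat_of_quotient {R S : Type u} [CommRing R] [IsNoetherianRing R] [IsLocalRing R]
    [CommRing S] [IsNoetherianRing S] [IsLocalRing S] [Algebra R S] [IsLocalHom (algebraMap R S)]
    {x : R} (hx : x ∈ maximalIdeal R) (hxS : IsSMulRegular S x)
    (h : Module.Flat (R ⧸ Ideal.span {x}) (S ⧸ (Ideal.span {x}).map (algebraMap R S))) :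
    Module.Flat R S := by
  have hne : Ideal.span {x} ≠ ⊤ := fun e =>
    (maximalIdeal.isMaximal R).ne_top (top_le_iff.mp (e ▸ (Ideal.span_singleton_le_iff_mem _).mpr hx))
  refine LocFlat.flat_criterion (S := S) S (Ideal.span {x})
    (LocFlat.map_le_jacobson _ hne) ?_ ?_
  · rw [injective_iff_map_eq_zero]
    intro z hz
    have hz' : ∃ s : S, (⟨x, Ideal.mem_span_singleton_self x⟩ : Ideal.span {x}) ⊗ₜ[R] s = z := by
      clear hz
      induction z with
      | zero => exact ⟨0, TensorProduct.tmul_zero _ _⟩
      | tmul a s =>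
        obtain ⟨c, hc⟩ := Ideal.mem_span_singleton'.mp a.2
        refine ⟨c • s, ?_⟩
        rw [← TensorProduct.smul_tmul]
        congr 1
        exact Subtype.ext hc
      | add a b ha hb =>
        obtain ⟨s, rfl⟩ := ha
        obtain ⟨t, rfl⟩ := hb
        exact ⟨s + t, TensorProduct.tmul_add _ _ _⟩
    obtain ⟨s, rfl⟩ := hz'
    have h0 := congrArg (TensorProduct.lid R S) hz
    rw [LinearMap.rTensor_tmul, TensorProduct.lid_tmul, map_zero] at h0
    have hs : s = 0 := hxS (h0.trans (smul_zero x).symm)
    rw [hs, TensorProduct.tmul_zero]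
  · have e : ((R ⧸ Ideal.span {x}) ⊗[R] S) ≃ₗ[R] S ⧸ (Ideal.span {x}).map (algebraMap R S) :=
      (TensorProduct.quotTensorEquivQuotSMul S (Ideal.span {x})).trans
        ((Submodule.quotEquivOfEq _ _ (Ideal.smul_top_eq_map (Ideal.span {x}))).trans
          ((Submodule.Quotient.restrictScalarsEquiv R _).restrictScalars R))
    exact Module.Flat.of_linearEquiv (e.extendScalarsOfSurjective Ideal.Quotient.mk_surjective)

lemma flat_aux (d : ℕ) : ∀ (R S : Type u) [CommRing R] [CommRing S] [IsRegularLocalRing R]
    [LocCoh.IsCohenMacaulayLocalRing S] [Algebra R S] [IsLocalHom (algebraMap R S)],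
    ringKrullDim R = d →
    ringKrullDim S = ringKrullDim R + ringKrullDim (S ⧸ (maximalIdeal R).map (algebraMap R S)) →
    Module.Flat R S := by
  induction d with
  | zero =>
    intro R S _ _ _ _ _ _ hd _
    have := (RegLoc.PD.pd_zero_iff S).mp (RegLoc.Homological.pd_le_dim hd S)
    infer_instance
  | succ d ih =>
    intro R S _ _ _ _ _ _ hd hdim
    have hμ := RegLoc.spanFinrank_eq_dim hd
    obtain ⟨x, hx, hx2⟩ := RegLoc.Homological.exists_mem_notMem_sq (R := R) fun h => by
      rw [h, Submodule.spanFinrank_bot] at hμ; omega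
    obtain ⟨hreg', e, he, hed⟩ := RegLoc.isRegularLocalRing_quotient_span_singleton hx hx2 hd
    obtain rfl : e = d := by omega
    let R' := R ⧸ Ideal.span {x}
    let I := (Ideal.span {x}).map (algebraMap R S)
    have hI : I = Ideal.span {algebraMap R S x} := by simp [I, Ideal.map_span]
    have hy : algebraMap R S x ∈ maximalIdeal S := map_nonunit (algebraMap R S) x hx
    have := RegLoc.isLocalRing_quotient (R := S) (I := I) (hI ▸ (Ideal.span_singleton_le_iff_mem _).mpr hy)
    have : IsLocalHom (algebraMap R' (S ⧸ I)) := by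
      refine ⟨fun a ha => ?_⟩
      obtain ⟨a, rfl⟩ := Ideal.Quotient.mk_surjective a
      by_contra hna
      have ha' : a ∈ maximalIdeal R := fun hu => hna (hu.map _)
      have h1 : Ideal.Quotient.mk I (algebraMap R S a) ∈ maximalIdeal (S ⧸ I) := by
        rw [RegLoc.maximalIdeal_quotient_eq_map]
        exact Ideal.mem_map_of_mem _ (map_nonunit (algebraMap R S) a ha')
      exact h1 ha
    -- the special fibre is unchanged
    have hfib : ringKrullDim ((S ⧸ I) ⧸ (maximalIdeal R').map (algebraMap R' (S ⧸ I))) =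
        ringKrullDim (S ⧸ (maximalIdeal R).map (algebraMap R S)) := by
      have hle : I ≤ (maximalIdeal R).map (algebraMap R S) :=
        Ideal.map_mono ((Ideal.span_singleton_le_iff_mem _).mpr hx)
      have heq : (maximalIdeal R').map (algebraMap R' (S ⧸ I)) =
          ((maximalIdeal R).map (algebraMap R S)).map (Ideal.Quotient.mk I) := by
        rw [RegLoc.maximalIdeal_quotient_eq_map, Ideal.map_map, Ideal.map_map]
        rfl
      rw [heq]
      exact ringKrullDim_eq_of_ringEquiv (DoubleQuot.quotQuotEquivQuotOfLE hle)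
    have hle := Dim.ringKrullDim_le_add_fibre R' (S ⧸ I)
    rw [hfib, he] at hle
    obtain ⟨s, hs, -⟩ := RegLoc.exists_natCast_eq_ringKrullDim S
    have := RegLoc.isLocalRing_quotient (R := S) (I := (maximalIdeal R).map (algebraMap R S))
      (map_maximalIdeal_le _)
    obtain ⟨f, hf, -⟩ := RegLoc.exists_natCast_eq_ringKrullDim (S ⧸ (maximalIdeal R).map (algebraMap R S))
    obtain ⟨g, hg, -⟩ := RegLoc.exists_natCast_eq_ringKrullDim (S ⧸ I)
    rw [hs, hd, hf] at hdim
    rw [hg, hf] at hle
    have hdim' : s = e + 1 + f := by exact_mod_cast hdim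
    have hle' : g ≤ e + f := by exact_mod_cast hle
    have hy' : IsSMulRegular S (algebraMap R S x) := by
      refine isSMulRegular_of_dim_drop _ ?_
      rw [← hI, hg, hs]
      exact_mod_cast (by omega : g + 1 ≤ s)
    have hxS : IsSMulRegular S x := fun a b hab => hy' (by
      simpa [Algebra.smul_def] using hab)
    have hdim2 : ringKrullDim (S ⧸ I) + 1 = ringKrullDim S := by
      rw [hI]; exact ringKrullDim_quotient_span_singleton_succ_eq_ringKrullDim hy' hy
    have : LocCoh.IsCohenMacaulayLocalRing (S ⧸ I) := by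
      rw [Depth.isCohenMacaulayLocalRing_iff, Depth.isCohenMacaulayModule_iff_of_surjective (R := S)
        Ideal.Quotient.mk_surjective]
      have e' : (QuotSMulTop (algebraMap R S x) S) ≃ₗ[S] S ⧸ I := Submodule.quotEquivOfEq _ _ (by
        rw [← Submodule.ideal_span_singleton_smul, smul_eq_mul, Ideal.mul_top, hI])
      exact (Depth.isCohenMacaulayModule_congr e').mp ((Depth.isCohenMacaulayModule_quotSMulTop_iff hy hy').mpr
        ((Depth.isCohenMacaulayLocalRing_iff (R := S)).mp inferInstance))
    have hflat := ih R' (S ⧸ I) he (by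
      rw [hfib, he, hf, hg]
      rw [hg, hs] at hdim2
      have : g + 1 = s := by exact_mod_cast hdim2
      exact_mod_cast (by omega : g = e + f))
    exact flat_of_quotient hx hxS hflat

theorem flat_of_ringKrullDim_eq_add {R S : Type u} [CommRing R] [CommRing S] [IsRegularLocalRing R]
    [LocCoh.IsCohenMacaulayLocalRing S] [Algebra R S] [IsLocalHom (algebraMap R S)]
    (hdim : ringKrullDim S = ringKrullDim R +
      ringKrullDim (S ⧸ (maximalIdeal R).map (algebraMap R S))) : Module.Flat R S := by
  obtain ⟨d, hd, -⟩ := RegLoc.exists_natCast_eq_ringKrullDim R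
  exact flat_aux d R S hd hdim

end Groth.Agent.RegLoc.Miracle
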