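import Groth.Agent.RegLoc.NormalLocus
import Groth.Agent.RegLoc.Basic
import Groth.Agent.Props.NormalCM
import Groth.Agent.FlatMor.DimOne

/-!
Serre's criterion: normal iff `(R_1)` and `(S_2)`.
-/

set_option autoImplicit false
set_option linter.style.haveILetI false

open IsLocalRing

universe u

namespace Groth.Agent.RegLoc.Serre

section Local

variable {A : Type u} [CommRing A] [IsLocalRing A] [IsNoetherianRing A]

theorem exists_regular_pair (h : 2 ≤ LocCoh.depth A A) {I : Ideal A}
    (hI : ∀ q : Ideal A, q.IsPrime → I ≤ q → q = maximalIdeal A) :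
    ∃ a ∈ I, ∃ c ∈ I, IsSMulRegular A a ∧ ∀ x, a ∣ c * x → a ∣ x := by
  rw [Depth.depth_eq_idealDepth] at h
  have hone : (1 : ℕ∞) ≤ 2 := by norm_num
  have hA := Depth.one_le_idealDepth_iff.mp (hone.trans h)
  obtain ⟨r, hr, hreg⟩ := Depth.exists_isSMulRegular_of_forall_not_le hA
  obtain ⟨a, ha, hareg⟩ := Depth.exists_isSMulRegular_of_forall_not_le (I := I) (M := A)
    fun q hq hle => hA q hq (hI q (Depth.isPrime_of_mem_associatedPrimes hq) hle).ge
  by_cases haI : a ∈ maximalIdeal A
  · have h1 : 1 ≤ LocCoh.idealDepth (maximalIdeal A) (QuotSMulTop a A) := by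
      rw [← Depth.idealDepth_quotSMulTop_add_one haI hareg] at h
      exact (WithTop.add_le_add_iff_right ENat.one_ne_top).mp
        (le_of_eq_of_le one_add_one_eq_two h)
    obtain ⟨c, hc, hcreg⟩ := Depth.exists_isSMulRegular_of_forall_not_le (I := I)
      (M := QuotSMulTop a A) fun q hq hle => Depth.one_le_idealDepth_iff.mp h1 q hq
        (hI q (Depth.isPrime_of_mem_associatedPrimes hq) hle).ge
    refine ⟨a, ha, c, hc, hareg, fun x hx => ?_⟩
    have hmem : ∀ w : A, (Submodule.Quotient.mk w : QuotSMulTop a A) = 0 ↔ a ∣ w := by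
      intro w
      rw [Submodule.Quotient.mk_eq_zero, Submodule.mem_smul_pointwise_iff_exists]
      exact ⟨fun ⟨v, _, hv⟩ => ⟨v, hv.symm⟩, fun ⟨v, hv⟩ => ⟨v, trivial, hv.symm⟩⟩
    refine (hmem x).mp (hcreg ?_)
    show c • Submodule.Quotient.mk x = c • (0 : QuotSMulTop a A)
    rw [smul_zero, ← Submodule.Quotient.mk_smul, smul_eq_mul, (hmem _).mpr hx]
  · exact ⟨a, ha, a, ha, hareg, fun x _ =>
      (IsLocalRing.notMem_maximalIdeal.mp haI).dvd⟩

/-- In depth `≥ 2`, if the punctured spectrum is normal, the ring is reduced. -/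
theorem isReduced_of_depth (h : 2 ≤ LocCoh.depth A A)
    (H : ∀ (q : Ideal A) [q.IsPrime], q ≠ maximalIdeal A → IsDomain (Localization.AtPrime q)) :
    IsReduced A := by
  rw [Depth.depth_eq_idealDepth] at h
  have hone : (1 : ℕ∞) ≤ 2 := by norm_num
  have hA := Depth.one_le_idealDepth_iff.mp (hone.trans h)
  refine isReduced_iff_pow_one_lt 2 (by norm_num) |>.mpr fun x hx => ?_
  by_contra hne
  obtain ⟨q, hq, hle⟩ := exists_le_isAssociatedPrime_of_isNoetherianRing A x hne
  have := hq.isPrime
  have := H q fun h' => hA q hq h'.ge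
  have h0 : algebraMap A (Localization.AtPrime q) x = 0 := by
    have : algebraMap A (Localization.AtPrime q) x ^ 2 = 0 := by rw [← map_pow, hx, map_zero]
    exact eq_zero_of_pow_eq_zero this
  obtain ⟨s, hs⟩ := (IsLocalization.map_eq_zero_iff q.primeCompl _ x).mp h0
  exact s.2 (hle (by simpa [Submodule.mem_colon_singleton] using hs))

/-- In depth `≥ 2`, if the punctured spectrum is normal, the ring is a domain. -/
theorem isDomain_of_depth (h : 2 ≤ LocCoh.depth A A)
    (H : ∀ (q : Ideal A) [q.IsPrime], q ≠ maximalIdeal A → IsDomain (Localization.AtPrime q)) :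
    IsDomain A := by
  classical
  have := isReduced_of_depth h H
  let F := (minimalPrimes.finite_of_isNoetherianRing A).toFinset
  obtain ⟨P, hP, -⟩ := Ideal.exists_minimalPrimes_le (bot_le : (⊥ : Ideal A) ≤ maximalIdeal A)
  have hPp : P.IsPrime := hP.1.1
  let Q : Ideal A := (F.erase P).inf id
  have hPQ : P ⊓ Q = ⊥ := by
    rw [eq_bot_iff]
    refine le_trans ?_ (nilradical_eq_zero A).le
    rw [nilradical, Ideal.zero_eq_bot, ← Ideal.sInf_minimalPrimes]
    refine le_sInf fun q hq => ?_
    by_cases hqP : q = P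
    · exact hqP ▸ inf_le_left
    · exact inf_le_right.trans (Finset.inf_le (f := id) (Finset.mem_erase.mpr
        ⟨hqP, (Set.Finite.mem_toFinset _).mpr hq⟩))
  by_cases hPbot : P = ⊥
  · subst hPbot
    exact IsDomain.of_bot_isPrime A
  exfalso
  obtain ⟨y, hyP, hy⟩ := Submodule.exists_mem_ne_zero_of_ne_bot hPbot
  have hQP : ¬ Q ≤ P := by
    intro hle
    obtain ⟨P', hP', hle'⟩ := (hPp.inf_le' (f := id)).mp hle
    obtain ⟨hne, hP'F⟩ := Finset.mem_erase.mp hP'
    exact hne (le_antisymm hle' (hP.2 ((Set.Finite.mem_toFinset _).mp hP'F).1 hle'))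
  obtain ⟨z, hzQ, hzP⟩ := SetLike.not_le_iff_exists.mp hQP
  have hprod : ∀ u ∈ P, ∀ v ∈ Q, u * v = 0 := fun u hu v hv => by
    have : u * v ∈ P ⊓ Q := ⟨P.mul_mem_right _ hu, Q.mul_mem_left _ hv⟩
    rwa [hPQ] at this
  obtain ⟨a, ha, c, hc, hareg, hdvd⟩ := exists_regular_pair h (I := P ⊔ Q) (by
    intro q hq hle
    by_contra hne
    obtain ⟨P', hP', hle'⟩ := (hq.inf_le' (f := id)).mp (le_sup_right.trans hle)
    obtain ⟨hne', hP'F⟩ := Finset.mem_erase.mp hP'
    have hP'm := (Set.Finite.mem_toFinset _).mp hP'F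
    have := H q hne
    let K := RingHom.ker (algebraMap A (Localization.AtPrime q))
    have hK : K.IsPrime := RingHom.ker_isPrime _
    have hKle : ∀ T : Ideal A, T.IsPrime → T ≤ q → K ≤ T := fun T hT hTq x hx => by
      obtain ⟨s, hs⟩ := (IsLocalization.map_eq_zero_iff q.primeCompl _ x).mp hx
      exact (hT.mem_or_mem (hs ▸ T.zero_mem)).resolve_left fun h' => s.2 (hTq h')
    have e1 := le_antisymm (hP.2 ⟨hK, bot_le⟩ (hKle P hPp (le_sup_left.trans hle)))
      (hKle P hPp (le_sup_left.trans hle))
    have e2 := le_antisymm (hP'm.2 ⟨hK, bot_le⟩ (hKle P' hP'm.1.1 hle'))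
      (hKle P' hP'm.1.1 hle')
    exact hne' (e2.trans e1.symm))
  obtain ⟨a₁, ha₁, a₂, ha₂, rfl⟩ := Submodule.mem_sup.mp ha
  obtain ⟨c₁, hc₁, c₂, hc₂, rfl⟩ := Submodule.mem_sup.mp hc
  obtain ⟨d, hd⟩ := hdvd a₁ ⟨c₁, by
    linear_combination hprod a₁ ha₁ c₂ hc₂ - hprod c₁ hc₁ a₂ ha₂⟩
  have hnot : ∀ w, (a₁ + a₂) * w = 0 → w = 0 := fun w hw => hareg (by simpa using hw)
  have haP : a₁ + a₂ ∉ P := fun hh => hzP ((hnot z (hprod _ hh z hzQ)) ▸ P.zero_mem)
  have hdP : d ∈ P := (hPp.mem_or_mem (hd ▸ ha₁)).resolve_left haP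
  have h1d : IsUnit (1 - d) :=
    IsLocalRing.isUnit_one_sub_self_of_mem_nonunits d
      ((IsLocalRing.mem_maximalIdeal d).mp (IsLocalRing.le_maximalIdeal hPp.ne_top hdP))
  have haQ : a₁ + a₂ ∈ Q := by
    refine (Ideal.mul_unit_mem_iff_mem Q h1d).mp ?_
    have : (a₁ + a₂) * (1 - d) = a₂ := by linear_combination hd
    rwa [this]
  exact hy (hnot y (by rw [mul_comm]; exact hprod y hyP _ haQ))

/-- In depth `≥ 2`, if the punctured spectrum is normal, the ring is integrally closed. -/
theorem isIntegrallyClosed_of_depth [IsDomain A] (h : 2 ≤ LocCoh.depth A A)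
    (H : ∀ (q : Ideal A) [q.IsPrime], q ≠ maximalIdeal A →
      IsIntegrallyClosed (Localization.AtPrime q)) :
    IsIntegrallyClosed A := by
  let K := FractionRing A
  refine (isIntegrallyClosed_iff K).mpr fun {x} hx => ?_
  let J : Ideal A := (LinearMap.range (Algebra.linearMap A K)).comap (LinearMap.toSpanSingleton A K x)
  have hJmem : ∀ r, r ∈ J → ∃ w, algebraMap A K w = algebraMap A K r * x := by
    intro r hr
    simpa [J, Algebra.smul_def] using hr
  obtain ⟨a, ha, c, hc, hareg, hdvd⟩ := exists_regular_pair h (I := J) (by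
    intro q hq hle
    by_contra hne
    have := H q hne
    obtain ⟨s, hs, w, hw⟩ := RegLoc.inLocal_of_isIntegrallyClosed q hx
    exact hs (hle (by simp [J, Algebra.smul_def]; exact ⟨w, hw⟩)))
  obtain ⟨u, hu⟩ := hJmem a ha
  obtain ⟨v, hv⟩ := hJmem c hc
  have hcu : c * u = a * v := IsFractionRing.injective A K (by rw [map_mul, map_mul, hu, hv]; ring)
  obtain ⟨w, rfl⟩ := hdvd u ⟨v, hcu⟩
  refine ⟨w, mul_left_cancel₀ ?_ (by rwa [map_mul] at hu)⟩
  rw [Ne, IsFractionRing.to_map_eq_zero_iff (K := K)]
  rintro rfl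
  exact one_ne_zero (hareg (by simp : (0 : A) • (1 : A) = (0 : A) • (0 : A)))

/-- A normal local domain with non-principal maximal ideal has depth at least two. -/
theorem two_le_depth [IsDomain A] [IsIntegrallyClosed A] (hA : ¬ (maximalIdeal A).IsPrincipal) :
    2 ≤ LocCoh.depth A A := by
  have hm : maximalIdeal A ≠ ⊥ := fun h => hA (h ▸ bot_isPrincipal)
  obtain ⟨x, hxm, hx⟩ := Submodule.exists_mem_ne_zero_of_ne_bot hm
  have hreg : IsSMulRegular A x := (isRegular_of_ne_zero hx).left
  rw [Depth.depth_eq_idealDepth, ← Depth.idealDepth_quotSMulTop_add_one hxm hreg]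
  change (1 : ℕ∞) + 1 ≤ _
  refine add_le_add (Depth.one_le_idealDepth_iff.mpr fun p hp hle => ?_) le_rfl
  obtain ⟨hp', z, hz⟩ := isAssociatedPrime_iff.mp hp
  obtain rfl : p = maximalIdeal A := le_antisymm (IsLocalRing.le_maximalIdeal hp'.ne_top) hle
  obtain ⟨y, rfl⟩ := Submodule.Quotient.mk_surjective _ z
  have hmem : ∀ w : A, (Submodule.Quotient.mk w : QuotSMulTop x A) = 0 ↔ x ∣ w := by
    intro w
    rw [Submodule.Quotient.mk_eq_zero, Submodule.mem_smul_pointwise_iff_exists]
    exact ⟨fun ⟨v, _, hv⟩ => ⟨v, hv.symm⟩, fun ⟨v, hv⟩ => ⟨v, trivial, hv.symm⟩⟩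
  have hdiv : x ∣ y := Props.NormalCM.notMem_of_smul_mem hx (fun b hb => by
    rw [hz, Submodule.mem_colon_singleton, Submodule.mem_bot, ← Submodule.Quotient.mk_smul, hmem] at hb
    exact hb) hA
  refine hp'.ne_top ?_
  rw [hz, Ideal.eq_top_iff_one, Submodule.mem_colon_singleton, one_smul, Submodule.mem_bot, hmem]
  exact hdiv

theorem min_two_dim_le_depth [IsDomain A] [IsIntegrallyClosed A] :
    min (2 : WithBot ℕ∞) (ringKrullDim A) ≤ ((LocCoh.depth A A : ℕ∞) : WithBot ℕ∞) := by
  by_cases hd : ringKrullDim A ≤ 2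
  · have := (Props.NormalCM.isCohenMacaulayLocalRing_of_dim_le_two hd).supportDim_eq_depth
    rw [← Module.supportDim_self_eq_ringKrullDim, this]
    exact min_le_right _ _
  · refine min_le_of_left_le ?_
    have hA : ¬ (maximalIdeal A).IsPrincipal := fun hp => hd <| by
      rw [← maximalIdeal_height_eq_ringKrullDim]
      exact (WithBot.coe_le_coe.mpr (Ideal.height_le_one_of_isPrincipal_of_mem_minimalPrimes
        (maximalIdeal A) (maximalIdeal A)
          (by rw [Ideal.minimalPrimes_eq_subsingleton_self]; rfl))).trans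
            (WithBot.coe_le_coe.mpr (by norm_num : (1 : ℕ∞) ≤ 2))
    exact WithBot.coe_le_coe.mpr (two_le_depth hA)

end Local

variable {R : Type u} [CommRing R]

theorem supportDim_localizedModule_self (p : Ideal R) [p.IsPrime] :
    Module.supportDim (Localization.AtPrime p) (LocalizedModule p.primeCompl R) = p.height := by
  rw [Module.supportDim_eq_of_equiv (Depth.localizedModuleSelfEquiv p.primeCompl),
    Module.supportDim_self_eq_ringKrullDim, IsLocalization.AtPrime.ringKrullDim_eq_height p]

theorem depth_localizedModule_self (p : Ideal R) [p.IsPrime] :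
    LocCoh.depth (Localization.AtPrime p) (LocalizedModule p.primeCompl R) =
      LocCoh.depth (Localization.AtPrime p) (Localization.AtPrime p) := by
  simp only [Depth.depth_eq_idealDepth]

variable [IsNoetherianRing R]

theorem serre_criterion :
    (∀ (p : Ideal R) [p.IsPrime], IsDomain (Localization.AtPrime p) ∧
      IsIntegrallyClosed (Localization.AtPrime p)) ↔ (LocCoh.HasRk 1 R ∧ LocCoh.HasSk 2 R R) := by
  constructor
  · intro h
    refine ⟨fun p _ hp => ?_, fun p _ => ?_⟩
    · have := (h p).1
      have := (h p).2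
      refine Props.NormalCM.isRegularLocalRing_of_dim_le_one _ ?_
      rw [IsLocalization.AtPrime.ringKrullDim_eq_height p]
      exact WithBot.coe_le_coe.mpr (by exact_mod_cast hp)
    · have := (h p).1
      have := (h p).2
      rw [supportDim_localizedModule_self, depth_localizedModule_self,
        ← IsLocalization.AtPrime.ringKrullDim_eq_height p (Localization.AtPrime p)]
      exact min_two_dim_le_depth
  · rintro ⟨h1, h2⟩
    suffices ∀ (n : ℕ) (p : Ideal R) [p.IsPrime], p.height ≤ n →
        IsDomain (Localization.AtPrime p) ∧ IsIntegrallyClosed (Localization.AtPrime p) by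
      intro p _
      obtain ⟨n, hn⟩ := ENat.ne_top_iff_exists.mp (Ideal.height_ne_top_of_isPrime (I := p))
      exact this n p hn.ge
    intro n
    induction n using Nat.strong_induction_on with
    | _ n ih =>
      intro p _ hp
      by_cases hp1 : p.height ≤ 1
      · have := h1 p (by exact_mod_cast hp1)
        have hdom := RegLoc.isDomain (Localization.AtPrime p)
        have hpid := FlatMor.DimOne.isPrincipalIdealRing (Localization.AtPrime p) (by
          rw [IsLocalization.AtPrime.ringKrullDim_eq_height p]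
          exact WithBot.coe_le_coe.mpr hp1)
        exact ⟨hdom, inferInstance⟩
      · have h2p : (2 : ℕ∞) ≤ p.height := by
          have := Order.add_one_le_of_lt (not_le.mp hp1)
          rwa [one_add_one_eq_two] at this
        have hdepth : 2 ≤ LocCoh.depth (Localization.AtPrime p) (Localization.AtPrime p) := by
          have := h2 p
          rw [supportDim_localizedModule_self, depth_localizedModule_self] at this
          rcases min_le_iff.mp this with h | h
          · exact WithBot.coe_le_coe.mp h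
          · exact h2p.trans (WithBot.coe_le_coe.mp h)
        have H : ∀ (q : Ideal (Localization.AtPrime p)) [q.IsPrime],
            q ≠ maximalIdeal (Localization.AtPrime p) →
            IsDomain (Localization.AtPrime q) ∧ IsIntegrallyClosed (Localization.AtPrime q) := by
          intro q _ hq
          let q₀ := q.comap (algebraMap R (Localization.AtPrime p))
          have hlt : q₀ < p := by
            refine lt_of_le_of_ne ?_ ?_
            · exact (Ideal.comap_mono (IsLocalRing.le_maximalIdeal (Ideal.IsPrime.ne_top ‹_›))).trans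
                (le_of_eq (Localization.AtPrime.under_maximalIdeal (I := p)))
            · intro he
              apply hq
              rw [← IsLocalization.map_under p.primeCompl (Localization.AtPrime p) q,
                ← Localization.AtPrime.map_eq_maximalIdeal (I := p)]
              exact congrArg _ he
          have hh := (Ideal.height_strict_mono_of_isPrime hlt).trans_le hp
          obtain ⟨m, hm⟩ := ENat.ne_top_iff_exists.mp (ne_top_of_lt hh)
          obtain ⟨hd, hic⟩ := ih m (by rw [← hm] at hh; exact_mod_cast hh) q₀ hm.ge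
          haveI : IsLocalization.AtPrime (Localization.AtPrime q) q₀ :=
            IsLocalization.isLocalization_isLocalization_atPrime_isLocalization
              (M := p.primeCompl) (Localization.AtPrime q) q
          let e := (IsLocalization.algEquiv q₀.primeCompl (Localization.AtPrime q₀)
            (Localization.AtPrime q)).toRingEquiv
          exact ⟨e.symm.toMulEquiv.isDomain _, IsIntegrallyClosed.of_equiv e⟩
        haveI := isDomain_of_depth hdepth fun q _ hq => (H q hq).1
        exact ⟨inferInstance, isIntegrallyClosed_of_depth hdepth fun q _ hq => (H q hq).2⟩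

end Groth.Agent.RegLoc.Serre
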