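import Groth.Agent.RegLoc.Homological
import Mathlib.RingTheory.UniqueFactorizationDomain.Multiplicity
import Mathlib.RingTheory.UniqueFactorizationDomain.Kaplansky
import Mathlib.RingTheory.Ideal.Height
import Mathlib.RingTheory.Ideal.MinimalPrime.Basic
import Mathlib.RingTheory.Localization.Away.Basic
import Mathlib.LinearAlgebra.Matrix.Determinant.Basic
import Mathlib.LinearAlgebra.Determinant
import Mathlib.RingTheory.LocalRing.Module

/-!
# The theorem of Auslander and Buchsbaum: regular local rings are factorial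

* `isPrincipal_of_stablyFree` : a stably free ideal of a domain is principal
* `exists_stablyFree` : a finite module of finite projective dimension over a local ring which becomes
  projective after a flat base change becomes stably free
* `uniqueFactorizationMonoid` : a regular local ring is a UFD
-/

namespace Groth.Agent.RegLoc.UFD

open IsLocalRing CategoryTheory
open scoped TensorProduct
open Groth.Agent.RegLoc.PD

universe u

/-- A stably free ideal of a domain is principal, by a determinant argument. -/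
theorem isPrincipal_of_stablyFree {R : Type u} [CommRing R] [IsDomain R] (J : Ideal R) {m n : ℕ}
    (e : (J × (Fin m → R)) ≃ₗ[R] (Fin n → R)) : Submodule.IsPrincipal J := by
  classical
  rcases eq_or_ne J ⊥ with rfl | hJ
  · exact inferInstance
  obtain ⟨a₀, ha₀, ha₀0⟩ := Submodule.exists_mem_ne_zero_of_ne_bot hJ
  let c : (R × (Fin m → R)) ≃ₗ[R] (Fin (m + 1) → R) := Fin.consLinearEquiv R (fun _ : Fin (m + 1) => R)
  let ι : (J × (Fin m → R)) →ₗ[R] (Fin (m + 1) → R) := c.toLinearMap ∘ₗ (Submodule.subtype J).prodMap LinearMap.id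
  have hι : Function.Injective ι := c.injective.comp fun x y h => by
    obtain ⟨h1, h2⟩ := Prod.ext_iff.mp h
    exact Prod.ext (Subtype.ext h1) h2
  let j : J → (Fin (m + 1) → R) →ₗ[R] (J × (Fin m → R)) := fun a =>
    ((LinearMap.toSpanSingleton R J a).prodMap LinearMap.id) ∘ₗ c.symm.toLinearMap
  have hj : Function.Injective (j ⟨a₀, ha₀⟩) := fun x y h => c.symm.injective (by
    obtain ⟨h1, h2⟩ := Prod.ext_iff.mp h
    exact Prod.ext (mul_right_cancel₀ ha₀0 (congrArg Subtype.val h1)) h2)
  have h1 : n ≤ m + 1 := by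
    simpa using LinearMap.finrank_le_finrank_of_injective (f := ι ∘ₗ e.symm.toLinearMap) (hι.comp e.symm.injective)
  have h2 : m + 1 ≤ n := by
    simpa using LinearMap.finrank_le_finrank_of_injective (f := e.toLinearMap ∘ₗ j ⟨a₀, ha₀⟩) (e.injective.comp hj)
  obtain rfl : n = m + 1 := le_antisymm h1 h2
  let Φ : (Fin (m + 1) → R) →ₗ[R] (Fin (m + 1) → R) := ι ∘ₗ e.symm.toLinearMap
  refine ⟨LinearMap.det Φ, le_antisymm (fun a ha => ?_) ((Ideal.span_singleton_le_iff_mem J).mpr ?_)⟩
  · let N : (Fin (m + 1) → R) →ₗ[R] (Fin (m + 1) → R) := e.toLinearMap ∘ₗ j ⟨a, ha⟩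
    have hN : Φ ∘ₗ N = Matrix.toLin' (Matrix.diagonal (Fin.cons a 1 : Fin (m + 1) → R)) := by
      refine LinearMap.ext fun x => ?_
      have : Φ (N x) = ι (j ⟨a, ha⟩ x) := by simp [Φ, N]
      rw [LinearMap.comp_apply, this, Matrix.toLin'_apply]
      funext i
      rw [Matrix.mulVec_diagonal]
      refine Fin.cases ?_ (fun i => ?_) i
      · simp [ι, j, c, mul_comm]
      · simp [ι, j, c, Fin.tail]
    have h := congrArg LinearMap.det hN
    rw [LinearMap.det_comp, LinearMap.det_toLin', Matrix.det_diagonal, Fin.prod_cons] at h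
    refine Ideal.mem_span_singleton'.mpr ⟨LinearMap.det N, ?_⟩
    rw [mul_comm, h]
    simp
  · rw [← LinearMap.det_toMatrix', ← Ideal.Quotient.eq_zero_iff_mem, RingHom.map_det]
    refine Matrix.det_eq_zero_of_row_eq_zero 0 fun i => Ideal.Quotient.eq_zero_iff_mem.mpr ?_
    rw [LinearMap.toMatrix'_apply]
    simp [Φ, ι, c]

/-- Finite projective dimension over a local ring gives stably free modules after flat base change. -/
theorem exists_stablyFree {A : Type u} [CommRing A] [IsLocalRing A] [IsNoetherianRing A]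
    (S : Type u) [CommRing S] [Algebra A S] [Module.Flat A S] (k : ℕ) :
    ∀ (N : Type u) [AddCommGroup N] [Module A N] [Module.Finite A N],
      HasProjectiveDimensionLE (ModuleCat.of A N) k → Module.Projective S (S ⊗[A] N) →
        ∃ m n : ℕ, Nonempty (((S ⊗[A] N) × (Fin m → S)) ≃ₗ[S] (Fin n → S)) := by
  induction k with
  | zero =>
    intro N _ _ _ hN _
    rw [pd_zero_iff] at hN
    have := Module.finitePresentation_of_finite A N
    have : Module.Free A N := Module.free_of_flat_of_isLocalRing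
    exact ⟨0, Module.finrank A N, ⟨LinearEquiv.prodUnique.trans
      ((Module.finBasis A N).baseChange S).equivFun⟩⟩
  | succ k ih =>
    intro N _ _ _ hN hP
    obtain ⟨r, f, hf⟩ := Module.Finite.exists_fin' A N
    rw [pd_shift f hf] at hN
    have hfS := baseChange_surjective S f hf
    obtain ⟨s, hs⟩ := (f.baseChange S).exists_rightInverse_of_surjective (LinearMap.range_eq_top.mpr hfS)
    let eK := kerBaseChangeEquiv S f hf
      (Module.Flat.lTensor_preserves_injective_linearMap _ (Submodule.injective_subtype _))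
    let π : (S ⊗[A] (Fin r → A)) →ₗ[S] LinearMap.ker (f.baseChange S) :=
      (LinearMap.id - s ∘ₗ f.baseChange S).codRestrict _ fun x => by
        have := LinearMap.congr_fun hs (f.baseChange S x)
        simp only [LinearMap.comp_apply, LinearMap.id_apply] at this
        simp [this]
    have hπ : ∀ x : LinearMap.ker (f.baseChange S), π x.1 = x := fun x => Subtype.ext (by simp [π, x.2])
    have : Module.Projective S (LinearMap.ker (f.baseChange S)) :=
      Module.Projective.of_split (Submodule.subtype _) π (LinearMap.ext hπ)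
    obtain ⟨m, n, ⟨e⟩⟩ := ih _ hN (Module.Projective.of_equiv eK.symm)
    let E : (S ⊗[A] (Fin r → A)) ≃ₗ[S] ((S ⊗[A] N) × (S ⊗[A] LinearMap.ker f)) :=
      { toLinearMap := (f.baseChange S).prod (eK.symm.toLinearMap ∘ₗ π)
        invFun := fun x => s x.1 + (eK x.2).1
        left_inv := fun x => by simp [π]
        right_inv := fun x => by
          have h1 : f.baseChange S (s x.1) = x.1 := LinearMap.congr_fun hs x.1
          have h2 : f.baseChange S (eK x.2).1 = 0 := (eK x.2).2
          refine Prod.ext (by simp [h1, h2]) ?_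
          change eK.symm (π (s x.1 + (eK x.2).1)) = x.2
          rw [LinearEquiv.symm_apply_eq, map_add, hπ]
          simp [π, h1, Subtype.ext_iff] }
    exact ⟨n, r + m, ⟨((LinearEquiv.refl S (S ⊗[A] N)).prodCongr e.symm).trans <|
      (LinearEquiv.prodAssoc S _ _ _).symm.trans <|
      ((E.symm.trans ((Pi.basisFun A (Fin r)).baseChange S).equivFun).prodCongr
        (LinearEquiv.refl S (Fin m → S))).trans <|
      (LinearEquiv.sumArrowLequivProdArrow (Fin r) (Fin m) S S).symm.trans <|
      LinearEquiv.funCongrLeft S S finSumFinEquiv.symm⟩⟩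

/-- A locally principal ideal of a domain is projective. -/
theorem projective_of_locallyPrincipal {R : Type u} [CommRing R] [IsDomain R] (J : Ideal R)
    (h : Ideal.span {s : R | ∃ g ∈ J, g ≠ 0 ∧ ∀ z ∈ J, g ∣ s * z} = ⊤) : Module.Projective R J := by
  classical
  have h1 : (1 : R) ∈ Ideal.span {s : R | ∃ g ∈ J, g ≠ 0 ∧ ∀ z ∈ J, g ∣ s * z} := h ▸ trivial
  obtain ⟨c, hsum⟩ := (Finsupp.mem_span_iff_linearCombination _ _ _).mp h1
  choose g hg hg0 hdvd using fun s : {s : R | ∃ g ∈ J, g ≠ 0 ∧ ∀ z ∈ J, g ∣ s * z} => s.2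
  choose t ht using fun (s : c.support) (z : J) => hdvd s.1 z.1 z.2
  let i : J →ₗ[R] (c.support → R) :=
    { toFun := fun z s => c s.1 * t s z
      map_add' := fun z z' => funext fun s => by
        refine (congrArg _ (mul_left_cancel₀ (hg0 s.1) ?_)).trans (mul_add _ _ _)
        rw [mul_add, ← ht, ← ht, ← ht, Submodule.coe_add, mul_add]
      map_smul' := fun a z => funext fun s => by
        refine Eq.trans (congrArg _ (mul_left_cancel₀ (hg0 s.1) ?_)) (mul_left_comm a _ _).symm
        rw [mul_left_comm, ← ht, ← ht, Submodule.coe_smul, smul_eq_mul, mul_left_comm] }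
  let p : (c.support → R) →ₗ[R] J := Fintype.linearCombination R fun s => ⟨g s.1, hg s.1⟩
  refine Module.Projective.of_split i p (LinearMap.ext fun z => Subtype.ext ?_)
  have hz : ∀ s : c.support, c s.1 * t s z * g s.1 = c s.1 * (s.1.1 * z.1) := fun s => by
    rw [ht, mul_assoc, mul_comm (g _)]
  simp only [p, i, LinearMap.comp_apply, Fintype.linearCombination_apply, LinearMap.coe_mk, AddHom.coe_mk,
    Submodule.coe_sum, Submodule.coe_smul, smul_eq_mul, hz, LinearMap.id_apply]
  rw [Finsupp.linearCombination_apply] at hsum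
  have hsum' : (∑ s : c.support, c s.1 * s.1.1) = 1 := by
    rw [← hsum]
    exact Finset.sum_attach c.support (fun s => c s * s.1)
  simp only [← mul_assoc, ← Finset.sum_mul, hsum', one_mul]

variable {A : Type u} [CommRing A]

/-- The locus where a minimal prime of a principal ideal is principal, from factoriality of a localisation. -/
theorem exists_notMem_dvd [IsDomain A] [IsNoetherianRing A] {a : A} (ha : a ≠ 0) {p : Ideal A}
    (hp : p ∈ (Ideal.span {a}).minimalPrimes) (q : Ideal A) [q.IsPrime]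
    [UniqueFactorizationMonoid (Localization.AtPrime q)] :
    ∃ s ∉ q, ∃ g ∈ p, g ≠ 0 ∧ ∀ z ∈ p, g ∣ s * z := by
  classical
  have := hp.1.1
  have hap : a ∈ p := hp.1.2 (Ideal.mem_span_singleton_self a)
  by_cases hpq : p ≤ q
  swap
  · obtain ⟨s, hsp, hsq⟩ := SetLike.not_le_iff_exists.mp hpq
    exact ⟨s, hsq, s, hsp, fun h => hsq (h ▸ q.zero_mem), fun z _ => dvd_mul_right s z⟩
  let L := Localization.AtPrime q
  have hdisj : Disjoint (q.primeCompl : Set A) (p : Set A) :=
    Set.disjoint_left.mpr fun x hx hxp => hx (hpq hxp)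
  have hP : (p.map (algebraMap A L)).IsPrime :=
    IsLocalization.isPrime_of_isPrime_disjoint q.primeCompl L p this hdisj
  have hcomap : (p.map (algebraMap A L)).comap (algebraMap A L) = p :=
    IsLocalization.under_map_of_isPrime_disjoint q.primeCompl L this hdisj
  have hinj : Function.Injective (algebraMap A L) :=
    IsLocalization.injective L q.primeCompl_le_nonZeroDivisors
  have ha' : algebraMap A L a ≠ 0 := (map_ne_zero_iff _ hinj).mpr ha
  obtain ⟨w, hw⟩ := UniqueFactorizationMonoid.factors_prod ha'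
  have hmem : (UniqueFactorizationMonoid.factors (algebraMap A L a)).prod ∈ p.map (algebraMap A L) := by
    have h := Ideal.mul_mem_right (↑w⁻¹ : L) _ (Ideal.mem_map_of_mem (algebraMap A L) hap)
    rwa [← hw, mul_assoc, Units.mul_inv, mul_one] at h
  obtain ⟨π, hπf, hπ⟩ := (hP.multiset_prod_mem_iff_exists_mem _).mp hmem
  have hπp := UniqueFactorizationMonoid.prime_of_factor π hπf
  have hπI := (Ideal.span_singleton_prime hπp.ne_zero).mpr hπp
  have hle : p ≤ (Ideal.span {π}).comap (algebraMap A L) := by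
    refine hp.2 ⟨hπI.comap _, (Ideal.span_singleton_le_iff_mem _).mpr ?_⟩ ?_
    · rw [Ideal.mem_comap, Ideal.mem_span_singleton, ← hw]
      exact dvd_mul_of_dvd_left (Multiset.dvd_prod hπf) _
    · exact (Ideal.comap_mono ((Ideal.span_singleton_le_iff_mem _).mpr hπ)).trans hcomap.le
  obtain ⟨⟨g, u⟩, hgu⟩ := IsLocalization.surj q.primeCompl π
  have hgp : g ∈ p := by
    rw [← hcomap, Ideal.mem_comap, ← hgu]
    exact Ideal.mul_mem_right _ _ hπ
  have hg0 : g ≠ 0 := fun h => by
    rw [h, map_zero] at hgu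
    exact mul_ne_zero hπp.ne_zero (IsLocalization.map_units L u).ne_zero hgu
  have hz : ∀ z ∈ p, ∃ t ∉ q, g ∣ t * z := fun z hz => by
    obtain ⟨l, hl⟩ := Ideal.mem_span_singleton.mp (Ideal.mem_comap.mp (hle hz))
    obtain ⟨⟨b, v⟩, hbv⟩ := IsLocalization.surj q.primeCompl l
    refine ⟨(u : A) * v, fun h => (Ideal.IsPrime.mem_or_mem ‹q.IsPrime› h).elim u.2 v.2, b, hinj ?_⟩
    rw [map_mul, map_mul, map_mul, hl, ← hgu, ← hbv]
    ring
  obtain ⟨G, hG⟩ := (IsNoetherian.noetherian p : p.FG)
  choose! t ht hdvd using hz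
  have hGp : ∀ z ∈ G, z ∈ p := fun z hz => hG ▸ Submodule.subset_span hz
  refine ⟨∏ z ∈ G, t z, fun h => ?_, g, hgp, hg0, fun z hz => ?_⟩
  · obtain ⟨z, hzG, hzq⟩ := Ideal.IsPrime.prod_mem_iff.mp h
    exact ht z (hGp z hzG) hzq
  · have : p ≤ Submodule.comap (LinearMap.mulLeft A (∏ z ∈ G, t z)) (Ideal.span {g}) := by
      rw [← hG, Submodule.span_le]
      intro z' hz'
      rw [SetLike.mem_coe, Submodule.mem_comap, LinearMap.mulLeft_apply, Ideal.mem_span_singleton,
        ← Finset.prod_erase_mul _ _ hz', mul_assoc]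
      exact dvd_mul_of_dvd_right (hdvd z' (hGp z' hz')) _
    exact Ideal.mem_span_singleton.mp (this hz)

/-- A regular local ring is a unique factorisation domain. -/
theorem uniqueFactorizationMonoid_aux (d : ℕ) : ∀ (A : Type u) [CommRing A]
    [IsRegularLocalRing A], ringKrullDim A = d → UniqueFactorizationMonoid A := by
  classical
  induction d using Nat.strong_induction_on with
  | _ d ih =>
  intro A _ _ hd
  have := RegLoc.isDomain A
  refine UniqueFactorizationMonoid.iff_exists_prime_mem_of_isPrime.mpr fun P hP hPp => ?_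
  have hm : maximalIdeal A ≠ ⊥ := fun h => hP (le_bot_iff.mp ((IsLocalRing.le_maximalIdeal hPp.ne_top).trans h.le))
  obtain ⟨x, hx, hx2⟩ := RegLoc.Homological.exists_mem_notMem_sq hm
  have hx0 : x ≠ 0 := fun h => hx2 (h ▸ zero_mem _)
  have hxp : Prime x := by
    have : IsRegularLocalRing (A ⧸ Ideal.span {x}) := by
      obtain ⟨d, rfl⟩ : ∃ e, d = e + 1 := Nat.exists_eq_add_one.mpr (Nat.pos_of_ne_zero fun h => by
        have hμ := RegLoc.spanFinrank_eq_dim hd
        rw [h, Submodule.spanFinrank_eq_zero_iff_eq_bot (IsNoetherian.noetherian _)] at hμ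
        exact hm hμ)
      exact (RegLoc.isRegularLocalRing_quotient_span_singleton hx hx2 hd).1
    have := RegLoc.isDomain (A ⧸ Ideal.span {x})
    exact (Ideal.span_singleton_prime hx0).mp ((Ideal.Quotient.isDomain_iff_prime _).mp this)
  by_cases hxP : x ∈ P
  · exact ⟨x, hxP, hxp⟩
  obtain ⟨a, haP, ha⟩ := Submodule.exists_mem_ne_zero_of_ne_bot hP
  obtain ⟨p, hp, hpP⟩ := Ideal.exists_minimalPrimes_le ((Ideal.span_singleton_le_iff_mem P).mpr haP)
  have := hp.1.1
  have hxp' : x ∉ p := fun h => hxP (hpP h)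
  let T : Set A := {s | ∃ g ∈ p, g ≠ 0 ∧ ∀ z ∈ p, g ∣ s * z}
  have hrad : x ∈ (Ideal.span T).radical := by
    rw [Ideal.radical_eq_sInf, Submodule.mem_sInf]
    rintro q ⟨hTq, hq⟩
    by_contra hxq
    have hreg : IsRegularLocalRing (Localization.AtPrime q) := RegLoc.Homological.isRegularLocalRing_localization q
    have hdim : ringKrullDim (Localization.AtPrime q) < ringKrullDim A := by
      rw [IsLocalization.AtPrime.ringKrullDim_eq_height q, ← IsLocalRing.maximalIdeal_height_eq_ringKrullDim,
        WithBot.coe_lt_coe]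
      exact Ideal.height_strict_mono_of_isPrime
        (lt_of_le_of_ne (IsLocalRing.le_maximalIdeal hq.ne_top) fun h => hxq (h ▸ hx))
    obtain ⟨e, he, -⟩ := RegLoc.exists_natCast_eq_ringKrullDim (Localization.AtPrime q)
    rw [he, hd, Nat.cast_lt] at hdim
    have := ih e hdim (Localization.AtPrime q) he
    obtain ⟨s, hsq, hs⟩ := exists_notMem_dvd ha hp q
    exact hsq (hTq (Ideal.subset_span hs))
  obtain ⟨k, hk⟩ := hrad
  let S := Localization.Away x
  have hpow : Submonoid.powers x ≤ nonZeroDivisors A :=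
    powers_le_nonZeroDivisors_of_noZeroDivisors hx0
  have : IsDomain S := IsLocalization.isDomain_localization hpow
  have : Module.Flat A S := IsLocalization.flat S (Submonoid.powers x)
  have hinj : Function.Injective (algebraMap A S) := IsLocalization.injective S hpow
  let J := p.map (algebraMap A S)
  have hdisj : Disjoint (Submonoid.powers x : Set A) (p : Set A) := by
    refine Set.disjoint_left.mpr ?_
    rintro _ ⟨i, rfl⟩ h
    exact hxp' (Ideal.IsPrime.mem_of_pow_mem ‹p.IsPrime› i h)
  have hJp : J.IsPrime := IsLocalization.isPrime_of_isPrime_disjoint _ S p ‹_› hdisj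
  have hJc : J.comap (algebraMap A S) = p :=
    IsLocalization.under_map_of_isPrime_disjoint (Submonoid.powers x) S ‹_› hdisj
  have hJproj : Module.Projective S J := by
    refine projective_of_locallyPrincipal J (Ideal.eq_top_of_isUnit_mem _ (x := algebraMap A S (x ^ k)) ?_
      (IsLocalization.map_units S (⟨x ^ k, k, rfl⟩ : Submonoid.powers x)))
    refine (?_ : Ideal.map (algebraMap A S) (Ideal.span T) ≤ _) (Ideal.mem_map_of_mem _ hk)
    rw [Ideal.map_span]
    refine Ideal.span_mono ?_
    rintro _ ⟨s, ⟨g, hg, hg0, hs⟩, rfl⟩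
    refine ⟨algebraMap A S g, Ideal.mem_map_of_mem _ hg, (map_ne_zero_iff _ hinj).mpr hg0, fun z hz => ?_⟩
    obtain ⟨⟨b, v⟩, hb⟩ := (IsLocalization.mem_map_algebraMap_iff (Submonoid.powers x) S).mp hz
    have hv := IsLocalization.map_units S v
    rw [← hv.dvd_mul_right, mul_assoc, hb, ← map_mul]
    exact map_dvd _ (hs b.1 b.2)
  let μ : S ⊗[A] p →ₗ[S] S :=
    (TensorProduct.AlgebraTensorModule.rid A S S).toLinearMap ∘ₗ (Submodule.subtype p).baseChange S
  have hμ : Function.Injective μ := (TensorProduct.AlgebraTensorModule.rid A S S).injective.comp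
    (Module.Flat.lTensor_preserves_injective_linearMap _ (Submodule.injective_subtype _))
  have hμr : LinearMap.range μ = J := by
    refine le_antisymm ?_ (Ideal.map_le_iff_le_comap.mpr fun z hz => ⟨1 ⊗ₜ ⟨z, hz⟩, by
      simp [μ, Algebra.smul_def]⟩)
    rintro _ ⟨t, rfl⟩
    induction t with
    | tmul s z =>
      simp only [μ, LinearMap.comp_apply, LinearMap.baseChange_tmul, LinearEquiv.coe_coe,
        TensorProduct.AlgebraTensorModule.rid_tmul, Submodule.coe_subtype, Algebra.smul_def]
      exact Ideal.mul_mem_right _ _ (Ideal.mem_map_of_mem _ z.2)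
    | zero => simp
    | add t t' ht ht' => rw [map_add]; exact Ideal.add_mem _ ht ht'
  let eJ : (S ⊗[A] p) ≃ₗ[S] J := (LinearEquiv.ofInjective μ hμ).trans (LinearEquiv.ofEq _ _ hμr)
  obtain ⟨m, n, ⟨e⟩⟩ := exists_stablyFree S d p (RegLoc.Homological.pd_le_dim hd p)
    (Module.Projective.of_equiv eJ.symm)
  obtain ⟨δ, hδ⟩ := isPrincipal_of_stablyFree J ((eJ.symm.prodCongr (LinearEquiv.refl S _)).trans e)
  obtain ⟨⟨b, v⟩, hbv⟩ := IsLocalization.surj (Submonoid.powers x) δ
  have hJb : J = Ideal.span {algebraMap A S b} := by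
    rw [← hbv, Ideal.span_singleton_mul_right_unit (IsLocalization.map_units S v), hδ]
  have hJ0 : J ≠ ⊥ := fun h => ha (hinj (by
    rw [map_zero]
    exact (Ideal.mem_bot).mp (h ▸ Ideal.mem_map_of_mem _ (hp.1.2 (Ideal.mem_span_singleton_self a)))))
  have hb0 : b ≠ 0 := fun h => hJ0 (by simp [hJb, h])
  obtain ⟨i, q, hq, rfl⟩ := WfDvdMonoid.max_power_factor hb0 hxp.irreducible
  have hxu : IsUnit (algebraMap A S x) := IsLocalization.Away.algebraMap_isUnit x
  have hJq : J = Ideal.span {algebraMap A S q} := by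
    rw [hJb, map_mul, map_pow, Ideal.span_singleton_mul_left_unit (hxu.pow i)]
  have hqp : q ∈ p := by
    rw [← hJc, Ideal.mem_comap, hJq]
    exact Ideal.mem_span_singleton_self _
  have hq0 : algebraMap A S q ≠ 0 := fun h => hJ0 (by simp [hJq, h])
  have hqS : Prime (algebraMap A S q) := (Ideal.span_singleton_prime hq0).mp (hJq ▸ hJp)
  have hdesc : ∀ c, algebraMap A S q ∣ algebraMap A S c → q ∣ c := by
    rintro c ⟨l, hl⟩
    obtain ⟨⟨b', ⟨_, j, rfl⟩⟩, hb'⟩ := IsLocalization.surj (Submonoid.powers x) l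
    have h : q * b' = x ^ j * c := hinj (by
      rw [map_mul, map_mul, hl, ← hb']
      ring)
    obtain ⟨b'', rfl⟩ := hxp.pow_dvd_of_dvd_mul_left j hq ⟨c, h⟩
    exact ⟨b'', mul_left_cancel₀ (pow_ne_zero j hx0) (by rw [← h]; ring)⟩
  refine ⟨q, hpP hqp, fun h => hq0 (by rw [h, map_zero]), fun h => hqS.not_isUnit (h.map _), fun u w huw => ?_⟩
  exact (hqS.dvd_or_dvd (by rw [← map_mul]; exact map_dvd _ huw)).imp (hdesc u) (hdesc w)

theorem uniqueFactorizationMonoid (A : Type u) [CommRing A] [IsRegularLocalRing A] :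
    UniqueFactorizationMonoid A := by
  obtain ⟨d, hd, -⟩ := RegLoc.exists_natCast_eq_ringKrullDim A
  exact uniqueFactorizationMonoid_aux d A hd

end Groth.Agent.RegLoc.UFD
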