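import Groth.Agent.Depth.CM

/-!
# Dimension zero localizations of modules, embedded primes and `(S_1)`

* `supportDim_localized_le_zero_iff`
* `hasSk_one_iff` : `(S_1)` iff no embedded associated primes
-/

universe u v

namespace Groth.Agent.RegLoc.SupportDim

variable {R : Type u} [CommRing R] {M : Type u} [AddCommGroup M] [Module R M]

theorem mem_support_localized_of_le {p q : Ideal R} [p.IsPrime] [q.IsPrime] (hqp : q ≤ p)
    (hq : (⟨q, ‹_›⟩ : PrimeSpectrum R) ∈ Module.support R M)
    (hprime : (q.map (algebraMap R (Localization.AtPrime p))).IsPrime) :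
    (⟨q.map (algebraMap R (Localization.AtPrime p)), hprime⟩ : PrimeSpectrum (Localization.AtPrime p)) ∈
      Module.support (Localization.AtPrime p) (LocalizedModule p.primeCompl M) := by
  rw [Module.mem_support_iff'] at hq ⊢
  obtain ⟨m, hm⟩ := hq
  refine ⟨LocalizedModule.mk m 1, fun r hr h => ?_⟩
  obtain ⟨⟨a, s⟩, rfl⟩ := IsLocalization.mk'_surjective p.primeCompl r
  simp only at hr h
  rw [← Localization.mk_eq_mk', LocalizedModule.mk_smul_mk, ← LocalizedModule.zero_mk 1,
    LocalizedModule.mk_eq] at h
  obtain ⟨u, hu⟩ := h
  simp only [Submonoid.smul_def, one_smul, smul_zero, smul_smul] at hu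
  refine hm ((u : R) * a) (fun h' => ?_) hu
  rcases (‹q.IsPrime›).mem_or_mem h' with h'' | h''
  · exact u.2 (hqp h'')
  · exact hr ((IsLocalization.mk'_mem_map_algebraMap_iff p.primeCompl _ _ _ _).mpr
      ⟨1, one_mem _, by simpa using h''⟩)

theorem supportDim_localized_le_zero_iff [IsNoetherianRing R] [Module.Finite R M] {p : Ideal R}
    [p.IsPrime] (hp : Module.annihilator R M ≤ p) :
    Module.supportDim (Localization.AtPrime p) (LocalizedModule p.primeCompl M) ≤ 0 ↔
      p ∈ (Module.annihilator R M).minimalPrimes := by
  refine ⟨fun h => ⟨⟨‹_›, hp⟩, fun q hq hqp => ?_⟩,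
    fun h => (Depth.supportDim_localizedModule_eq_zero h).le⟩
  have := hq.1
  have hdisj : Disjoint (p.primeCompl : Set R) (q : Set R) :=
    Set.disjoint_left.mpr fun a ha hq' => ha (hqp hq')
  have hprime := IsLocalization.isPrime_of_isPrime_disjoint p.primeCompl (Localization.AtPrime p) q
    hq.1 hdisj
  have hpsupp : (⟨p, ‹_›⟩ : PrimeSpectrum R) ∈ Module.support R M := by
    rw [Module.support_eq_zeroLocus]; exact hp
  have hqsupp : (⟨q, this⟩ : PrimeSpectrum R) ∈ Module.support R M := by
    rw [Module.support_eq_zeroLocus]; exact hq.2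
  have : Nontrivial (LocalizedModule p.primeCompl M) := hpsupp
  have h0 : Module.supportDim (Localization.AtPrime p) (LocalizedModule p.primeCompl M) = 0 := by
    refine le_antisymm h ?_
    have := Module.supportDim_ne_bot_of_nontrivial (Localization.AtPrime p) (LocalizedModule p.primeCompl M)
    generalize Module.supportDim (Localization.AtPrime p) (LocalizedModule p.primeCompl M) = d at this
    induction d with
    | bot => exact absurd rfl this
    | coe d => exact WithBot.coe_le_coe.mpr zero_le
  have hmem := mem_support_localized_of_le hqp hqsupp hprime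
  rw [support_of_supportDim_eq_zero (Localization.AtPrime p)
    (LocalizedModule p.primeCompl M) h0] at hmem
  simp only [PrimeSpectrum.mem_zeroLocus, SetLike.coe_subset_coe] at hmem
  intro a ha
  have h1 : algebraMap R (Localization.AtPrime p) a ∈ q.map (algebraMap R (Localization.AtPrime p)) :=
    hmem ((IsLocalization.AtPrime.to_map_mem_maximal_iff _ p a).mpr ha)
  rw [← IsLocalization.under_map_of_isPrime_disjoint p.primeCompl (Localization.AtPrime p) hq.1 hdisj]
  exact h1

theorem maximalIdeal_mem_associatedPrimes_iff [IsNoetherianRing R] {p : Ideal R} [p.IsPrime] :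
    IsLocalRing.maximalIdeal (Localization.AtPrime p) ∈
      associatedPrimes (Localization.AtPrime p) (LocalizedModule p.primeCompl M) ↔
        p ∈ associatedPrimes R M := by
  refine ⟨fun h => ?_, Module.associatedPrimes.mem_associatedPrimes_atPrime_of_mem_associatedPrimes⟩
  have := Module.associatedPrimes.comap_mem_associatedPrimes_of_mem_associatedPrimes_of_isLocalizedModule_of_fg
    p.primeCompl (LocalizedModule.mkLinearMap p.primeCompl M) _ h (IsNoetherian.noetherian _)
  simpa [Localization.AtPrime.under_maximalIdeal] using this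

theorem depth_localized_eq_zero_iff [IsNoetherianRing R] [Module.Finite R M] {p : Ideal R} [p.IsPrime] :
    LocCoh.depth (Localization.AtPrime p) (LocalizedModule p.primeCompl M) = 0 ↔
      p ∈ associatedPrimes R M := by
  rw [Depth.depth_eq_idealDepth, Depth.idealDepth_eq_zero_iff, ← maximalIdeal_mem_associatedPrimes_iff]
  exact ⟨fun ⟨q, hq, hle⟩ => (le_antisymm hle (IsLocalRing.le_maximalIdeal
    (Depth.isPrime_of_mem_associatedPrimes hq).ne_top)) ▸ hq, fun h => ⟨_, h, le_rfl⟩⟩

theorem hasSk_one_iff [IsNoetherianRing R] [Module.Finite R M] :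
    LocCoh.HasSk 1 R M ↔
      ∀ p ∈ associatedPrimes R M, p ∈ (Module.annihilator R M).minimalPrimes := by
  refine ⟨fun h p hp => ?_, fun h p _ => ?_⟩
  · have := Depth.isPrime_of_mem_associatedPrimes hp
    have hp' := Depth.annihilator_le_associatedPrime hp
    rw [← supportDim_localized_le_zero_iff hp']
    have h1 := h p
    rw [depth_localized_eq_zero_iff.mpr hp] at h1
    rcases min_le_iff.mp h1 with h2 | h2
    · exact absurd h2 (by norm_num)
    · exact_mod_cast h2
  · by_cases hp : Module.annihilator R M ≤ p
    · by_cases hass : p ∈ associatedPrimes R M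
      · rw [depth_localized_eq_zero_iff.mpr hass]
        exact min_le_of_right_le (by exact_mod_cast (supportDim_localized_le_zero_iff hp).mpr (h p hass))
      · refine min_le_of_left_le ?_
        have hne : LocCoh.depth (Localization.AtPrime p) (LocalizedModule p.primeCompl M) ≠ 0 :=
          fun h0 => hass (depth_localized_eq_zero_iff.mp h0)
        refine WithBot.coe_le_coe.mpr ?_
        exact Order.one_le_iff_pos.mpr (pos_iff_ne_zero.mpr hne)
    · have : Subsingleton (LocalizedModule p.primeCompl M) := by
        rw [← Module.notMem_support_iff (p := ⟨p, ‹_›⟩), Module.support_eq_zeroLocus]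
        exact hp
      rw [Module.supportDim_eq_bot_of_subsingleton]
      simp

end Groth.Agent.RegLoc.SupportDim
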