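import Groth.Prelude.Def_CAlgX
import Groth.Agent.LocFlat.Basic
import Mathlib.RingTheory.MvPolynomial.Ideal
import Mathlib.RingTheory.MvPolynomial.Homogeneous
import Mathlib.Tactic.LinearCombination

/-!
`H₁`-regular sequences: `(X)ⁿ ⊗ B → B` is injective, quasi-regularity, concatenation.
-/

set_option autoImplicit false
set_option linter.style.haveILetI false

open TensorProduct MvPolynomial

universe u

namespace Groth.Agent.RegLoc.H1Seq

variable {R : Type u} [CommRing R] {c : ℕ}

/-- The ideal of variables to the `n`. -/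
noncomputable abbrev mP (R : Type u) [CommRing R] (c n : ℕ) : Ideal (MvPolynomial (Fin c) R) :=
  idealOfVars (Fin c) R ^ n

section Core

variable (B : Type u) [CommRing B] [Algebra (MvPolynomial (Fin c) R) B]

theorem rTensor_injective_vars
    (h : CAlgX.IsH1Regular (fun i : Fin c => algebraMap (MvPolynomial (Fin c) R) B (X i))) :
    Function.Injective ((idealOfVars (Fin c) R).subtype.rTensor B) := by
  classical
  let A := MvPolynomial (Fin c) R
  let m : Ideal A := idealOfVars (Fin c) R
  let Xm : Fin c → m := fun i => ⟨X i, Ideal.subset_span ⟨i, rfl⟩⟩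
  let G : (Fin c → A) →ₗ[A] m := Fintype.linearCombination A Xm
  have hG : Function.Surjective G := by
    rintro ⟨p, hp⟩
    obtain ⟨v, hv⟩ := Submodule.mem_span_range_iff_exists_fun A |>.mp hp
    exact ⟨v, Subtype.ext (by simpa [G, Xm, Fintype.linearCombination_apply] using hv)⟩
  let Ψ : (Fin c → B) →+ m ⊗[A] B :=
    { toFun := fun b => ∑ i, Xm i ⊗ₜ[A] b i
      map_zero' := by simp
      map_add' := fun a b => by simp [TensorProduct.tmul_add, Finset.sum_add_distrib] }
  have hex : ∀ w, ∃ b : Fin c → B, Ψ b = G.rTensor B w := by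
    intro w
    induction w using TensorProduct.induction_on with
    | zero => exact ⟨0, by simp⟩
    | tmul v b =>
      refine ⟨fun i => v i • b, ?_⟩
      simp only [Ψ, AddMonoidHom.coe_mk, ZeroHom.coe_mk, LinearMap.rTensor_tmul, G,
        Fintype.linearCombination_apply, TensorProduct.sum_tmul]
      exact Finset.sum_congr rfl fun i _ => by rw [TensorProduct.tmul_smul, TensorProduct.smul_tmul']
    | add x y hx hy =>
      obtain ⟨a, ha⟩ := hx; obtain ⟨b, hb⟩ := hy
      exact ⟨a + b, by rw [map_add, map_add, ha, hb]⟩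
  rw [injective_iff_map_eq_zero]
  intro z hz
  obtain ⟨w, rfl⟩ := LinearMap.rTensor_surjective B hG z
  obtain ⟨b, hb⟩ := hex w
  rw [← hb] at hz ⊢
  have hsum : ∑ i, b i * algebraMap A B (X i) = 0 := by
    have := congrArg (TensorProduct.lid A B) hz
    rw [map_zero] at this
    simp only [Ψ, AddMonoidHom.coe_mk, ZeroHom.coe_mk, map_sum] at this
    rw [← this]
    refine Finset.sum_congr rfl fun i _ => ?_
    rw [LinearMap.rTensor_tmul, TensorProduct.lid_tmul, Algebra.smul_def, mul_comm]
    rfl
  suffices ∀ v, v ∈ Submodule.span B {v : Fin c → B | ∃ i j : Fin c, v =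
      Pi.single i (algebraMap A B (X j)) - Pi.single j (algebraMap A B (X i))} →
      ∀ r : B, Ψ (r • v) = 0 by simpa using this b (h b hsum) 1
  intro v hv
  induction hv using Submodule.span_induction with
  | mem y hy =>
    obtain ⟨i, j, rfl⟩ := hy
    intro r
    have hsingle : ∀ (i : Fin c) (s : B), Ψ (Pi.single i s) = Xm i ⊗ₜ[A] s := fun i s => by
      simp only [Ψ, AddMonoidHom.coe_mk, ZeroHom.coe_mk]
      rw [Finset.sum_eq_single i (fun k _ hk => by rw [Pi.single_eq_of_ne hk, TensorProduct.tmul_zero])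
        (fun hi => absurd (Finset.mem_univ i) hi), Pi.single_eq_same]
    rw [smul_sub, ← Pi.single_smul, ← Pi.single_smul, map_sub, hsingle, hsingle, smul_eq_mul,
      smul_eq_mul, mul_comm r, mul_comm r, ← Algebra.smul_def, ← Algebra.smul_def,
      TensorProduct.tmul_smul, TensorProduct.tmul_smul, TensorProduct.smul_tmul',
      TensorProduct.smul_tmul', sub_eq_zero]
    congr 1
    exact Subtype.ext (mul_comm _ _)
  | zero => intro r; simp
  | add x y _ _ hx hy => intro r; rw [smul_add, map_add, hx, hy, add_zero]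
  | smul s x _ hx => intro r; rw [smul_smul]; exact hx _

/-- The coefficient map `(X)ⁿ → ((A/(X)))^D`. -/
noncomputable def coeffMap (n : ℕ) (D : Finset (Fin c →₀ ℕ)) (hD : ∀ d ∈ D, d.degree = n) :
    mP R c n →ₗ[MvPolynomial (Fin c) R] (D → MvPolynomial (Fin c) R ⧸ idealOfVars (Fin c) R) where
  toFun p d := Ideal.Quotient.mk _ (C ((p : MvPolynomial (Fin c) R).coeff d))
  map_add' p q := by funext d; simp
  map_smul' q p := by
    classical
    funext d
    show Ideal.Quotient.mk _ (C ((q * (p : MvPolynomial (Fin c) R)).coeff d)) =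
      Ideal.Quotient.mk _ q * Ideal.Quotient.mk _ (C ((p : MvPolynomial (Fin c) R).coeff d))
    have hcoeff : (q * (p : MvPolynomial (Fin c) R)).coeff d =
        q.coeff 0 * (p : MvPolynomial (Fin c) R).coeff d := by
      rw [coeff_mul, Finset.sum_eq_single ((0 : Fin c →₀ ℕ), (d : Fin c →₀ ℕ))]
      · rintro ⟨a, b⟩ hab hne
        rw [Finset.mem_antidiagonal] at hab
        have hb : b.degree < n := by
          have ha : a ≠ 0 := fun h0 => hne (by simp only at hab; rw [h0, zero_add] at hab; rw [h0, hab])
          have h1 : a.degree ≠ 0 := fun h' => ha ((Finsupp.degree_eq_zero_iff a).mp h')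
          have h2 : a.degree + b.degree = n := by
            rw [← hD d d.2, ← hab]; exact (map_add _ _ _).symm
          omega
        rw [(mem_pow_idealOfVars_iff' n _).mp p.2 b hb, mul_zero]
      · intro hnot
        exact absurd (Finset.mem_antidiagonal.mpr (zero_add _)) hnot
    rw [hcoeff, map_mul C, map_mul]
    congr 1
    rw [Ideal.Quotient.eq]
    have h0 : C (q.coeff 0) - q ∈ idealOfVars (Fin c) R ^ 1 := by
      rw [mem_pow_idealOfVars_iff']
      intro x hx
      have : x = 0 := (Finsupp.degree_eq_zero_iff x).mp (by omega)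
      subst this
      simp
    rwa [pow_one] at h0

theorem rTensor_injective_pow
    (h : CAlgX.IsH1Regular (fun i : Fin c => algebraMap (MvPolynomial (Fin c) R) B (X i))) (n : ℕ) :
    Function.Injective ((mP R c n).subtype.rTensor B) := by
  classical
  induction n with
  | zero =>
    have hb : Function.Bijective (mP R c 0).subtype :=
      ⟨Subtype.val_injective, fun x => ⟨⟨x, by simp [mP, Ideal.one_eq_top]⟩, rfl⟩⟩
    exact (LinearEquiv.rTensor B (LinearEquiv.ofBijective _ hb)).injective
  | succ n ih =>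
    let A := MvPolynomial (Fin c) R
    let D : Finset (Fin c →₀ ℕ) := Finset.univ.finsuppAntidiag n
    have hD : ∀ d ∈ D, d.degree = n := fun d hd => by
      rw [Finset.mem_finsuppAntidiag] at hd
      rw [Finsupp.degree_eq_sum]
      exact hd.1
    have hD' : ∀ d : Fin c →₀ ℕ, d.degree = n → d ∈ D := fun d hd => by
      rw [Finset.mem_finsuppAntidiag]
      exact ⟨by rw [← hd, Finsupp.degree_eq_sum], Finset.subset_univ _⟩
    let a : mP R c (n + 1) →ₗ[A] mP R c n :=
      Submodule.inclusion (Ideal.pow_le_pow_right n.le_succ)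
    let b := coeffMap (R := R) n D hD
    have ha : Function.Injective a := Submodule.inclusion_injective _
    have hab : Function.Exact a b := by
      intro p
      constructor
      · intro hp
        refine ⟨⟨p, (mem_pow_idealOfVars_iff' (n + 1) _).mpr fun x hx => ?_⟩, rfl⟩
        by_cases hxn : x.degree < n
        · exact (mem_pow_idealOfVars_iff' n _).mp p.2 x hxn
        · have h1 := congrFun hp ⟨x, hD' x (by omega)⟩
          have h2 : C ((p : A).coeff x) ∈ idealOfVars (Fin c) R ^ 1 := by
            rw [pow_one]; exact Ideal.Quotient.eq_zero_iff_mem.mp h1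
          have := (mem_pow_idealOfVars_iff' 1 _).mp h2 0 (by simp)
          simpa using this
      · rintro ⟨q, rfl⟩
        funext d
        have : ((q : A)).coeff d = 0 :=
          (mem_pow_idealOfVars_iff' (n + 1) _).mp q.2 d (by rw [hD d d.2]; omega)
        show Ideal.Quotient.mk _ (C ((q : A).coeff d)) = 0
        rw [this, map_zero, map_zero]
    have hb : Function.Surjective b := by
      intro v
      choose v' hv' using fun d => Ideal.Quotient.mk_surjective (v d)
      refine ⟨⟨∑ d : D, monomial (d : Fin c →₀ ℕ) ((v' d).coeff 0), ?_⟩, ?_⟩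
      · refine Ideal.sum_mem _ fun d _ => ?_
        rw [mem_pow_idealOfVars_iff']
        intro x hx
        rw [coeff_monomial, if_neg]
        intro hdx
        rw [← hdx, hD d d.2] at hx
        omega
      · funext d
        show Ideal.Quotient.mk _ (C (coeff (d : Fin c →₀ ℕ) (∑ e : D, monomial (e : Fin c →₀ ℕ) ((v' e).coeff 0)))) = _
        rw [coeff_sum, Finset.sum_eq_single d]
        · rw [coeff_monomial, if_pos rfl, ← hv' d, Ideal.Quotient.eq]
          have h0 : C ((v' d).coeff 0) - v' d ∈ idealOfVars (Fin c) R ^ 1 := by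
            rw [mem_pow_idealOfVars_iff']
            intro x hx
            have : x = 0 := (Finsupp.degree_eq_zero_iff x).mp (by omega)
            subst this
            simp
          rwa [pow_one] at h0
        · intro e _ hne
          rw [coeff_monomial, if_neg]
          exact fun h' => hne (Subtype.ext h')
        · simp
    have hrel : Function.Injective ((LocFlat.relSub A B).subtype.lTensor
        (D → A ⧸ idealOfVars (Fin c) R)) := by
      have hnat : ∀ z (d : D),
          TensorProduct.piLeft A _ (fun _ : D => A ⧸ idealOfVars (Fin c) R)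
            ((LocFlat.relSub A B).subtype.lTensor _ z) d =
          (LocFlat.relSub A B).subtype.lTensor _
            (TensorProduct.piLeft A _ (fun _ : D => A ⧸ idealOfVars (Fin c) R) z d) := by
        intro z d
        induction z using TensorProduct.induction_on with
        | zero => simp
        | tmul v x => simp
        | add x y hx hy => simp only [map_add, Pi.add_apply, hx, hy]
      intro x y hxy
      apply (TensorProduct.piLeft A _ (fun _ : D => A ⧸ idealOfVars (Fin c) R)).injective
      funext d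
      apply LocFlat.pres_quot B (idealOfVars (Fin c) R) (rTensor_injective_vars B h)
      rw [← hnat, ← hnat, hxy]
    have hinj := LocFlat.rTensor_injective_of_pres B a b ha hab hb hrel
    have : (mP R c (n + 1)).subtype = (mP R c n).subtype ∘ₗ a := rfl
    rw [this, LinearMap.rTensor_comp]
    exact ih.comp hinj

/-- A degree `n` form with value in the `(n+1)`st power has coefficients killed modulo the
variables. -/
theorem tmul_coeff_eq_zero
    (h : CAlgX.IsH1Regular (fun i : Fin c => algebraMap (MvPolynomial (Fin c) R) B (X i)))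
    {n : ℕ} (z : mP R c n ⊗[MvPolynomial (Fin c) R] B)
    (hz : TensorProduct.lid _ B ((mP R c n).subtype.rTensor B z) = 0) : z = 0 :=
  rTensor_injective_pow B h n ((TensorProduct.lid _ B).injective (by rw [hz, map_zero, map_zero]))

end Core

section Main

variable {B : Type u} [CommRing B]

open Ideal in
theorem map_idealOfVars (f : Fin c → B) :
    (idealOfVars (Fin c) B).map (aeval (R := B) f).toRingHom = Ideal.span (Set.range f) := by
  rw [idealOfVars, Ideal.map_span, ← Set.range_comp]
  congr 2
  funext i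
  simp

theorem monomial_mem_pow {n : ℕ} (d : Fin c →₀ ℕ) (r : B) (hd : d.degree = n) :
    monomial d r ∈ mP B c n := by
  classical
  rw [mem_pow_idealOfVars_iff']
  intro x hx
  rw [coeff_monomial, if_neg]
  rintro rfl
  omega

theorem degree_of_isHomogeneous {n : ℕ} {P : MvPolynomial (Fin c) B} (hP : P.IsHomogeneous n)
    {d : Fin c →₀ ℕ} (hd : d ∈ P.support) : d.degree = n := by
  by_contra h
  exact mem_support_iff.mp hd (hP.coeff_eq_zero h)

/-- A form, as an element of `(X)ⁿ ⊗ B`. -/
noncomputable def formTensor [Algebra (MvPolynomial (Fin c) B) B] {n : ℕ} (P : MvPolynomial (Fin c) B)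
    (hP : P.IsHomogeneous n) : mP B c n ⊗[MvPolynomial (Fin c) B] B :=
  ∑ d ∈ P.support.attach, (⟨monomial d.1 1, monomial_mem_pow d.1 1
    (degree_of_isHomogeneous hP d.2)⟩ : mP B c n) ⊗ₜ P.coeff d.1

theorem lid_formTensor (f : Fin c → B) {n : ℕ} (P : MvPolynomial (Fin c) B)
    (hP : P.IsHomogeneous n) :
    letI := (aeval (R := B) f).toRingHom.toAlgebra
    TensorProduct.lid (MvPolynomial (Fin c) B) B ((mP B c n).subtype.rTensor B (formTensor P hP)) =
      eval f P := by
  letI := (aeval (R := B) f).toRingHom.toAlgebra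
  rw [formTensor, map_sum, map_sum, eval_eq', ← Finset.sum_attach P.support]
  refine Finset.sum_congr rfl fun d _ => ?_
  rw [LinearMap.rTensor_tmul, TensorProduct.lid_tmul, Algebra.smul_def, mul_comm]
  congr 1
  show aeval f (monomial d.1 (1 : B)) = _
  rw [aeval_monomial, map_one, one_mul, Finsupp.prod_fintype _ _ fun i => pow_zero _]

theorem exists_tensor_of_mem_pow (f : Fin c → B) {n : ℕ} {x : B}
    (hx : x ∈ Ideal.span (Set.range f) ^ n) :
    letI := (aeval (R := B) f).toRingHom.toAlgebra
    ∃ z : mP B c n ⊗[MvPolynomial (Fin c) B] B,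
      TensorProduct.lid (MvPolynomial (Fin c) B) B ((mP B c n).subtype.rTensor B z) = x := by
  letI := (aeval (R := B) f).toRingHom.toAlgebra
  obtain ⟨P, hP, rfl⟩ := (Ideal.mem_span_pow_iff_exists_isHomogeneous f x).mp hx
  exact ⟨formTensor P hP, lid_formTensor f P hP⟩

theorem isQuasiRegular (f : Fin c → B) (hf : CAlgX.IsH1Regular f) : CAlgX.IsQuasiRegular f := by
  classical
  letI := (aeval (R := B) f).toRingHom.toAlgebra
  let A := MvPolynomial (Fin c) B
  let J := Ideal.span (Set.range f)
  have hA : CAlgX.IsH1Regular (fun i : Fin c => algebraMap A B (X i)) := by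
    have : (fun i : Fin c => algebraMap A B (X i)) = f := funext fun i => aeval_X f i
    rw [this]; exact hf
  have hJ : (idealOfVars (Fin c) B).map (algebraMap A B) = J := map_idealOfVars f
  intro n P hP hev d
  obtain ⟨z', hz'⟩ := exists_tensor_of_mem_pow f hev
  let inc : mP B c (n + 1) →ₗ[A] mP B c n := Submodule.inclusion (Ideal.pow_le_pow_right n.le_succ)
  have hz : formTensor P hP = inc.rTensor B z' := by
    apply rTensor_injective_pow B hA n
    apply (TensorProduct.lid A B).injective
    rw [lid_formTensor f P hP, ← LinearMap.rTensor_comp_apply]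
    exact hz'.symm
  by_cases hd : d ∈ P.support
  swap
  · rw [notMem_support_iff.mp hd]; exact J.zero_mem
  let D : Finset (Fin c →₀ ℕ) := P.support
  have hD : ∀ e ∈ D, e.degree = n := fun e he => degree_of_isHomogeneous hP he
  let q : (A ⧸ idealOfVars (Fin c) B) →ₗ[A] B ⧸ J :=
    Submodule.liftQ (idealOfVars (Fin c) B) ((Ideal.Quotient.mkₐ A J).toLinearMap.comp (Algebra.linearMap A B))
      (fun a ha => by
        simp only [LinearMap.mem_ker, LinearMap.comp_apply,
          AlgHom.toLinearMap_apply, Ideal.Quotient.mkₐ_eq_mk, Ideal.Quotient.eq_zero_iff_mem]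
        exact hJ ▸ Ideal.mem_map_of_mem _ ha)
  let φ : mP B c n ⊗[A] B →ₗ[A] B ⧸ J :=
    TensorProduct.lift ((LinearMap.mul A (B ⧸ J)).compl₁₂
      ((q.comp (LinearMap.proj (⟨d, hd⟩ : D))).comp (coeffMap n D hD))
      (Ideal.Quotient.mkₐ A J).toLinearMap)
  have h0 : φ ∘ₗ inc.rTensor B = 0 := TensorProduct.ext' fun p b => by
    have h0' : ((p : A)).coeff d = 0 :=
      (mem_pow_idealOfVars_iff' (n + 1) _).mp p.2 d (by rw [hD d hd]; omega)
    rw [LinearMap.comp_apply, LinearMap.rTensor_tmul, LinearMap.zero_apply, TensorProduct.lift.tmul]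
    show q (Ideal.Quotient.mk _ (C ((p : A).coeff d))) * Ideal.Quotient.mk J b = 0
    rw [h0', map_zero, map_zero, map_zero, zero_mul]
  have h1 : φ (formTensor P hP) = Ideal.Quotient.mk J (P.coeff d) := by
    rw [formTensor, map_sum, Finset.sum_eq_single (⟨d, hd⟩ : {x // x ∈ P.support})]
    · rw [TensorProduct.lift.tmul]
      show q (Ideal.Quotient.mk _ (C ((monomial d (1 : B)).coeff d))) * Ideal.Quotient.mk J (P.coeff d) = _
      rw [coeff_monomial, if_pos rfl, map_one, map_one]
      show Ideal.Quotient.mk J (algebraMap A B 1) * _ = _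
      rw [map_one, map_one, one_mul]
    · intro e _ he
      rw [TensorProduct.lift.tmul]
      show q (Ideal.Quotient.mk _ (C ((monomial e.1 (1 : B)).coeff d))) *
        Ideal.Quotient.mk J (P.coeff e.1) = _
      rw [coeff_monomial, if_neg fun h => he (Subtype.ext h), map_zero, map_zero, map_zero, zero_mul]
    · exact fun h => absurd (Finset.mem_attach _ _) h
  have h2 := LinearMap.congr_fun h0 z'
  rw [LinearMap.comp_apply, ← hz, h1] at h2
  exact Ideal.Quotient.eq_zero_iff_mem.mp h2

theorem inter_pow_le (J : Ideal B) (g : Fin c → B)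
    (hg : CAlgX.IsH1Regular (fun j => Ideal.Quotient.mk J (g j))) (n : ℕ) :
    J ⊓ Ideal.span (Set.range g) ^ n ≤ Ideal.span (Set.range g) ^ n * J := by
  classical
  letI := (aeval (R := B) g).toRingHom.toAlgebra
  let A := MvPolynomial (Fin c) B
  rintro x ⟨hxJ, hxG⟩
  obtain ⟨z, rfl⟩ := exists_tensor_of_mem_pow g hxG
  have hA : CAlgX.IsH1Regular (fun i : Fin c => algebraMap A (B ⧸ J) (X i)) := by
    have : (fun i : Fin c => algebraMap A (B ⧸ J) (X i)) = fun j => Ideal.Quotient.mk J (g j) :=
      funext fun i => congrArg (Ideal.Quotient.mk J) (aeval_X g i)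
    rw [this]; exact hg
  let mk : B →ₗ[A] B ⧸ J := (Ideal.Quotient.mkₐ A J).toLinearMap
  have hnat : ∀ w : mP B c n ⊗[A] B,
      TensorProduct.lid A (B ⧸ J) ((mP B c n).subtype.rTensor _ (mk.lTensor _ w)) =
        mk (TensorProduct.lid A B ((mP B c n).subtype.rTensor B w)) := by
    intro w
    induction w using TensorProduct.induction_on with
    | zero => simp
    | tmul p b =>
      rw [LinearMap.lTensor_tmul, LinearMap.rTensor_tmul, LinearMap.rTensor_tmul, TensorProduct.lid_tmul,
        TensorProduct.lid_tmul, map_smul]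
    | add a b ha hb => simp only [map_add, ha, hb]
  have h0 : mk.lTensor (mP B c n) z = 0 := by
    apply rTensor_injective_pow (B ⧸ J) hA n
    apply (TensorProduct.lid A (B ⧸ J)).injective
    rw [hnat, map_zero, map_zero]
    exact Ideal.Quotient.eq_zero_iff_mem.mpr hxJ
  have hex : Function.Exact (J.restrictScalars A).subtype mk := by
    intro b
    show Ideal.Quotient.mk J b = 0 ↔ _
    rw [Ideal.Quotient.eq_zero_iff_mem]
    constructor
    · exact fun hb => ⟨⟨b, hb⟩, rfl⟩
    · rintro ⟨y, rfl⟩; exact y.2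
  obtain ⟨w, rfl⟩ := (lTensor_exact (mP B c n) hex Ideal.Quotient.mk_surjective z).mp h0
  clear h0 hxJ hxG
  induction w using TensorProduct.induction_on with
  | zero => simp
  | tmul p j =>
    rw [LinearMap.lTensor_tmul, LinearMap.rTensor_tmul, TensorProduct.lid_tmul, Algebra.smul_def]
    refine Ideal.mul_mem_mul ?_ j.2
    rw [← map_idealOfVars g, ← Ideal.map_pow]
    exact Ideal.mem_map_of_mem _ p.2
  | add a b ha hb => simp only [map_add]; exact Ideal.add_mem _ ha hb

theorem exists_form (f : Fin c → B) (L : Ideal B) {a : ℕ} {x : B}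
    (hx : x ∈ Ideal.span (Set.range f) ^ a * L) :
    ∃ E : MvPolynomial (Fin c) B, E.IsHomogeneous a ∧ eval f E = x ∧ ∀ d, E.coeff d ∈ L := by
  induction hx using Submodule.mul_induction_on' with
  | mem_mul_mem p hp l hl =>
    obtain ⟨P, hP, rfl⟩ := (Ideal.mem_span_pow_iff_exists_isHomogeneous f p).mp hp
    refine ⟨C l * P, by simpa using (isHomogeneous_C _ l).mul hP, by rw [map_mul, eval_C, mul_comm],
      fun d => ?_⟩
    rw [coeff_C_mul]
    exact L.mul_mem_right _ hl
  | add x _ y _ hx hy =>
    obtain ⟨E, hE, rfl, hEL⟩ := hx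
    obtain ⟨E', hE', rfl, hEL'⟩ := hy
    exact ⟨E + E', hE.add hE', map_add _ _ _, fun d => by
      rw [coeff_add]; exact L.add_mem (hEL d) (hEL' d)⟩

theorem inter_sup_pow_le {m : ℕ} (f : Fin c → B) (hf : CAlgX.IsQuasiRegular f) (g : Fin m → B)
    (hg : CAlgX.IsH1Regular (fun j => Ideal.Quotient.mk (Ideal.span (Set.range f)) (g j)))
    (a k : ℕ) :
    Ideal.span (Set.range f) ^ a ⊓ (Ideal.span (Set.range f) ⊔ Ideal.span (Set.range g)) ^ (a + k) ≤
      Ideal.span (Set.range f) ^ a * (Ideal.span (Set.range f) ⊔ Ideal.span (Set.range g)) ^ k := by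
  set J := Ideal.span (Set.range f)
  set G := Ideal.span (Set.range g)
  have hstep : ∀ k : ℕ, J ⊓ (J ⊔ G) ^ (k + 1) ≤ J * (J ⊔ G) ^ k := by
    intro k
    have hsplit : ∀ k : ℕ, (J ⊔ G) ^ (k + 1) ≤ J * (J ⊔ G) ^ k ⊔ G ^ (k + 1) := by
      intro k
      induction k with
      | zero => simp
      | succ k ih =>
        rw [pow_succ' (J ⊔ G) (k + 1), Ideal.sup_mul]
        refine sup_le le_sup_left ?_
        calc G * (J ⊔ G) ^ (k + 1) ≤ G * (J * (J ⊔ G) ^ k ⊔ G ^ (k + 1)) := Ideal.mul_mono_right ih
          _ = J * (G * (J ⊔ G) ^ k) ⊔ G ^ (k + 2) := by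
            rw [Ideal.mul_sup, ← pow_succ', mul_left_comm]
          _ ≤ _ := sup_le_sup_right (Ideal.mul_mono_right (by
            rw [pow_succ' (J ⊔ G) k]; exact Ideal.mul_mono_left le_sup_right)) _
    rintro x ⟨hxJ, hx⟩
    obtain ⟨y, hy, z, hz, rfl⟩ := Submodule.mem_sup.mp (hsplit k hx)
    have hzJ : z ∈ J := (Submodule.add_mem_iff_right J (Ideal.mul_le_inf hy).1).mp hxJ
    refine Ideal.add_mem _ hy ?_
    have := inter_pow_le J g hg (k + 1) ⟨hzJ, hz⟩
    rw [mul_comm] at this
    exact Ideal.mul_mono_right ((Ideal.pow_right_mono le_sup_right (k + 1)).trans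
      (Ideal.pow_le_pow_right k.le_succ)) this
  induction a generalizing k with
  | zero => simp
  | succ a ih =>
    rintro x ⟨hxJ, hx⟩
    have h1 : x ∈ J ^ a * (J ⊔ G) ^ (k + 1) :=
      ih (k + 1) ⟨Ideal.pow_le_pow_right a.le_succ hxJ, by rwa [show a + (k + 1) = a + 1 + k by omega]⟩
    obtain ⟨E, hE, rfl, hEL⟩ := exists_form f _ h1
    rw [eval_eq']
    refine Ideal.sum_mem _ fun d hd => ?_
    rw [mul_comm (E.coeff d), pow_succ J a, mul_assoc]
    refine Ideal.mul_mem_mul ?_ (hstep k ⟨hf a E hE hxJ d, hEL d⟩)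
    rw [← degree_of_isHomogeneous hE hd, Finsupp.degree_eq_sum,
      ← Finset.prod_pow_eq_pow_sum]
    exact Ideal.prod_mem_prod fun i _ => Ideal.pow_mem_pow (Ideal.subset_span (Set.mem_range_self i) : f i ∈ J) _

end Main

end Groth.Agent.RegLoc.H1Seq
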