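import Groth.Agent.RegLoc.H1Seq
import Mathlib.Tactic.Ring

/-!
Concatenation of quasi-regular and `H₁`-regular sequences.
-/

set_option autoImplicit false

open MvPolynomial

universe u

namespace Groth.Agent.RegLoc.H1Seq

variable {A : Type u} [CommRing A] {n m : ℕ}

theorem span_range_append (f : Fin n → A) (g : Fin m → A) :
    Ideal.span (Set.range (Fin.append f g)) =
      Ideal.span (Set.range f) ⊔ Ideal.span (Set.range g) := by
  refine le_antisymm ?_ (sup_le (Ideal.span_mono ?_) (Ideal.span_mono ?_))
  · rw [Ideal.span_le]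
    rintro _ ⟨i, rfl⟩
    induction i using Fin.addCases with
    | left i => exact Ideal.mem_sup_left (Ideal.subset_span ⟨i, (Fin.append_left f g i).symm⟩)
    | right i => exact Ideal.mem_sup_right (Ideal.subset_span ⟨i, (Fin.append_right f g i).symm⟩)
  · rintro _ ⟨i, rfl⟩; exact ⟨Fin.castAdd m i, Fin.append_left f g i⟩
  · rintro _ ⟨i, rfl⟩; exact ⟨Fin.natAdd n i, Fin.append_right f g i⟩

/-- The exponents of the first block of variables. -/
noncomputable def fstDeg (d : Fin (n + m) →₀ ℕ) : Fin n →₀ ℕ :=
  Finsupp.equivFunOnFinite.symm fun i => d (Fin.castAdd m i)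

/-- The exponents of the second block of variables. -/
noncomputable def sndDeg (d : Fin (n + m) →₀ ℕ) : Fin m →₀ ℕ :=
  Finsupp.equivFunOnFinite.symm fun i => d (Fin.natAdd n i)

theorem degree_fst_add_snd (d : Fin (n + m) →₀ ℕ) :
    (fstDeg d).degree + (sndDeg d).degree = d.degree := by
  simp only [Finsupp.degree_eq_sum, fstDeg, sndDeg, Fin.sum_univ_add]
  rfl

theorem deg_ext {d e : Fin (n + m) →₀ ℕ} (h1 : fstDeg d = fstDeg e) (h2 : sndDeg d = sndDeg e) :
    d = e := by
  ext i
  induction i using Fin.addCases with
  | left i => exact DFunLike.congr_fun h1 i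
  | right i => exact DFunLike.congr_fun h2 i

theorem prod_append_pow (f : Fin n → A) (g : Fin m → A) (d : Fin (n + m) →₀ ℕ) :
    ∏ i, Fin.append f g i ^ d i = (∏ i, f i ^ fstDeg d i) * ∏ j, g j ^ sndDeg d j := by
  rw [Fin.prod_univ_add]
  simp [fstDeg, sndDeg]

theorem prod_pow_mem (f : Fin n → A) (d : Fin n →₀ ℕ) :
    ∏ i, f i ^ d i ∈ Ideal.span (Set.range f) ^ d.degree := by
  rw [Finsupp.degree_eq_sum, ← Finset.prod_pow_eq_pow_sum]
  exact Ideal.prod_mem_prod fun i _ =>
    Ideal.pow_mem_pow (Ideal.subset_span (Set.mem_range_self i) : f i ∈ Ideal.span (Set.range f)) _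

theorem quasiRegular_append_aux (f : Fin n → A) (g : Fin m → A) (hf : CAlgX.IsQuasiRegular f)
    (hg : CAlgX.IsH1Regular (fun j => Ideal.Quotient.mk (Ideal.span (Set.range f)) (g j))) (N : ℕ) :
    ∀ t : ℕ, ∀ P : MvPolynomial (Fin (n + m)) A, P.IsHomogeneous N →
      (∀ d ∈ P.support, N + 1 ≤ (fstDeg d).degree + t) →
      eval (Fin.append f g) P ∈ (Ideal.span (Set.range f) ⊔ Ideal.span (Set.range g)) ^ (N + 1) →
      ∀ d, P.coeff d ∈ Ideal.span (Set.range f) ⊔ Ideal.span (Set.range g) := by
  classical
  set J := Ideal.span (Set.range f) with hJ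
  set G := Ideal.span (Set.range g) with hG
  set K := J ⊔ G with hK
  intro t
  induction t with
  | zero =>
    intro P hP hsupp _ d
    by_cases hd : d ∈ P.support
    · have h1 := degree_fst_add_snd d
      have h2 := hsupp d hd
      have h3 := degree_of_isHomogeneous hP hd
      omega
    · rw [notMem_support_iff.mp hd]; exact K.zero_mem
  | succ t ih =>
    intro P hP hsupp hev
    by_cases ht : N < t
    · exact ih P hP (fun d _ => by omega) hev
    obtain ⟨a, hat⟩ : ∃ a, N = a + t := ⟨N - t, by omega⟩
    let lead : (Fin (n + m) →₀ ℕ) → Prop := fun d => (fstDeg d).degree = a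
    let S := P.support.filter lead
    let S' := P.support.filter fun d => ¬ lead d
    let term : (Fin (n + m) →₀ ℕ) → A := fun d => P.coeff d * ∏ i, Fin.append f g i ^ d i
    let P' : MvPolynomial (Fin (n + m)) A := ∑ d ∈ S', monomial d (P.coeff d)
    have hevP : eval (Fin.append f g) P = ∑ d ∈ S, term d + ∑ d ∈ S', term d := by
      rw [eval_eq']
      exact (Finset.sum_filter_add_sum_filter_not _ _ _).symm
    have hevP' : eval (Fin.append f g) P' = ∑ d ∈ S', term d := by
      rw [map_sum]
      refine Finset.sum_congr rfl fun d _ => ?_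
      rw [eval_monomial, Finsupp.prod_fintype _ _ fun i => pow_zero _]
    have hS' : ∑ d ∈ S', term d ∈ J ^ (a + 1) := by
      refine Ideal.sum_mem _ fun d hd => ?_
      rw [Finset.mem_filter] at hd
      have h2 := hsupp d hd.1
      have h3 : (fstDeg d).degree ≠ a := hd.2
      refine Ideal.mul_mem_left _ _ ?_
      rw [prod_append_pow]
      exact Ideal.mul_mem_right _ _ (Ideal.pow_le_pow_right (by omega) (prod_pow_mem f _))
    have hS : ∑ d ∈ S, term d ∈ J ^ a := by
      refine Ideal.sum_mem _ fun d hd => Ideal.mul_mem_left _ _ ?_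
      rw [prod_append_pow, show a = (fstDeg d).degree from (Finset.mem_filter.mp hd).2.symm]
      exact Ideal.mul_mem_right _ _ (prod_pow_mem f _)
    have hevJ : eval (Fin.append f g) P ∈ J ^ a * K ^ (t + 1) := by
      refine inter_sup_pow_le f hf g hg a (t + 1) ⟨?_, by rwa [← add_assoc, ← hat]⟩
      rw [hevP]
      exact Ideal.add_mem _ hS (Ideal.pow_le_pow_right a.le_succ hS')
    obtain ⟨E, hE, hEev, hEL⟩ := exists_form f _ hevJ
    let I : Finset (Fin n →₀ ℕ) := S.image fstDeg
    let cI : (Fin n →₀ ℕ) → MvPolynomial (Fin m) A := fun e =>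
      ∑ d ∈ S.filter (fun d => fstDeg d = e), monomial (sndDeg d) (P.coeff d)
    have hcI : ∀ e, (cI e).IsHomogeneous t := fun e => by
      refine IsHomogeneous.sum _ _ _ fun d hd => isHomogeneous_monomial _ ?_
      rw [Finset.mem_filter, Finset.mem_filter] at hd
      have h1 := degree_fst_add_snd d
      have h3 := degree_of_isHomogeneous hP hd.1.1
      have h4 : (fstDeg d).degree = a := hd.1.2
      omega
    let Q : MvPolynomial (Fin n) A := ∑ e ∈ I, monomial e (eval g (cI e)) - E
    have hQhom : Q.IsHomogeneous a := by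
      refine (IsHomogeneous.sum _ _ _ fun e he => isHomogeneous_monomial _ ?_).sub hE
      obtain ⟨d, hd, rfl⟩ := Finset.mem_image.mp he
      exact (Finset.mem_filter.mp hd).2
    have hQev : eval f Q = - ∑ d ∈ S', term d := by
      rw [map_sub, hEev, hevP, map_sum]
      have : ∑ e ∈ I, eval f (monomial e (eval g (cI e))) = ∑ d ∈ S, term d := by
        rw [← Finset.sum_fiberwise_of_maps_to (g := fstDeg) (t := I)
          (fun d hd => Finset.mem_image_of_mem _ hd) term]
        refine Finset.sum_congr rfl fun e _ => ?_
        rw [eval_monomial, Finsupp.prod_fintype _ _ fun i => pow_zero _, map_sum, Finset.sum_mul]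
        refine Finset.sum_congr rfl fun d hd => ?_
        obtain rfl := (Finset.mem_filter.mp hd).2
        rw [eval_monomial, Finsupp.prod_fintype _ _ fun i => pow_zero _]
        show _ = P.coeff d * _
        rw [prod_append_pow]
        ring
      rw [this]
      abel
    have hQJ : ∀ e, Q.coeff e ∈ J := hf a Q hQhom (by rw [hQev]; exact (J ^ (a + 1)).neg_mem hS')
    have hlead : ∀ d ∈ S, P.coeff d ∈ K := by
      intro d hd
      have he : fstDeg d ∈ I := Finset.mem_image_of_mem _ hd
      have h1 : eval g (cI (fstDeg d)) - E.coeff (fstDeg d) ∈ J := by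
        have := hQJ (fstDeg d)
        rwa [coeff_sub, coeff_sum, Finset.sum_eq_single (fstDeg d) (fun e _ hne => by
          rw [coeff_monomial, if_neg hne]) (fun h => absurd he h), coeff_monomial, if_pos rfl] at this
      let π := Ideal.Quotient.mk J
      have hGmap : K.map π = Ideal.span (Set.range fun j => π (g j)) := by
        rw [hK, Ideal.map_sup, Ideal.map_quotient_self, bot_sup_eq, hG, Ideal.map_span,
          ← Set.range_comp]
        rfl
      have h2 : eval (fun j => π (g j)) (MvPolynomial.map π (cI (fstDeg d))) ∈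
          Ideal.span (Set.range fun j => π (g j)) ^ (t + 1) := by
        rw [← hGmap, ← Ideal.map_pow, eval_map,
          show (fun j => π (g j)) = ⇑π ∘ g from rfl, ← eval₂_comp π g]
        have : π (eval g (cI (fstDeg d))) = π (E.coeff (fstDeg d)) := Ideal.Quotient.eq.mpr h1
        rw [this]
        exact Ideal.mem_map_of_mem _ (hEL _)
      have h3 := isQuasiRegular _ hg t _ ((hcI (fstDeg d)).map π) h2 (sndDeg d)
      rw [coeff_map, ← hGmap] at h3
      have h4 : (cI (fstDeg d)).coeff (sndDeg d) = P.coeff d := by
        rw [coeff_sum, Finset.sum_eq_single d, coeff_monomial, if_pos rfl]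
        · intro d' hd' hne
          rw [coeff_monomial, if_neg]
          exact fun h' => hne (deg_ext (Finset.mem_filter.mp hd').2 h')
        · · intro h'; exact absurd (Finset.mem_filter.mpr ⟨hd, (rfl : fstDeg d = fstDeg d)⟩) h'
      rw [h4, ← Ideal.mem_comap, Ideal.comap_map_of_surjective _ Ideal.Quotient.mk_surjective] at h3
      refine (sup_le le_rfl ?_ : K ⊔ _ ≤ K) h3
      rw [← RingHom.ker_eq_comap_bot, Ideal.mk_ker]
      exact le_sup_left
    have hSK : ∑ d ∈ S, term d ∈ K ^ (N + 1) := by
      refine Ideal.sum_mem _ fun d hd => ?_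
      rw [pow_succ' K N]
      refine Ideal.mul_mem_mul (hlead d hd) ?_
      rw [← degree_of_isHomogeneous hP (Finset.mem_filter.mp hd).1, hK, ← span_range_append f g]
      exact prod_pow_mem _ d
    have hP'hom : P'.IsHomogeneous N := IsHomogeneous.sum _ _ _ fun d hd =>
      isHomogeneous_monomial _ (degree_of_isHomogeneous hP (Finset.mem_filter.mp hd).1)
    have hP'coeff : ∀ d, P'.coeff d = if d ∈ S' then P.coeff d else 0 := fun d => by
      rw [coeff_sum]
      simp only [coeff_monomial]
      exact Finset.sum_ite_eq' S' d _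
    have hP'supp : ∀ d ∈ P'.support, N + 1 ≤ (fstDeg d).degree + t := fun d hd => by
      rw [mem_support_iff, hP'coeff] at hd
      split_ifs at hd with h
      · rw [Finset.mem_filter] at h
        have := hsupp d h.1
        have : (fstDeg d).degree ≠ a := h.2
        omega
      · exact absurd rfl hd
    have hP'ev : eval (Fin.append f g) P' ∈ K ^ (N + 1) := by
      rw [hevP']
      exact (Submodule.add_mem_iff_right _ hSK).mp (hevP ▸ hev)
    intro d
    by_cases hd : d ∈ P.support
    · by_cases hl : lead d
      · exact hlead d (Finset.mem_filter.mpr ⟨hd, hl⟩)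
      · have := ih P' hP'hom hP'supp hP'ev d
        rwa [hP'coeff, if_pos (Finset.mem_filter.mpr ⟨hd, hl⟩)] at this
    · rw [notMem_support_iff.mp hd]; exact K.zero_mem

theorem isQuasiRegular_append (f : Fin n → A) (g : Fin m → A) (hf : CAlgX.IsQuasiRegular f)
    (hg : CAlgX.IsH1Regular (fun j => Ideal.Quotient.mk (Ideal.span (Set.range f)) (g j))) :
    CAlgX.IsQuasiRegular (Fin.append f g) := by
  intro N P hP hev
  rw [span_range_append] at hev ⊢
  exact quasiRegular_append_aux f g hf hg N (N + 1) P hP (fun d _ => by omega) hev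

/-- Extend a vector on the first block by zero. -/
def appendFst : (Fin n → A) →ₗ[A] (Fin (n + m) → A) where
  toFun v := Fin.append v 0
  map_add' v w := by
    funext i; induction i using Fin.addCases <;> simp
  map_smul' r v := by
    funext i; induction i using Fin.addCases <;> simp

/-- Extend a vector on the second block by zero. -/
def appendSnd : (Fin m → A) →ₗ[A] (Fin (n + m) → A) where
  toFun v := Fin.append 0 v
  map_add' v w := by
    funext i; induction i using Fin.addCases <;> simp
  map_smul' r v := by
    funext i; induction i using Fin.addCases <;> simp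

theorem appendFst_single (i : Fin n) (x : A) :
    appendFst (m := m) (Pi.single i x) = Pi.single (Fin.castAdd m i) x := by
  funext k
  show Fin.append (Pi.single i x) (0 : Fin m → A) k = _
  induction k using Fin.addCases with
  | left k =>
    rw [Fin.append_left]
    rcases eq_or_ne k i with rfl | h
    · rw [Pi.single_eq_same, Pi.single_eq_same]
    · rw [Pi.single_eq_of_ne h, Pi.single_eq_of_ne fun h' => h (Fin.castAdd_injective n m h')]
  | right k =>
    rw [Fin.append_right, Pi.zero_apply, Pi.single_eq_of_ne]
    intro h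
    have := congrArg Fin.val h
    simp at this
    omega

theorem appendSnd_single (j : Fin m) (x : A) :
    appendSnd (n := n) (Pi.single j x) = Pi.single (Fin.natAdd n j) x := by
  funext k
  show Fin.append (0 : Fin n → A) (Pi.single j x) k = _
  induction k using Fin.addCases with
  | left k =>
    rw [Fin.append_left, Pi.zero_apply, Pi.single_eq_of_ne]
    intro h
    have := congrArg Fin.val h
    simp at this
    omega
  | right k =>
    rw [Fin.append_right]
    rcases eq_or_ne k j with rfl | h
    · rw [Pi.single_eq_same, Pi.single_eq_same]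
    · rw [Pi.single_eq_of_ne h, Pi.single_eq_of_ne fun h' => h (Fin.natAdd_injective m n h')]

/-- The trivial relations. -/
def trivRel {k : ℕ} (F : Fin k → A) : Submodule A (Fin k → A) :=
  Submodule.span A {v : Fin k → A | ∃ i j : Fin k, v = Pi.single i (F j) - Pi.single j (F i)}

theorem rel_of_mem_trivRel {k : ℕ} (F : Fin k → A) {v : Fin k → A} (hv : v ∈ trivRel F) :
    ∑ i, v i * F i = 0 := by
  classical
  induction hv using Submodule.span_induction with
  | mem x hx =>
    obtain ⟨i, j, rfl⟩ := hx
    simp only [Pi.sub_apply, sub_mul, Finset.sum_sub_distrib, Pi.single_apply, ite_mul, zero_mul,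
      Finset.sum_ite_eq', Finset.mem_univ, if_true]
    ring
  | zero => simp
  | add x y _ _ hx hy => simp [add_mul, Finset.sum_add_distrib, hx, hy]
  | smul r x _ hx => simp [mul_assoc, ← Finset.mul_sum, hx]

theorem isH1Regular_append (f : Fin n → A) (g : Fin m → A) (hf : CAlgX.IsH1Regular f)
    (hg : CAlgX.IsH1Regular (fun j => Ideal.Quotient.mk (Ideal.span (Set.range f)) (g j))) :
    CAlgX.IsH1Regular (Fin.append f g) := by
  classical
  intro ab hab
  show ab ∈ trivRel (Fin.append f g)
  set J := Ideal.span (Set.range f)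
  let π := Ideal.Quotient.mk J
  let a : Fin n → A := fun i => ab (Fin.castAdd m i)
  let b : Fin m → A := fun j => ab (Fin.natAdd n j)
  have hsum : ∑ i, a i * f i + ∑ j, b j * g j = 0 := by
    rw [Fin.sum_univ_add] at hab
    simpa using hab
  have hsplit : ab = appendFst a + appendSnd b := by
    funext k
    show _ = Fin.append a (0 : Fin m → A) k + Fin.append (0 : Fin n → A) b k
    induction k using Fin.addCases <;> simp [a, b]
  have hfst : ∀ v ∈ trivRel f, appendFst (m := m) v ∈ trivRel (Fin.append f g) := by
    intro v hv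
    refine (Submodule.map_le_iff_le_comap.mp ?_ : _ ≤ Submodule.comap (appendFst (m := m)) (trivRel (Fin.append f g))) hv
    rw [trivRel, Submodule.map_span, Submodule.span_le]
    rintro _ ⟨_, ⟨i, j, rfl⟩, rfl⟩
    refine Submodule.subset_span ⟨Fin.castAdd m i, Fin.castAdd m j, ?_⟩
    rw [map_sub, appendFst_single, appendFst_single, Fin.append_left, Fin.append_left]
  have hsnd : ∀ v ∈ trivRel g, appendSnd (n := n) v ∈ trivRel (Fin.append f g) := by
    intro v hv
    refine (Submodule.map_le_iff_le_comap.mp ?_ : _ ≤ Submodule.comap (appendSnd (n := n)) (trivRel (Fin.append f g))) hv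
    rw [trivRel, Submodule.map_span, Submodule.span_le]
    rintro _ ⟨_, ⟨i, j, rfl⟩, rfl⟩
    refine Submodule.subset_span ⟨Fin.natAdd n i, Fin.natAdd n j, ?_⟩
    rw [map_sub, appendSnd_single, appendSnd_single, Fin.append_right, Fin.append_right]
  have hbar : (fun j => π (b j)) ∈ trivRel (fun j => π (g j)) := by
    apply hg
    have h1 := congrArg π hsum
    rw [map_add, map_sum, map_sum, map_zero] at h1
    have h0 : ∑ i, π (a i * f i) = 0 := Finset.sum_eq_zero fun i _ =>
      Ideal.Quotient.eq_zero_iff_mem.mpr (J.mul_mem_left _ (Ideal.subset_span (Set.mem_range_self i)))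
    rw [h0, zero_add] at h1
    rw [← h1]
    exact Finset.sum_congr rfl fun j _ => (map_mul π _ _).symm
  have hlift : ∀ v, v ∈ trivRel (fun j => π (g j)) → ∃ t ∈ trivRel g, (fun j => π (t j)) = v := by
    intro v hv
    induction hv using Submodule.span_induction with
    | mem x hx =>
      obtain ⟨i, j, rfl⟩ := hx
      refine ⟨_, Submodule.subset_span ⟨i, j, rfl⟩, funext fun k => ?_⟩
      simp [Pi.single_apply, apply_ite π]
    | zero => exact ⟨0, Submodule.zero_mem _, by funext k; simp⟩
    | add x y _ _ hx hy =>
      obtain ⟨t, ht, rfl⟩ := hx; obtain ⟨t', ht', rfl⟩ := hy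
      exact ⟨t + t', Submodule.add_mem _ ht ht', by funext k; simp⟩
    | smul r x _ hx =>
      obtain ⟨t, ht, rfl⟩ := hx
      obtain ⟨r, rfl⟩ := Ideal.Quotient.mk_surjective r
      exact ⟨r • t, Submodule.smul_mem _ r ht, by funext k; simp [π]⟩
  obtain ⟨t, ht, htb⟩ := hlift _ hbar
  have hw : ∀ j, ∃ w : Fin n → A, ∑ i, w i * f i = b j - t j := fun j =>
    (Submodule.mem_span_range_iff_exists_fun A).mp (Ideal.Quotient.eq.mp (congrFun htb j).symm)
  choose w hw using hw
  let z : Fin (n + m) → A := ∑ j, ∑ i, w j i •
    (Pi.single (Fin.natAdd n j) (f i) - Pi.single (Fin.castAdd m i) (g j))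
  have hz : z ∈ trivRel (Fin.append f g) := Submodule.sum_mem _ fun j _ => Submodule.sum_mem _ fun i _ =>
    Submodule.smul_mem _ _ (Submodule.subset_span
      ⟨Fin.natAdd n j, Fin.castAdd m i, by rw [Fin.append_left, Fin.append_right]⟩)
  let a' : Fin n → A := fun i => a i + ∑ j, w j i * g j
  have ha' : ∑ i, a' i * f i = 0 := by
    simp only [a', add_mul, Finset.sum_add_distrib, Finset.sum_mul]
    rw [Finset.sum_comm]
    have h2 : ∑ j, ∑ i, w j i * g j * f i = ∑ j, b j * g j - ∑ j, t j * g j := by
      rw [← Finset.sum_sub_distrib]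
      refine Finset.sum_congr rfl fun j _ => ?_
      rw [← sub_mul, ← hw j, Finset.sum_mul]
      exact Finset.sum_congr rfl fun i _ => by ring
    rw [h2, rel_of_mem_trivRel g ht, sub_zero, hsum]
  have key : ab = appendFst a' + appendSnd t + z := by
    funext k
    show _ = Fin.append a' (0 : Fin m → A) k + Fin.append (0 : Fin n → A) t k + z k
    induction k using Fin.addCases with
    | left k =>
      have : z (Fin.castAdd m k) = - ∑ j, w j k * g j := by
        simp only [z, Finset.sum_apply, Pi.smul_apply, Pi.sub_apply, smul_eq_mul]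
        rw [← Finset.sum_neg_distrib]
        refine Finset.sum_congr rfl fun j _ => ?_
        rw [Finset.sum_eq_single k]
        · rw [Pi.single_eq_same, Pi.single_eq_of_ne, zero_sub, mul_neg]
          intro h; have := congrArg Fin.val h; simp at this; omega
        · intro i _ hi
          rw [Pi.single_eq_of_ne, Pi.single_eq_of_ne fun h => hi (Fin.castAdd_injective n m h).symm,
            sub_zero, mul_zero]
          intro h; have := congrArg Fin.val h; simp at this; omega
        · simp
      rw [this]
      simp [a', a]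
    | right k =>
      have : z (Fin.natAdd n k) = b k - t k := by
        simp only [z, Finset.sum_apply, Pi.smul_apply, Pi.sub_apply, smul_eq_mul]
        rw [Finset.sum_eq_single k]
        · rw [← hw k]
          refine Finset.sum_congr rfl fun i _ => ?_
          rw [Pi.single_eq_same, Pi.single_eq_of_ne, sub_zero]
          intro h; have := congrArg Fin.val h; simp at this; omega
        · intro j _ hj
          refine Finset.sum_eq_zero fun i _ => ?_
          rw [Pi.single_eq_of_ne fun h => hj (Fin.natAdd_injective m n h).symm, Pi.single_eq_of_ne,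
            sub_zero, mul_zero]
          intro h; have := congrArg Fin.val h; simp at this; omega
        · simp
      rw [this]
      simp [b]
  rw [key]
  exact Submodule.add_mem _ (Submodule.add_mem _ (hfst _ (hf a' ha')) (hsnd _ ht)) hz

end Groth.Agent.RegLoc.H1Seq
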