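import Mathlib.RingTheory.Flat.Stability
import Mathlib.RingTheory.Flat.TorsionFree
import Mathlib.RingTheory.Localization.FractionRing
import Mathlib.RingTheory.Localization.AtPrime.Basic
import Mathlib.RingTheory.Localization.BaseChange
import Mathlib.LinearAlgebra.TensorProduct.RightExactness
import Mathlib.RingTheory.Ideal.Quotient.Operations
import Mathlib.Algebra.Module.Torsion.Basic

/-!
Extension of symbolic powers along a flat map with prime extended ideal.
-/

set_option autoImplicit false
set_option linter.style.haveILetI false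

open TensorProduct

universe u

namespace Groth.Agent.RegLoc.Symb

variable {R S : Type u} [CommRing R] [CommRing S] [Algebra R S]

/-- The symbolic power. -/
noncomputable def P (p : Ideal R) [p.IsPrime] (n : ℕ) : Ideal R :=
  ((p ^ n).map (algebraMap R (Localization.AtPrime p))).comap (algebraMap R (Localization.AtPrime p))

theorem mem_P {p : Ideal R} [p.IsPrime] {n : ℕ} {x : R} :
    x ∈ P p n ↔ ∃ s ∉ p, s * x ∈ p ^ n := by
  rw [P, Ideal.mem_comap, IsLocalization.algebraMap_mem_map_algebraMap_iff p.primeCompl]
  exact ⟨fun ⟨c, hc, h⟩ => ⟨c, hc, h⟩, fun ⟨c, hc, h⟩ => ⟨c, hc, h⟩⟩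

variable [Module.Flat R S] (p : Ideal R) [p.IsPrime] [(p.map (algebraMap R S)).IsPrime]

omit [p.IsPrime] [(p.map (algebraMap R S)).IsPrime] in
/-- Multiplication map out of an ideal. -/
noncomputable def mulMap (J : Ideal R) : J ⊗[R] S →ₗ[R] S :=
  (TensorProduct.lid R S).toLinearMap ∘ₗ J.subtype.rTensor S

omit [p.IsPrime] [(p.map (algebraMap R S)).IsPrime] in
theorem mulMap_injective (J : Ideal R) : Function.Injective (mulMap (S := S) J) :=
  (TensorProduct.lid R S).injective.comp
    (Module.Flat.rTensor_preserves_injective_linearMap _ J.injective_subtype)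

omit [Module.Flat R S] [p.IsPrime] [(p.map (algebraMap R S)).IsPrime] in
theorem mem_map_iff (J : Ideal R) (x : S) :
    x ∈ J.map (algebraMap R S) ↔ ∃ z, mulMap (S := S) J z = x := by
  constructor
  · intro hx
    rw [Ideal.map] at hx
    induction hx using Submodule.span_induction with
    | mem y hy =>
      obtain ⟨r, hr, rfl⟩ := hy
      exact ⟨(⟨r, hr⟩ : J) ⊗ₜ 1, by simp [mulMap, Algebra.algebraMap_eq_smul_one]⟩
    | zero => exact ⟨0, map_zero _⟩
    | add a b _ _ ha hb =>
      obtain ⟨z, rfl⟩ := ha; obtain ⟨w, rfl⟩ := hb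
      exact ⟨z + w, map_add _ _ _⟩
    | smul c a hmem ha =>
      obtain ⟨z, rfl⟩ := ha
      clear hmem
      refine ⟨(LinearMap.mulLeft R c).lTensor J z, ?_⟩
      induction z using TensorProduct.induction_on with
      | zero => simp
      | tmul j s => simp [mulMap]
      | add a b ha hb => simp only [map_add, smul_add, ha, hb]
  · rintro ⟨z, rfl⟩
    induction z using TensorProduct.induction_on with
    | zero => simp
    | tmul j s =>
      simp only [mulMap, LinearMap.comp_apply, LinearMap.rTensor_tmul, Submodule.subtype_apply,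
        LinearEquiv.coe_coe, TensorProduct.lid_tmul, Algebra.smul_def]
      exact Ideal.mul_mem_right _ _ (Ideal.mem_map_of_mem _ j.2)
    | add a b ha hb => rw [map_add]; exact add_mem ha hb

theorem notMem_map_of_notMem {s : R} (hs : s ∉ p) :
    algebraMap R S s ∉ p.map (algebraMap R S) := by
  intro hmem
  have hinj : Function.Injective (LinearMap.lsmul R (R ⧸ p) s) := by
    rw [injective_iff_map_eq_zero]
    intro x hx
    obtain ⟨x, rfl⟩ := Ideal.Quotient.mk_surjective x
    rw [LinearMap.lsmul_apply, Algebra.smul_def, Ideal.Quotient.algebraMap_eq, ← map_mul,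
      Ideal.Quotient.eq_zero_iff_mem] at hx
    exact Ideal.Quotient.eq_zero_iff_mem.mpr ((‹p.IsPrime›.mem_or_mem hx).resolve_left hs)
  have h1 := Module.Flat.rTensor_preserves_injective_linearMap (M := S) _ hinj
  obtain ⟨z, hz⟩ := (mem_map_iff p _).mp hmem
  have h2 : Submodule.mkQ p 1 ⊗ₜ[R] (1 : S) = 0 := by
    apply h1
    rw [map_zero, LinearMap.rTensor_tmul, LinearMap.lsmul_apply, TensorProduct.smul_tmul,
      ← Algebra.algebraMap_eq_smul_one, ← hz]
    clear hz hmem
    induction z using TensorProduct.induction_on with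
    | zero => simp
    | tmul j t =>
      simp only [mulMap, LinearMap.comp_apply, LinearMap.rTensor_tmul, Submodule.subtype_apply,
        LinearEquiv.coe_coe, TensorProduct.lid_tmul]
      rw [TensorProduct.tmul_smul, TensorProduct.smul_tmul', ← map_smul]
      have : Submodule.mkQ p ((j : R) • (1 : R)) = 0 :=
        (Submodule.Quotient.mk_eq_zero p).mpr (by simpa using j.2)
      rw [this, TensorProduct.zero_tmul]
    | add a b ha hb => rw [map_add, TensorProduct.tmul_add, ha, hb, add_zero]
  obtain ⟨w, hw⟩ := (rTensor_exact S (LinearMap.exact_subtype_mkQ p)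
    (Submodule.mkQ_surjective p) ((1 : R) ⊗ₜ[R] (1 : S))).mp (by simpa using h2)
  refine (Ideal.IsPrime.ne_top ‹(p.map (algebraMap R S)).IsPrime›) ((Ideal.eq_top_iff_one _).mpr
    ((mem_map_iff p _).mpr ⟨w, ?_⟩))
  show TensorProduct.lid R S (p.subtype.rTensor S w) = 1
  rw [hw]; simp

theorem main (n : ℕ) :
    (P p n).map (algebraMap R S) = P (p.map (algebraMap R S)) n := by
  classical
  set q := p.map (algebraMap R S) with hq
  refine le_antisymm ?_ ?_
  · rw [Ideal.map_le_iff_le_comap]
    intro x hx
    obtain ⟨c, hc, hcx⟩ := mem_P.mp hx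
    rw [Ideal.mem_comap, mem_P]
    exact ⟨algebraMap R S c, notMem_map_of_notMem p hc, by
      rw [← map_mul, ← Ideal.map_pow]; exact Ideal.mem_map_of_mem _ hcx⟩
  intro x hx
  obtain ⟨d, hd, hdx⟩ := mem_P.mp hx
  have hle : ∀ {j k : ℕ}, j ≤ k → P p k ≤ P p j := fun {j k} hjk =>
    Ideal.comap_mono (Ideal.map_mono (Ideal.pow_le_pow_right hjk))
  have hpn : d * x ∈ (P p n).map (algebraMap R S) := by
    rw [← Ideal.map_pow] at hdx
    exact Ideal.map_mono (fun y hy => mem_P.mpr ⟨1, fun h => ‹p.IsPrime›.ne_top
      (p.eq_top_iff_one.mpr h), by simpa using hy⟩) hdx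
  suffices ∀ j ≤ n, x ∈ (P p j).map (algebraMap R S) from this n le_rfl
  intro j hjn
  induction j with
  | zero => simp [P, Ideal.map_top]
  | succ j ih =>
    obtain ⟨z, hz⟩ := (mem_map_iff _ _).mp (ih (by omega))
    obtain ⟨z', hz'⟩ := (mem_map_iff _ _).mp (Ideal.map_mono (hle hjn) hpn)
    let incl : P p (j + 1) →ₗ[R] P p j := Submodule.inclusion (hle j.le_succ)
    let N := P p j ⧸ LinearMap.range incl
    let L := R ⧸ p
    have htor : Module.IsTorsionBySet R N (p : Set R) := by
      rintro y ⟨r, hr⟩
      obtain ⟨y, rfl⟩ := Submodule.mkQ_surjective _ y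
      obtain ⟨c, hc, hcy⟩ := mem_P.mp y.2
      rw [Submodule.mkQ_apply, ← Submodule.Quotient.mk_smul, Submodule.Quotient.mk_eq_zero]
      refine ⟨⟨r * y, mem_P.mpr ⟨c, hc, ?_⟩⟩, rfl⟩
      rw [show c * (r * y) = r * (c * y) by ring, pow_succ']
      exact Ideal.mul_mem_mul hr hcy
    letI : Module L N := htor.module
    haveI : IsScalarTower R L N := htor.isScalarTower
    let K := FractionRing L
    let V := K ⊗[L] N
    haveI : IsLocalizedModule (nonZeroDivisors L) (TensorProduct.mk L K N 1) :=
      (isLocalizedModule_iff_isBaseChange (nonZeroDivisors L) K _).mpr (TensorProduct.isBaseChange L N K)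
    have hι : Function.Injective ((TensorProduct.mk L K N 1).restrictScalars R) := by
      rw [injective_iff_map_eq_zero]
      intro y hy
      obtain ⟨⟨c, hc⟩, hcy⟩ := (IsLocalizedModule.eq_zero_iff (nonZeroDivisors L)
        (TensorProduct.mk L K N 1)).mp hy
      obtain ⟨c, rfl⟩ := Ideal.Quotient.mk_surjective c
      obtain ⟨y, rfl⟩ := Submodule.mkQ_surjective _ y
      have hcp : c ∉ p := fun h => nonZeroDivisors.ne_zero hc (Ideal.Quotient.eq_zero_iff_mem.mpr h)
      have hcy' : (LinearMap.range incl).mkQ (c • y) = 0 := by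
        rw [map_smul, ← algebraMap_smul L c ((LinearMap.range incl).mkQ y)]
        exact hcy
      obtain ⟨w, hw⟩ := (Submodule.Quotient.mk_eq_zero _).mp hcy'
      obtain ⟨e, he, hey⟩ := mem_P.mp w.2
      have hwy : (w : R) = c * y := congrArg Subtype.val hw
      refine (Submodule.Quotient.mk_eq_zero _).mpr ⟨⟨y, mem_P.mpr ⟨e * c, ?_, ?_⟩⟩, rfl⟩
      · exact fun h => (‹p.IsPrime›.mem_or_mem h).elim he hcp
      · rw [mul_assoc, ← hwy]; exact hey
    let δ : S →ₗ[R] S := LinearMap.mulLeft R d
    have hδL : Function.Injective (δ.baseChange L) := by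
      rw [injective_iff_map_eq_zero]
      intro y hy
      obtain ⟨y, rfl⟩ := LinearMap.rTensor_surjective S (Submodule.mkQ_surjective p) y
      obtain ⟨y, rfl⟩ := (TensorProduct.lid R S).symm.surjective y
      have h1 : (Submodule.mkQ p).rTensor S ((1 : R) ⊗ₜ[R] (d * y)) = 0 := by
        simpa [δ] using hy
      obtain ⟨w, hw⟩ := (rTensor_exact S (LinearMap.exact_subtype_mkQ p)
        (Submodule.mkQ_surjective p) _).mp h1
      have h2 : d * y ∈ q := (mem_map_iff p _).mpr ⟨w, by
        show TensorProduct.lid R S (p.subtype.rTensor S w) = d * y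
        rw [hw]; simp⟩
      obtain ⟨u, hu⟩ := (mem_map_iff p _).mp ((‹q.IsPrime›.mem_or_mem h2).resolve_left hd)
      have : p.subtype.rTensor S u = (TensorProduct.lid R S).symm y :=
        (TensorProduct.lid R S).injective (by simpa [mulMap] using hu)
      rw [← this]
      exact (rTensor_exact S (LinearMap.exact_subtype_mkQ p) (Submodule.mkQ_surjective p)).apply_apply_eq_zero u
    haveI : Module.Flat L V := Module.Flat.trans L K V
    have hcomm : ∀ w, δ.lTensor V (AlgebraTensorModule.cancelBaseChange R L L V S w) =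
        AlgebraTensorModule.cancelBaseChange R L L V S ((δ.baseChange L).lTensor V w) := by
      intro w
      induction w using TensorProduct.induction_on with
      | zero => simp
      | tmul v y =>
        induction y using TensorProduct.induction_on with
        | zero => simp
        | tmul l s => simp
        | add a b ha hb => simp only [TensorProduct.tmul_add, map_add, ha, hb]
      | add a b ha hb => simp only [map_add, ha, hb]
    have hδV : Function.Injective (δ.lTensor V) := by
      intro a b hab
      obtain ⟨a, rfl⟩ := (AlgebraTensorModule.cancelBaseChange R L L V S).surjective a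
      obtain ⟨b, rfl⟩ := (AlgebraTensorModule.cancelBaseChange R L L V S).surjective b
      rw [hcomm, hcomm] at hab
      rw [Module.Flat.lTensor_preserves_injective_linearMap (M := V) _ hδL
        ((AlgebraTensorModule.cancelBaseChange R L L V S).injective hab)]
    have hδ : ∀ {M : Type u} [AddCommGroup M] [Module R M] (f : M →ₗ[R] V) (w : M ⊗[R] S),
        f.rTensor S (δ.lTensor M w) = δ.lTensor V (f.rTensor S w) := by
      intro M _ _ f w
      rw [← LinearMap.comp_apply, LinearMap.rTensor_comp_lTensor,
        ← LinearMap.lTensor_comp_rTensor, LinearMap.comp_apply]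
    have hmul : ∀ w, mulMap (P p j) (δ.lTensor _ w) = d * mulMap (P p j) w := by
      intro w
      induction w using TensorProduct.induction_on with
      | zero => simp
      | tmul a s => simp [mulMap, δ]
      | add a b ha hb => simp only [map_add, mul_add, ha, hb]
    have hincl : ∀ w, mulMap (P p j) (incl.rTensor S w) = mulMap (S := S) (P p (j + 1)) w := by
      intro w
      show TensorProduct.lid R S ((P p j).subtype.rTensor S (incl.rTensor S w)) = _
      rw [← LinearMap.rTensor_comp_apply]
      rfl
    have hzz : δ.lTensor _ z = incl.rTensor S z' := mulMap_injective (P p j) (by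
      rw [hmul, hz, hincl, hz'])
    let Q : P p j →ₗ[R] N := (LinearMap.range incl).mkQ
    have h0 : Q.rTensor S z = 0 := by
      apply Module.Flat.rTensor_preserves_injective_linearMap (M := S) _ hι
      rw [map_zero, ← LinearMap.rTensor_comp_apply]
      apply hδV
      rw [map_zero, ← hδ, hzz, ← LinearMap.rTensor_comp_apply]
      have : ((TensorProduct.mk L K N 1).restrictScalars R ∘ₗ Q) ∘ₗ incl = 0 := by
        ext w
        have : Q (incl w) = 0 := (Submodule.Quotient.mk_eq_zero _).mpr (LinearMap.mem_range_self incl w)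
        simp [this]
      rw [this, LinearMap.rTensor_zero, LinearMap.zero_apply]
    obtain ⟨w, hw⟩ := (rTensor_exact S (LinearMap.exact_map_mkQ_range incl)
      (Submodule.mkQ_surjective _) z).mp h0
    exact (mem_map_iff _ _).mpr ⟨w, by rw [← hincl, hw, hz]⟩

end Groth.Agent.RegLoc.Symb
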