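import Groth.Agent.CAlg99.DecayTensor
import Groth.Agent.CAlg99.AdicBasis
import Groth.Agent.RegLoc.Completion
import Groth.Agent.S17539
import Groth.Prelude.Def_CAlgX
import Mathlib.RingTheory.Flat.Stability
import Mathlib.RingTheory.TensorProduct.DirectLimitFG

/-!
Completions of free modules over Noetherian rings.
-/

set_option autoImplicit false
set_option linter.style.haveILetI false

open W4c5adicflatcompl
open scoped TensorProduct

universe u

namespace Groth.Agent.RegLoc.DecayFlat

variable {R : Type u} [CommRing R] [IsNoetherianRing R] (I : Ideal R) (α : Type u)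

theorem flat_completion_finsupp : Module.Flat R (AdicCompletion I (α →₀ R)) := by
  have hI : I.FG := IsNoetherian.noetherian I
  let Rh := AdicCompletion I R
  haveI : IsNoetherianRing Rh := Completion.isNoetherianRing_adicCompletion' I
  haveI : IsAdicComplete I Rh := AdicCompletion.isAdicComplete hI
  let J : Ideal Rh := I.map (algebraMap R Rh)
  haveI : IsAdicComplete J Rh := (IsAdicComplete.map_algebraMap_iff _ _).mpr inferInstance
  have hmem : ∀ (n : ℕ) (x : Rh), x ∈ (I ^ n • ⊤ : Submodule R Rh) ↔
      x ∈ (J ^ n • ⊤ : Submodule Rh Rh) := by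
    intro n x
    rw [Ideal.smul_top_eq_map, Submodule.restrictScalars_mem, Ideal.map_pow, smul_eq_mul, Ideal.mul_top]
  have hdec : decaying I α Rh = (decaying J α Rh).restrictScalars R := by
    ext f
    rw [Submodule.restrictScalars_mem, mem_decaying_iff, mem_decaying_iff]
    simp only [hmem]
  haveI : Module.Flat Rh (decaying J α Rh) := CAlg99.DecayTensor.flat_decaying α
  haveI : Module.Flat R (decaying J α Rh) := Module.Flat.trans R Rh _
  let f : AdicCompletion I (α →₀ R) →ₗ[R] (α → Rh) := LinearMap.pi fun z : α =>
    (AdicCompletion.map I (Finsupp.lapply (M := R) (R := R) z)).restrictScalars R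
  obtain ⟨h1, h2⟩ := Groth.Agent.S17539.result I α R
  let e : AdicCompletion I (α →₀ R) ≃ₗ[R] decaying J α Rh :=
    (LinearEquiv.ofInjective f h1).trans ((LinearEquiv.ofEq _ _ (h2.trans hdec)).trans
      { toFun := fun x => ⟨x.1, x.2⟩
        invFun := fun x => ⟨x.1, x.2⟩
        map_add' := fun _ _ => rfl
        map_smul' := fun _ _ => rfl })
  exact Module.Flat.of_linearEquiv e

theorem universallyInjective_subtype_decaying [IsAdicComplete I R] :
    CAlgX.UniversallyInjective R (decaying I α R).subtype := by
  classical
  intro Q _ _
  rw [injective_iff_map_eq_zero]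
  intro z hz
  have key : ∀ (P : Submodule R Q) [Module.Finite R P],
      Function.Injective ((decaying I α R).subtype.rTensor P) := by
    intro P _
    have h1 := (CAlg99.DecayTensor.tensor_decaying (I := I) α P).1
    rw [LinearMap.coe_comp] at h1
    have h2 : Function.Injective ((decaying I α R).subtype.lTensor P) := h1.of_comp
    intro a b hab
    apply (TensorProduct.comm R _ P).injective
    apply h2
    have hc : ∀ t, (decaying I α R).subtype.lTensor P (TensorProduct.comm R _ P t) =
        TensorProduct.comm R _ P ((decaying I α R).subtype.rTensor P t) := by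
      intro t
      induction t using TensorProduct.induction_on with
      | zero => simp
      | tmul x y => simp
      | add x y hx hy => simp only [map_add, hx, hy]
    rw [hc, hc, hab]
  obtain ⟨P, hP, t, ht⟩ := TensorProduct.exists_of_fg (TensorProduct.comm R _ Q z)
  let ι := (decaying I α R).subtype
  have hz' : LinearMap.rTensor (α → R) P.subtype (ι.lTensor P t) = 0 := by
    have hc : ∀ w : (decaying I α R) ⊗[R] Q, ι.lTensor Q (TensorProduct.comm R _ Q w) =
        TensorProduct.comm R _ Q (ι.rTensor Q w) := by
      intro w
      induction w using TensorProduct.induction_on with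
      | zero => simp
      | tmul x y => simp [ι]
      | add x y hx hy => simp only [map_add, hx, hy]
    have h3 := hc z
    rw [hz, map_zero, ← ht] at h3
    rw [← LinearMap.comp_apply, LinearMap.rTensor_comp_lTensor, ← LinearMap.lTensor_comp_rTensor]
    exact h3
  obtain ⟨P', hle, hP', h4⟩ := TensorProduct.eq_zero_of_fg_of_subtype_eq_zero hP hz'
  haveI : Module.Finite R P' := Module.Finite.iff_fg.mpr hP'
  have h5 : ι.lTensor P' (LinearMap.rTensor _ (Submodule.inclusion hle) t) = 0 := by
    rw [← LinearMap.comp_apply, LinearMap.lTensor_comp_rTensor, ← LinearMap.rTensor_comp_lTensor]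
    exact h4
  have h6 : LinearMap.rTensor _ (Submodule.inclusion hle) t = 0 := by
    apply (TensorProduct.comm R P' _).injective
    rw [map_zero]
    refine (injective_iff_map_eq_zero _).mp (key P') _ ?_
    have hc : ∀ w : P' ⊗[R] decaying I α R, ι.rTensor P' (TensorProduct.comm R P' _ w) =
        TensorProduct.comm R P' _ (ι.lTensor P' w) := by
      intro w
      induction w using TensorProduct.induction_on with
      | zero => simp
      | tmul x y => simp [ι]
      | add x y hx hy => simp only [map_add, hx, hy]
    show ι.rTensor P' _ = 0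
    rw [hc, h5, map_zero]
  apply (TensorProduct.comm R _ Q).injective
  rw [map_zero, ← ht, ← P.subtype_comp_inclusion P' hle, LinearMap.rTensor_comp, LinearMap.comp_apply,
    h6, map_zero]

theorem universallyInjective_completion_pi [IsAdicComplete I R] :
    CAlgX.UniversallyInjective R
      (LinearMap.pi fun a : α =>
        (AdicCompletion.map I (Finsupp.lapply a : (α →₀ R) →ₗ[R] R)).restrictScalars R :
        AdicCompletion I (α →₀ R) →ₗ[R] (α → AdicCompletion I R)) := by
  haveI : IsAdicComplete I (AdicCompletion I R) := AdicCompletion.isAdicComplete (IsNoetherian.noetherian I)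
  obtain ⟨h1, h2⟩ := Groth.Agent.S17539.result I α R
  let f : AdicCompletion I (α →₀ R) →ₗ[R] (α → AdicCompletion I R) := LinearMap.pi fun a : α =>
    (AdicCompletion.map I (Finsupp.lapply (M := R) (R := R) a)).restrictScalars R
  let eA : R ≃ₗ[R] AdicCompletion I R := AdicCompletion.ofLinearEquiv I R
  let E : AdicCompletion I (α →₀ R) ≃ₗ[R] decaying I α R :=
    (LinearEquiv.ofInjective f h1).trans ((LinearEquiv.ofEq _ _ h2).trans
      (CAlg99.AdicBasis.congrValues (I := I) eA).symm)
  let P : (α → R) ≃ₗ[R] (α → AdicCompletion I R) := LinearEquiv.piCongrRight fun _ => eA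
  have hf : f = P.toLinearMap ∘ₗ (decaying I α R).subtype ∘ₗ E.toLinearMap := by
    refine LinearMap.ext fun x => funext fun z => ?_
    exact (eA.apply_symm_apply _).symm
  intro Q _ _
  show Function.Injective (f.rTensor Q)
  rw [hf, LinearMap.rTensor_comp, LinearMap.rTensor_comp]
  exact (LinearEquiv.rTensor Q P).injective.comp
    ((universallyInjective_subtype_decaying I α Q).comp (LinearEquiv.rTensor Q E).injective)

end Groth.Agent.RegLoc.DecayFlat
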