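import Mathlib.RingTheory.Ideal.AssociatedPrime.Basic
import Mathlib.RingTheory.Flat.Basic
import Mathlib.RingTheory.TensorProduct.DirectLimitFG
import Mathlib.LinearAlgebra.TensorProduct.Tower
import Mathlib.LinearAlgebra.TensorProduct.Pi
import Mathlib.RingTheory.Finiteness.Ideal

/-!
Associated primes of `N ⊗ M` for `N` flat over the base.
-/

set_option autoImplicit false
set_option linter.style.haveILetI false

open TensorProduct

universe u

namespace Groth.Agent.RegLoc.AssTensor

variable {R S : Type u} [CommRing R] [CommRing S] [Algebra R S]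
variable {N : Type u} [AddCommGroup N] [Module R N] [Module S N] [IsScalarTower R S N]

/-- `id ⊗ f`, linear over `S`. -/
noncomputable def tmap {L L' : Type u} [AddCommGroup L] [Module R L] [AddCommGroup L'] [Module R L']
    (f : L →ₗ[R] L') : N ⊗[R] L →ₗ[S] N ⊗[R] L' :=
  TensorProduct.AlgebraTensorModule.map (LinearMap.id : N →ₗ[S] N) f

theorem tmap_apply {L L' : Type u} [AddCommGroup L] [Module R L] [AddCommGroup L'] [Module R L']
    (f : L →ₗ[R] L') (z : N ⊗[R] L) : tmap (S := S) f z = f.lTensor N z := by
  induction z using TensorProduct.induction_on with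
  | zero => simp
  | tmul x y => simp [tmap]
  | add x y hx hy => simp only [map_add, hx, hy]

theorem tmap_injective [Module.Flat R N] {L L' : Type u} [AddCommGroup L] [Module R L] [AddCommGroup L']
    [Module R L'] (f : L →ₗ[R] L') (hf : Function.Injective f) :
    Function.Injective (tmap (N := N) (S := S) f) := by
  intro a b h
  rw [tmap_apply, tmap_apply] at h
  exact Module.Flat.lTensor_preserves_injective_linearMap f hf h

/-- Tensoring with an element. -/
noncomputable def elemMap {L : Type u} [AddCommGroup L] [Module R L] (m : L) : N →ₗ[S] N ⊗[R] L where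
  toFun n := n ⊗ₜ m
  map_add' a b := TensorProduct.add_tmul a b m
  map_smul' s a := (TensorProduct.smul_tmul' s a m).symm

theorem ker_elemMap [Module.Flat R N] {L : Type u} [AddCommGroup L] [Module R L] (m : L)
    (p : Ideal R) (hp : ∀ a : R, a • m = 0 ↔ a ∈ p) :
    LinearMap.ker (elemMap (N := N) (R := R) (S := S) m) = p.map (algebraMap R S) • (⊤ : Submodule S N) := by
  refine le_antisymm (fun n hn => ?_) ?_
  · let g : R →ₗ[R] L := LinearMap.toSpanSingleton R L m
    have hex : Function.Exact (p.subtype) g := by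
      intro a
      show a • m = 0 ↔ _
      rw [hp]
      exact ⟨fun h => ⟨⟨a, h⟩, rfl⟩, fun ⟨y, hy⟩ => hy ▸ y.2⟩
    have h1 : g.lTensor N (n ⊗ₜ (1 : R)) = 0 := by
      simpa [g, elemMap] using hn
    obtain ⟨w, hw⟩ := (Module.Flat.lTensor_exact N hex _).mp h1
    have h2 : n = TensorProduct.rid R N (p.subtype.lTensor N w) := by rw [hw]; simp
    rw [h2]
    clear hw h2
    induction w using TensorProduct.induction_on with
    | zero => simp
    | tmul x a =>
      simp only [LinearMap.lTensor_tmul, TensorProduct.rid_tmul]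
      rw [← algebraMap_smul S (p.subtype a) x]
      exact Submodule.smul_mem_smul (Ideal.mem_map_of_mem _ a.2) Submodule.mem_top
    | add x y hx hy => simp only [map_add]; exact Submodule.add_mem _ hx hy
  · rw [Submodule.smul_le]
    intro s hs n _
    induction hs using Submodule.span_induction generalizing n with
    | mem x hx =>
      obtain ⟨a, ha, rfl⟩ := hx
      show (algebraMap R S a • n) ⊗ₜ[R] m = 0
      rw [algebraMap_smul, TensorProduct.smul_tmul, (hp a).mpr ha, TensorProduct.tmul_zero]
    | zero => simp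
    | add x y _ _ hx hy => rw [add_smul]; exact Submodule.add_mem _ (hx n Submodule.mem_top) (hy n Submodule.mem_top)
    | smul r x _ hx => rw [smul_eq_mul, mul_smul]; exact Submodule.smul_mem _ r (hx n Submodule.mem_top)

theorem exists_quot_map [Module.Flat R N] {L : Type u} [AddCommGroup L] [Module R L] (m : L)
    (p : Ideal R) (hp : ∀ a : R, a • m = 0 ↔ a ∈ p) :
    ∃ j : (N ⧸ p.map (algebraMap R S) • (⊤ : Submodule S N)) →ₗ[S] N ⊗[R] L,
      Function.Injective j ∧ ∀ n, j (Submodule.Quotient.mk n) = n ⊗ₜ m := by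
  refine ⟨Submodule.liftQ _ (elemMap m) (ker_elemMap m p hp).ge, ?_, fun n => rfl⟩
  rw [← LinearMap.ker_eq_bot]
  exact Submodule.ker_liftQ_eq_bot _ _ _ (ker_elemMap m p hp).le

theorem subset_associatedPrimes [IsNoetherianRing R] [Module.Flat R N] {M : Type u} [AddCommGroup M]
    [Module R M] {p : Ideal R} (hp : p ∈ associatedPrimes R M) :
    associatedPrimes S (N ⧸ p.map (algebraMap R S) • (⊤ : Submodule S N)) ⊆
      associatedPrimes S (N ⊗[R] M) := by
  obtain ⟨-, m, hm⟩ := (isAssociatedPrime_iff).mp hp
  obtain ⟨j, hj, -⟩ := exists_quot_map (N := N) (S := S) m p fun a => by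
    rw [hm, Submodule.mem_colon_singleton, Submodule.mem_bot]
  exact fun q hq => hq.map_of_injective j hj

theorem exists_independent {L : Type u} [AddCommGroup L] [Module R L] [Module.Finite R L]
    (P : Ideal R) [P.IsPrime] (hL : ∀ a ∈ P, ∀ l : L, a • l = 0) :
    ∃ (B : Finset L) (a : R), a ∉ P ∧ (∀ c : B → R, ∑ b : B, c b • (b : L) = 0 → ∀ b, c b ∈ P) ∧
      ∀ l : L, a • l ∈ Submodule.span R (B : Set L) := by
  classical
  obtain ⟨G, hG⟩ := Module.Finite.fg_top (R := R) (M := L)
  let ind : Finset L → Prop := fun B =>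
    ∀ c : B → R, ∑ b : B, c b • (b : L) = 0 → ∀ b, c b ∈ P
  have hne : (G.powerset.filter ind).Nonempty :=
    ⟨∅, Finset.mem_filter.mpr ⟨Finset.empty_mem_powerset _, fun c _ b => absurd b.2 (Finset.notMem_empty _)⟩⟩
  obtain ⟨B, hB, hmax⟩ := Finset.exists_max_image _ Finset.card hne
  rw [Finset.mem_filter, Finset.mem_powerset] at hB
  have hkey : ∀ g ∈ G, ∃ a ∉ P, a • g ∈ Submodule.span R (B : Set L) := by
    intro g hg
    by_cases hgB : g ∈ B
    · exact ⟨1, fun h => (inferInstance : P.IsPrime).ne_top ((Ideal.eq_top_iff_one _).mpr h),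
        Submodule.smul_mem _ _ (Submodule.subset_span hgB)⟩
    by_contra hcon
    push Not at hcon
    have hind : ind (insert g B) := by
      intro c hc b
      let c' : L → R := fun l => if h : l ∈ insert g B then c ⟨l, h⟩ else 0
      have hc' : ∑ l ∈ insert g B, c' l • l = 0 := by
        rw [← Finset.sum_coe_sort (insert g B)]
        refine Eq.trans (Finset.sum_congr rfl fun b _ => ?_) hc
        simp only [c']
        rw [dif_pos b.2]
      rw [Finset.sum_insert hgB] at hc'
      have hgP : c' g ∈ P := by
        by_contra hgP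
        refine hcon (c' g) hgP ?_
        rw [eq_neg_of_add_eq_zero_left hc']
        exact Submodule.neg_mem _ (Submodule.sum_mem _ fun l hl =>
          Submodule.smul_mem _ _ (Submodule.subset_span hl))
      rw [hL _ hgP, zero_add] at hc'
      have hrest := hB.2 (fun b => c' b) (by rwa [Finset.sum_coe_sort B fun l => c' l • l])
      have hb : c' b = c b := dif_pos b.2
      rw [← hb]
      rcases Finset.mem_insert.mp b.2 with h | h
      · rw [h]; exact hgP
      · exact hrest ⟨b, h⟩
    have := hmax (insert g B) (Finset.mem_filter.mpr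
      ⟨Finset.mem_powerset.mpr (Finset.insert_subset hg hB.1), hind⟩)
    rw [Finset.card_insert_of_notMem hgB] at this
    omega
  choose a ha haB using hkey
  refine ⟨B, ∏ g : G, a g g.2, ?_, hB.2, fun l => ?_⟩
  · intro h
    obtain ⟨g, -, hg⟩ := (Ideal.IsPrime.prod_mem_iff).mp h
    exact ha g g.2 hg
  · have hl : l ∈ Submodule.span R (G : Set L) := hG ▸ Submodule.mem_top
    refine (Submodule.span_le.mpr ?_ :
      Submodule.span R (G : Set L) ≤ (Submodule.span R (B : Set L)).comap
        (LinearMap.lsmul R L (∏ g : G, a g g.2))) hl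
    intro g hg
    show (∏ g' : G, a g' g'.2) • g ∈ Submodule.span R (B : Set L)
    rw [← Finset.prod_erase_mul _ _ (Finset.mem_univ (⟨g, hg⟩ : G)), mul_smul]
    exact Submodule.smul_mem _ _ (haB g hg)

/-- The inductive step of the decomposition. -/
theorem key [Module.Flat R N] (q : Ideal S) [q.IsPrime] (n : ℕ) :
    ∀ (L : Type u) [AddCommGroup L] [Module R L] [IsNoetherian R L],
      (∀ a ∈ q.comap (algebraMap R S) ^ n, ∀ l : L, a • l = 0) →
      ∀ x : N ⊗[R] L, (∀ s : S, s • x = 0 → s ∈ q) → (∀ s ∈ q, ∃ k : ℕ, s ^ k • x = 0) →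
        (∃ l : L, ∀ a : R, a • l = 0 → a ∈ q.comap (algebraMap R S)) ∧
          q ∈ associatedPrimes S
            (N ⧸ (q.comap (algebraMap R S)).map (algebraMap R S) • (⊤ : Submodule S N)) := by
  classical
  induction n with
  | zero =>
    intro L _ _ _ hL x h1 _
    refine absurd (h1 1 ?_) (fun h => (inferInstance : q.IsPrime).ne_top ((Ideal.eq_top_iff_one _).mpr h))
    haveI : Subsingleton L := ⟨fun a b => by
      rw [← one_smul R a, ← one_smul R b, hL 1 (by simp) a, hL 1 (by simp) b]⟩
    exact Subsingleton.elim _ _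
  | succ n ih =>
    intro L _ _ _ hL x h1 h2
    set P := q.comap (algebraMap R S) with hP
    let L' : Submodule R L := P • ⊤
    let π := L'.mkQ
    by_cases hy : ∃ s, s ∉ q ∧ s • tmap (S := S) π x = 0
    · obtain ⟨s, hs, hsy⟩ := hy
      rw [← map_smul, tmap_apply] at hsy
      obtain ⟨z, hz⟩ := (lTensor_exact N (LinearMap.exact_subtype_mkQ L') L'.mkQ_surjective _).mp hsy
      rw [← tmap_apply (S := S)] at hz
      have hinj := tmap_injective (N := N) (S := S) L'.subtype L'.injective_subtype
      obtain ⟨⟨l, hl⟩, hq⟩ := ih L'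
        (fun a ha l => Subtype.ext (by
          have : (l : L) ∈ P • (⊤ : Submodule R L) := l.2
          show a • (l : L) = 0
          refine Submodule.smul_induction_on (p := fun w => a • w = 0) this (fun r hr m _ => ?_)
            (fun u v hu hv => by rw [smul_add, hu, hv, add_zero])
          rw [← mul_smul]
          exact hL _ (by rw [pow_succ]; exact Ideal.mul_mem_mul ha hr) m))
        z
        (fun t ht => by
          have h3 : (t * s) • x = 0 := by rw [mul_smul, ← hz, ← map_smul, ht, map_zero]
          exact ((inferInstance : q.IsPrime).mem_or_mem (h1 _ h3)).resolve_right hs)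
        (fun t ht => by
          obtain ⟨k, hk⟩ := h2 t ht
          refine ⟨k, hinj ?_⟩
          rw [map_smul, hz, smul_comm, hk, smul_zero, map_zero])
      exact ⟨⟨l, fun a ha => hl a (Subtype.ext ha)⟩, hq⟩
    push Not at hy
    have hy1 : ∀ s, s • tmap (S := S) π x = 0 → s ∈ q := fun s hs => by
      by_contra h
      exact hy s h hs
    have hQ : ∀ a ∈ P, ∀ l : L ⧸ L', a • l = 0 := by
      intro a ha l
      obtain ⟨l, rfl⟩ := L'.mkQ_surjective l
      rw [← map_smul]
      exact (Submodule.Quotient.mk_eq_zero _).mpr (Submodule.smul_mem_smul ha Submodule.mem_top)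
    obtain ⟨B, a, ha, hB, haB⟩ := exists_independent P hQ
    let h : (B → R ⧸ P) →ₗ[R] L ⧸ L' := ∑ b : B,
      (Submodule.liftQ P (LinearMap.toSpanSingleton R (L ⧸ L') (b : L ⧸ L'))
        (fun r hr => hQ r hr _)) ∘ₗ LinearMap.proj b
    have hh : ∀ v : B → R, h (fun b => Ideal.Quotient.mk P (v b)) = ∑ b : B, v b • (b : L ⧸ L') := by
      intro v
      simp only [h, LinearMap.sum_apply, LinearMap.comp_apply, LinearMap.proj_apply]
      rfl
    have hinjh : Function.Injective h := by
      rw [injective_iff_map_eq_zero]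
      intro v hv
      choose w hw using fun b => Ideal.Quotient.mk_surjective (v b)
      have : v = fun b => Ideal.Quotient.mk P (w b) := funext fun b => (hw b).symm
      rw [this, hh] at hv
      funext b
      rw [← hw b]
      exact Ideal.Quotient.eq_zero_iff_mem.mpr (hB w hv b)
    have hmem : ∀ l, a • l ∈ LinearMap.range h := by
      intro l
      refine (Submodule.span_le.mpr ?_ : Submodule.span R (B : Set (L ⧸ L')) ≤ LinearMap.range h) (haB l)
      intro b hb
      refine ⟨fun b' => Ideal.Quotient.mk P ((Pi.single (⟨b, hb⟩ : B) (1 : R) : B → R) b'), ?_⟩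
      rw [hh, Finset.sum_eq_single (⟨b, hb⟩ : B)]
      · rw [Pi.single_eq_same, one_smul]
      · intro b' _ hne; rw [Pi.single_eq_of_ne hne, zero_smul]
      · simp
    let f : (L ⧸ L') →ₗ[R] (B → R ⧸ P) :=
      (LinearEquiv.ofInjective h hinjh).symm.toLinearMap ∘ₗ
        LinearMap.codRestrict (LinearMap.range h) (LinearMap.lsmul R (L ⧸ L') a) hmem
    have hf : ∀ l, h (f l) = a • l := fun l =>
      congrArg Subtype.val ((LinearEquiv.ofInjective h hinjh).apply_symm_apply
        ⟨a • l, hmem l⟩)
    set y := tmap (S := S) π x with hy'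
    have hzy : tmap (S := S) h (tmap (S := S) f y) = algebraMap R S a • y := by
      rw [tmap_apply, tmap_apply, ← LinearMap.lTensor_comp_apply, algebraMap_smul]
      have : h ∘ₗ f = a • LinearMap.id := LinearMap.ext fun l => hf l
      rw [this, LinearMap.lTensor_smul, LinearMap.lTensor_id]
      rfl
    have hz1 : ∀ t : S, t • tmap (S := S) f y = 0 → t ∈ q := by
      intro t ht
      have h3 := congrArg (tmap (S := S) h) ht
      rw [map_smul, hzy, map_zero, smul_smul] at h3
      exact ((inferInstance : q.IsPrime).mem_or_mem (hy1 _ h3)).resolve_right ha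
    let e := TensorProduct.piRight R S N (fun _ : B => R ⧸ P)
    set z := e (tmap (S := S) f y) with hz
    obtain ⟨b, hb⟩ : ∃ b : B, ∀ t : S, t • z b = 0 → t ∈ q := by
      by_contra hcon
      push Not at hcon
      choose t ht htq using hcon
      have h4 : (∏ b, t b) • z = 0 := funext fun b => by
        rw [Pi.smul_apply, ← Finset.prod_erase_mul _ _ (Finset.mem_univ b), mul_smul, ht b, smul_zero,
          Pi.zero_apply]
      rw [hz, ← map_smul, LinearEquiv.map_eq_zero_iff] at h4
      obtain ⟨b, -, hb⟩ := (Ideal.IsPrime.prod_mem_iff).mp (hz1 _ h4)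
      exact htq b hb
    refine ⟨?_, ?_⟩
    · obtain ⟨l, hl⟩ := L'.mkQ_surjective (b : L ⧸ L')
      refine ⟨l, fun r hr => ?_⟩
      have h5 : r • (b : L ⧸ L') = 0 := by rw [← hl, ← map_smul, hr, map_zero]
      have := hB (Pi.single b r) (by
        rw [Finset.sum_eq_single b]
        · rwa [Pi.single_eq_same]
        · intro b' _ hne; rw [Pi.single_eq_of_ne hne, zero_smul]
        · simp) b
      rwa [Pi.single_eq_same] at this
    · obtain ⟨j, hj, hj'⟩ := exists_quot_map (N := N) (S := S) (Ideal.Quotient.mk P 1) P fun r => by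
        rw [show r • Ideal.Quotient.mk P (1 : R) = Ideal.Quotient.mk P (r * 1) from rfl, mul_one,
          Ideal.Quotient.eq_zero_iff_mem]
      have hjs : Function.Surjective j := by
        intro w
        induction w using TensorProduct.induction_on with
        | zero => exact ⟨0, map_zero _⟩
        | tmul n r =>
          obtain ⟨r, rfl⟩ := Ideal.Quotient.mk_surjective r
          refine ⟨Submodule.Quotient.mk (r • n), ?_⟩
          rw [hj', TensorProduct.smul_tmul]
          congr 1
          show Ideal.Quotient.mk P (r * 1) = _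
          rw [mul_one]
        | add u v hu hv =>
          obtain ⟨u', rfl⟩ := hu; obtain ⟨v', rfl⟩ := hv
          exact ⟨u' + v', map_add _ _ _⟩
      obtain ⟨w, hw⟩ := hjs (z b)
      refine ⟨inferInstance, w, le_antisymm (fun t ht => ?_) (fun t ht => ?_)⟩
      · obtain ⟨k, hk⟩ := h2 t ht
        refine ⟨k, ?_⟩
        rw [Submodule.mem_colon_singleton, Submodule.mem_bot]
        apply hj
        rw [map_smul, hw, map_zero, ← Pi.smul_apply, hz, ← map_smul, ← map_smul, hy', ← map_smul, hk]
        simp
      · obtain ⟨k, hk⟩ := ht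
        rw [Submodule.mem_colon_singleton, Submodule.mem_bot] at hk
        have h6 := congrArg j hk
        rw [map_smul, hw, map_zero] at h6
        exact (inferInstance : q.IsPrime).mem_of_pow_mem k (hb _ h6)

theorem associatedPrimes_tensor [IsNoetherianRing R] [Module.Flat R N] (M : Type u) [AddCommGroup M]
    [Module R M] :
    associatedPrimes S (N ⊗[R] M) =
      ⋃ p ∈ associatedPrimes R M,
        associatedPrimes S (N ⧸ p.map (algebraMap R S) • (⊤ : Submodule S N)) := by
  classical
  refine Set.Subset.antisymm (fun q hq => ?_)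
    (Set.iUnion₂_subset fun p hp => subset_associatedPrimes hp)
  obtain ⟨hqp, x, hx⟩ := hq
  haveI := hqp
  have h1 : ∀ s : S, s • x = 0 → s ∈ q := fun s hs => by
    rw [hx]
    refine Ideal.le_radical ?_
    rwa [Submodule.mem_colon_singleton, Submodule.mem_bot]
  have h2 : ∀ s ∈ q, ∃ k : ℕ, s ^ k • x = 0 := fun s hs => by
    rw [hx] at hs
    obtain ⟨k, hk⟩ := hs
    exact ⟨k, by rwa [Submodule.mem_colon_singleton, Submodule.mem_bot] at hk⟩
  set P := q.comap (algebraMap R S) with hP
  obtain ⟨n, hn⟩ : ∃ n, P ^ n ≤ ((⊥ : Submodule S (N ⊗[R] M)).colon {x}).comap (algebraMap R S) := by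
    refine Ideal.exists_pow_le_of_le_radical_of_fg ?_ (IsNoetherian.noetherian P)
    rw [← Ideal.comap_radical, hP]
    exact Ideal.comap_mono hx.le
  obtain ⟨T, hT⟩ := (inferInstance : IsNoetherianRing R).noetherian (P ^ n)
  obtain ⟨W, hW, t, ht⟩ := TensorProduct.exists_of_fg (TensorProduct.comm R N M x)
  let φ : M →ₗ[R] (T → M) := LinearMap.pi fun g => (g : R) • LinearMap.id
  have hWfin : Module.Finite R W := Module.Finite.iff_fg.mpr hW
  haveI : IsNoetherian R W := isNoetherian_of_isNoetherianRing_of_finite R W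
  let L : Submodule R W := LinearMap.ker (φ ∘ₗ W.subtype)
  let x' : N ⊗[R] W := TensorProduct.comm R W N t
  have hx' : tmap (S := S) W.subtype x' = x := by
    apply (TensorProduct.comm R N M).injective
    rw [← ht, tmap_apply]
    have : ∀ t, TensorProduct.comm R N M (W.subtype.lTensor N (TensorProduct.comm R W N t)) =
        W.subtype.rTensor N t := by
      intro t
      induction t using TensorProduct.induction_on with
      | zero => simp
      | tmul a b => simp
      | add a b ha hb => simp only [map_add, ha, hb]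
    exact this t
  have hg : ∀ (g : T) (w : N ⊗[R] W),
      TensorProduct.piRight R R N (fun _ : T => M) ((φ ∘ₗ W.subtype).lTensor N w) g =
        (g : R) • W.subtype.lTensor N w := by
    intro g w
    induction w using TensorProduct.induction_on with
    | zero => simp
    | tmul a b => simp [φ]
    | add a b ha hb => simp only [map_add, Pi.add_apply, ha, hb, smul_add]
  have h0 : (φ ∘ₗ W.subtype).lTensor N x' = 0 := by
    apply (TensorProduct.piRight R R N (fun _ : T => M)).injective
    funext g
    rw [hg, map_zero, Pi.zero_apply, ← tmap_apply (S := S), hx']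
    have := hn (hT ▸ Submodule.subset_span g.2 : (g : R) ∈ P ^ n)
    rw [Ideal.mem_comap, Submodule.mem_colon_singleton, Submodule.mem_bot, algebraMap_smul] at this
    exact this
  obtain ⟨z, hz⟩ := (Module.Flat.lTensor_exact N
    (LinearMap.exact_subtype_ker_map (φ ∘ₗ W.subtype)) _).mp h0
  rw [← tmap_apply (S := S)] at hz
  have hinjW := tmap_injective (N := N) (S := S) (W.subtype ∘ₗ L.subtype)
    (W.injective_subtype.comp L.injective_subtype)
  have hzx : tmap (S := S) (W.subtype ∘ₗ L.subtype) z = x := by
    rw [← hx', ← hz]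
    simp only [tmap_apply]
    exact LinearMap.lTensor_comp_apply _ _ _ _
  have hkill : ∀ a ∈ P ^ n, ∀ l : L, a • l = 0 := by
    intro a ha l
    have hl : ∀ g : T, (g : R) • ((l : W) : M) = 0 := fun g => congrFun l.2 g
    apply Subtype.ext; apply Subtype.ext
    show a • ((l : W) : M) = 0
    rw [← hT] at ha
    refine Submodule.span_induction (p := fun a _ => a • ((l : W) : M) = 0) (fun g hg => hl ⟨g, hg⟩)
      (zero_smul _ _) (fun u v _ _ hu hv => by rw [add_smul, hu, hv, add_zero])
      (fun r v _ hv => by rw [smul_eq_mul, mul_smul, hv, smul_zero]) ha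
  obtain ⟨⟨l, hl⟩, hq⟩ := key (N := N) q n L hkill z
    (fun s hs => h1 s (by rw [← hzx, ← map_smul, hs, map_zero]))
    (fun s hs => by
      obtain ⟨k, hk⟩ := h2 s hs
      exact ⟨k, hinjW (by rw [map_smul, hzx, hk, map_zero])⟩)
  refine Set.mem_biUnion (x := P) ?_ hq
  refine ⟨inferInstance, ((l : W) : M), le_antisymm (fun a ha => Ideal.mem_radical_iff.mpr ⟨n, ?_⟩) (fun a ha => ?_)⟩
  · rw [Submodule.mem_colon_singleton, Submodule.mem_bot]
    exact congrArg (fun v : L => ((v : W) : M)) (hkill _ (Ideal.pow_mem_pow ha n) l)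
  · obtain ⟨k, hk⟩ := ha
    rw [Submodule.mem_colon_singleton, Submodule.mem_bot] at hk
    exact (inferInstance : P.IsPrime).mem_of_pow_mem k (hl _ (Subtype.ext (Subtype.ext hk)))

end Groth.Agent.RegLoc.AssTensor
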