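import Mathlib.RingTheory.NoetherNormalization
import Mathlib.RingTheory.MvPolynomial.Localization
import Mathlib.RingTheory.Localization.Integral
import Mathlib.RingTheory.AlgebraicIndependent.Basic
import Mathlib.RingTheory.Localization.BaseChange
import Mathlib.RingTheory.FiniteType
import Mathlib.RingTheory.FiniteStability

/-!
Noether normalization over a domain, up to inverting one element.
-/

set_option autoImplicit false
set_option linter.style.haveILetI false

open TensorProduct

universe u

namespace Groth.Agent.RegLoc.NNDomain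

theorem exists_normalization {R S : Type u} [CommRing R] [IsDomain R] [CommRing S] [Algebra R S]
    [Algebra.FiniteType R S] (hinj : Function.Injective (algebraMap R S)) :
    ∃ (d : ℕ) (y : Fin d → S) (S' : Subalgebra R S), AlgebraicIndependent R y ∧ (∀ i, y i ∈ S') ∧ S'.FG ∧
      (∀ s ∈ S', IsIntegral (Algebra.adjoin R (Set.range y)) s) ∧
      ∃ f : R, f ≠ 0 ∧ ∀ s : S, ∃ n : ℕ, (f ^ n) • s ∈ S' := by
  classical
  let K := FractionRing R
  let T := K ⊗[R] S
  let ι : S →ₐ[R] T := Algebra.TensorProduct.includeRight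
  haveI : IsLocalizedModule (nonZeroDivisors R) (TensorProduct.mk R K S 1) :=
    (isLocalizedModule_iff_isBaseChange (nonZeroDivisors R) K _).mpr (TensorProduct.isBaseChange R S K)
  have hker : ∀ s : S, ι s = 0 → ∃ h : R, h ≠ 0 ∧ h • s = 0 := by
    intro s hs
    obtain ⟨c, hc⟩ := (IsLocalizedModule.eq_zero_iff (nonZeroDivisors R) (TensorProduct.mk R K S 1)).mp hs
    exact ⟨c, nonZeroDivisors.ne_zero c.2, hc⟩
  have : Nontrivial T := by
    refine nontrivial_of_ne (ι 1) 0 fun h => ?_
    obtain ⟨c, hc, h0⟩ := hker 1 h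
    exact hc (hinj (by rw [map_zero, Algebra.algebraMap_eq_smul_one, h0]))
  haveI : Algebra.FiniteType K T := inferInstanceAs (Algebra.FiniteType K (K ⊗[R] S))
  obtain ⟨d, g, hg, hgint⟩ := exists_integral_inj_algHom_of_fg K T
  -- clear denominators in the parameters
  choose p hp using fun i : Fin d =>
    IsLocalizedModule.surj (nonZeroDivisors R) (TensorProduct.mk R K S 1) (g (MvPolynomial.X i))
  let y : Fin d → S := fun i => (p i).1
  let c : Fin d → K := fun i => algebraMap R K (p i).2
  have hy : ∀ i, ι (y i) = g (MvPolynomial.C (c i) * MvPolynomial.X i) := fun i => by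
    rw [map_mul, ← MvPolynomial.algebraMap_eq, AlgHom.commutes, ← Algebra.smul_def, algebraMap_smul]
    exact (hp i).symm
  have hc : ∀ i, c i ≠ 0 := fun i =>
    (map_ne_zero_iff _ (IsFractionRing.injective R K)).mpr (nonZeroDivisors.ne_zero (p i).2.2)
  -- the rescaling of the variables
  let σ : MvPolynomial (Fin d) K →ₐ[K] MvPolynomial (Fin d) K :=
    MvPolynomial.aeval fun i => MvPolynomial.C (c i) * MvPolynomial.X i
  have hσ : Function.Bijective σ := by
    let σ' : MvPolynomial (Fin d) K →ₐ[K] MvPolynomial (Fin d) K :=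
      MvPolynomial.aeval fun i => MvPolynomial.C (c i)⁻¹ * MvPolynomial.X i
    refine Function.bijective_iff_has_inverse.mpr ⟨σ', fun q => ?_, fun q => ?_⟩
    · have : σ'.comp σ = AlgHom.id K _ := MvPolynomial.algHom_ext fun i => by
        simp only [σ, σ', AlgHom.comp_apply, MvPolynomial.aeval_X, map_mul, MvPolynomial.aeval_C,
          MvPolynomial.algebraMap_eq, AlgHom.coe_id, id_eq]
        rw [← mul_assoc, ← map_mul, mul_inv_cancel₀ (hc i), map_one, one_mul]
      exact AlgHom.congr_fun this q
    · have : σ.comp σ' = AlgHom.id K _ := MvPolynomial.algHom_ext fun i => by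
        simp only [σ, σ', AlgHom.comp_apply, MvPolynomial.aeval_X, map_mul, MvPolynomial.aeval_C,
          MvPolynomial.algebraMap_eq, AlgHom.coe_id, id_eq]
        rw [← mul_assoc, ← map_mul, inv_mul_cancel₀ (hc i), map_one, one_mul]
      exact AlgHom.congr_fun this q
  let G : MvPolynomial (Fin d) K →ₐ[K] T := g.comp σ
  have hG : Function.Injective G := hg.comp hσ.1
  have hGint : G.toRingHom.IsIntegral :=
    RingHom.IsIntegral.trans _ _ (RingHom.isIntegral_of_surjective _ hσ.2) hgint
  let φ : MvPolynomial (Fin d) R →ₐ[R] S := MvPolynomial.aeval y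
  let m : MvPolynomial (Fin d) R →+* MvPolynomial (Fin d) K := MvPolynomial.map (algebraMap R K)
  have hcomp : ∀ q, ι (φ q) = G (m q) := by
    intro q
    have : (ι : S →+* T).comp φ.toRingHom = G.toRingHom.comp m := by
      apply MvPolynomial.ringHom_ext
      · intro r
        simp [φ, m, G, σ, IsScalarTower.algebraMap_apply R K T]
      · intro i
        simp [φ, m, G, σ, hy]
    exact RingHom.congr_fun this q
  have hm : Function.Injective m := MvPolynomial.map_injective _ (IsFractionRing.injective R K)
  have hφ : Function.Injective φ := fun a b hab => hm (hG (by rw [← hcomp, ← hcomp, hab]))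
  have hAI : AlgebraicIndependent R y := hφ
  let A := Algebra.adjoin R (Set.range y)
  -- each element becomes integral over `R[y]` after scaling
  have key : ∀ s : S, ∃ f : R, f ≠ 0 ∧ IsIntegral A (f • s) := by
    intro s
    obtain ⟨P, hPmonic, hP⟩ := hGint (ι s)
    letI := MvPolynomial.algebraMvPolynomial (σ := Fin d) (R := R) (S := K)
    haveI : IsLocalization ((nonZeroDivisors R).map (MvPolynomial.C (σ := Fin d))) (MvPolynomial (Fin d) K) :=
      MvPolynomial.isLocalization _ K
    obtain ⟨⟨_, b, hb, rfl⟩, hbP⟩ := IsLocalization.integerNormalization_map_to_map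
      ((nonZeroDivisors R).map (MvPolynomial.C (σ := Fin d))) P
    set Q := IsLocalization.integerNormalization ((nonZeroDivisors R).map (MvPolynomial.C (σ := Fin d))) P
      with hQdef
    clear_value Q
    have hQ : ι (Q.eval₂ φ.toRingHom s) = 0 := by
      have h1 : ι (Q.eval₂ φ.toRingHom s) = (Q.map m).eval₂ G.toRingHom (ι s) := by
        rw [Polynomial.eval₂_map]
        refine (Polynomial.hom_eval₂ Q φ.toRingHom ι.toRingHom s).trans ?_
        congr 1
        exact RingHom.ext hcomp
      rw [h1, show Q.map m = Q.map (algebraMap (MvPolynomial (Fin d) R) (MvPolynomial (Fin d) K)) from rfl,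
        hbP, ← algebraMap_smul (MvPolynomial (Fin d) K), Polynomial.eval₂_smul, hP, mul_zero]
    obtain ⟨h, hh, hhQ⟩ := hker _ hQ
    have hlead : m (Q.leadingCoeff) = m (MvPolynomial.C b) := by
      have h2 : (Q.map m).leadingCoeff = m (MvPolynomial.C b) := by
        rw [show Q.map m = Q.map (algebraMap (MvPolynomial (Fin d) R) (MvPolynomial (Fin d) K)) from rfl,
          hbP, ← algebraMap_smul (MvPolynomial (Fin d) K), Polynomial.smul_eq_C_mul,
          Polynomial.leadingCoeff_mul, Polynomial.leadingCoeff_C, hPmonic.leadingCoeff, mul_one]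
        rfl
      rwa [Polynomial.leadingCoeff_map_of_injective hm] at h2
    have hQh : ((MvPolynomial.C h : MvPolynomial (Fin d) R) • Q).eval₂ φ.toRingHom s = 0 := by
      rw [Polynomial.eval₂_smul]
      simpa [φ, Algebra.smul_def] using hhQ
    have hlc : ((MvPolynomial.C h : MvPolynomial (Fin d) R) • Q).leadingCoeff =
        MvPolynomial.C (h * b) := by
      rw [Polynomial.smul_eq_C_mul, Polynomial.leadingCoeff_mul, Polynomial.leadingCoeff_C,
        hm hlead, map_mul]
    have hint := RingHom.isIntegralElem_leadingCoeff_mul (f := φ.toRingHom) _ _ hQh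
    rw [hlc] at hint
    refine ⟨h * b, mul_ne_zero hh (nonZeroDivisors.ne_zero hb), ?_⟩
    obtain ⟨q, hqm, hq⟩ := hint
    let θ : MvPolynomial (Fin d) R →+* A :=
      φ.toRingHom.codRestrict A fun z => by
        rw [show A = φ.range from Algebra.adjoin_range_eq_range_aeval R y]
        exact ⟨z, rfl⟩
    refine ⟨q.map θ, hqm.map θ, ?_⟩
    rw [Polynomial.eval₂_map, show (algebraMap A S).comp θ = φ.toRingHom from RingHom.ext fun z => rfl]
    simpa [φ, Algebra.smul_def] using hq
  obtain ⟨gen, hgen⟩ := (Algebra.FiniteType.out : (⊤ : Subalgebra R S).FG)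
  choose F hF0 hFint using key
  let f := ∏ s ∈ gen, F s
  have hf : f ≠ 0 := Finset.prod_ne_zero_iff.mpr fun s _ => hF0 s
  let S' := Algebra.adjoin R (Set.range y ∪ (fun s => f • s) '' (gen : Set S))
  refine ⟨d, y, S', hAI, fun i => Algebra.subset_adjoin (Or.inl ⟨i, rfl⟩),
    Subalgebra.fg_def.mpr ⟨_, (Set.finite_range y).union (gen.finite_toSet.image _), rfl⟩, ?_, f, hf, ?_⟩
  · intro s hs
    have : S' ≤ (integralClosure A S).restrictScalars R := by
      refine Algebra.adjoin_le ?_
      rintro _ (⟨i, rfl⟩ | ⟨z, hz, rfl⟩)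
      · exact isIntegral_algebraMap (x := (⟨y i, Algebra.subset_adjoin ⟨i, rfl⟩⟩ : A))
      · obtain ⟨e, he⟩ := Finset.dvd_prod_of_mem F (Finset.mem_coe.mp hz)
        show IsIntegral A (f • z)
        have : f • z = algebraMap R A e • (F z • z) := by
          rw [algebraMap_smul, smul_smul, mul_comm e, ← he]
        rw [this]
        exact (hFint z).smul _
    exact this hs
  · intro s
    have hs : s ∈ Algebra.adjoin R (gen : Set S) := hgen.symm ▸ Algebra.mem_top
    induction hs using Algebra.adjoin_induction with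
    | mem z hz => exact ⟨1, by rw [pow_one]; exact Algebra.subset_adjoin (Or.inr ⟨z, hz, rfl⟩)⟩
    | algebraMap r => exact ⟨0, by rw [pow_zero, one_smul]; exact S'.algebraMap_mem r⟩
    | add a b _ _ ha hb =>
      obtain ⟨n, hn⟩ := ha; obtain ⟨k, hk⟩ := hb
      refine ⟨k + n, ?_⟩
      rw [smul_add]
      refine add_mem ?_ ?_
      · rw [pow_add, mul_smul]; exact S'.smul_mem hn _
      · rw [add_comm, pow_add, mul_smul]; exact S'.smul_mem hk _
    | mul a b _ _ ha hb =>
      obtain ⟨n, hn⟩ := ha; obtain ⟨k, hk⟩ := hb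
      exact ⟨n + k, by rw [pow_add, ← smul_mul_smul_comm]; exact mul_mem hn hk⟩

end Groth.Agent.RegLoc.NNDomain
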