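import Groth.Agent.OneDim.KrullAkizuki
import Groth.Agent.VarDim.Algebra
import Mathlib.RingTheory.Localization.Integral
import Mathlib.RingTheory.IntegralClosure.IntegralRestrict
import Mathlib.RingTheory.Ideal.GoingUp

/-!
Krull–Akizuki in finite extensions of the fraction field, and the length bound in any rank.
-/

set_option autoImplicit false
set_option linter.style.haveILetI false
set_option synthInstance.maxSize 512

universe u

namespace Groth.Agent.RegLoc

variable {R : Type u} [CommRing R] [IsDomain R] [IsNoetherianRing R] [Ring.KrullDimLE 1 R]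
  {K : Type u} [Field K] [Algebra R K] [IsFractionRing R K]

theorem isNoetherianRing_of_between {L : Type u} [Field L] [Algebra K L] [FiniteDimensional K L]
    [Algebra R L] [IsScalarTower R K L] (A : Subalgebra R L) : IsNoetherianRing A := by
  classical
  -- the field generated by `A`
  let K' : IntermediateField K L := IntermediateField.adjoin K (A : Set L)
  obtain ⟨s, hs⟩ := (IntermediateField.fg_of_noetherian K')
  have halg : ∀ x : L, ∃ d : R, d ≠ 0 ∧ IsIntegral R (d • x) := fun x =>
    (IsIntegral.exists_multiple_integral_of_isLocalization (nonZeroDivisors R) x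
      (Algebra.IsIntegral.isIntegral (R := K) x)).elim fun m hm =>
        ⟨m, nonZeroDivisors.coe_ne_zero m, hm⟩
  -- finitely many elements of `A` generating `K'`
  have hgen : ∃ t : Finset A, IntermediateField.adjoin K ((fun a : A => (a : L)) '' t) = K' := by
    have hfg : ∀ x ∈ s, ∃ t : Finset A, x ∈ IntermediateField.adjoin K ((fun a : A => (a : L)) '' t) := by
      intro x hx
      have hxK : x ∈ K' := hs ▸ IntermediateField.subset_adjoin K _ hx
      obtain ⟨T, hT, hxT⟩ := IntermediateField.exists_finset_of_mem_adjoin hxK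
      refine ⟨T.attach.image fun y => ⟨y.1, hT y.2⟩, ?_⟩
      convert hxT using 3
      ext z
      simp
      exact fun h => hT h
    choose t ht using hfg
    refine ⟨s.attach.biUnion fun x => t x.1 x.2, le_antisymm ?_ ?_⟩
    · exact IntermediateField.adjoin.mono K _ _ (by rintro _ ⟨a, _, rfl⟩; exact a.2)
    · rw [← hs, IntermediateField.adjoin_le_iff]
      intro x hx
      refine IntermediateField.adjoin.mono K _ _ (Set.image_mono ?_) (ht x hx)
      intro a ha
      rw [Finset.coe_biUnion]
      exact Set.mem_iUnion₂.mpr ⟨⟨x, hx⟩, Finset.mem_coe.mpr (Finset.mem_attach _ _), ha⟩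
  obtain ⟨t, ht⟩ := hgen
  choose d hd0 hdint using halg
  let S : Subalgebra R L := Algebra.adjoin R ((fun a : A => d a • (a : L)) '' t)
  haveI : Module.Finite R S := Algebra.finite_adjoin_of_finite_of_isIntegral
    (t.finite_toSet.image _) (by rintro _ ⟨a, _, rfl⟩; exact hdint a)
  have hSA : S ≤ A := Algebra.adjoin_le (by rintro _ ⟨a, _, rfl⟩; exact A.smul_mem a.2 _)
  haveI : IsNoetherianRing S := IsNoetherianRing.of_finite R S
  have hinj : Function.Injective (algebraMap R L) := by
    rw [IsScalarTower.algebraMap_eq R K L]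
    exact (algebraMap K L).injective.comp (IsFractionRing.injective R K)
  haveI : Ring.KrullDimLE 1 S := by
    haveI : Algebra.IsIntegral R S := Algebra.IsIntegral.of_finite R S
    have h : ringKrullDim R ≤ ((1 : ℕ) : WithBot ℕ∞) := Order.KrullDimLE.krullDim_le
    haveI : FaithfulSMul R S := (faithfulSMul_iff_algebraMap_injective R S).mpr fun x y hxy =>
      hinj (congrArg Subtype.val hxy)
    rw [Ring.krullDimLE_iff, VarDim.ringKrullDim_eq_of_isIntegral (R := R) (S := S)]
    exact h
  -- `K'` is the fraction field of `S`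
  have hSK : ∀ x ∈ S, x ∈ K' := fun x hx =>
    IntermediateField.subset_adjoin K _ (hSA hx)
  let inc : S →+* K' := (S.val.toRingHom).codRestrict K' fun x => hSK _ x.2
  letI : Algebra S K' := inc.toAlgebra
  haveI : FaithfulSMul S K' := (faithfulSMul_iff_algebraMap_injective S K').mpr fun x y hxy =>
    Subtype.ext (congrArg (fun w : K' => (w : L)) hxy)
  haveI : IsFractionRing S K' := by
    refine IsFractionRing.of_field (R := S) (K := K') fun z => ?_
    have hz : (z : L) ∈ IntermediateField.adjoin K ((fun a : A => (a : L)) '' t) := ht.symm ▸ z.2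
    suffices ∃ p q : S, (q : L) ≠ 0 ∧ (z : L) = (p : L) / (q : L) by
      obtain ⟨p, q, hq, h⟩ := this
      exact ⟨p, q, Subtype.ext h⟩
    let F : Subfield L :=
      { carrier := {x | ∃ p q : S, (q : L) ≠ 0 ∧ x = (p : L) / (q : L)}
        mul_mem' := by
          rintro x y ⟨p, q, hq, rfl⟩ ⟨p', q', hq', rfl⟩
          exact ⟨p * p', q * q', mul_ne_zero hq hq', by push_cast; field_simp⟩
        one_mem' := ⟨1, 1, by simp, by simp⟩
        add_mem' := by
          rintro x y ⟨p, q, hq, rfl⟩ ⟨p', q', hq', rfl⟩
          exact ⟨p * q' + q * p', q * q', mul_ne_zero hq hq', by push_cast; field_simp⟩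
        zero_mem' := ⟨0, 1, by simp, by simp⟩
        neg_mem' := by
          rintro x ⟨p, q, hq, rfl⟩
          exact ⟨-p, q, hq, by push_cast; ring⟩
        inv_mem' := by
          rintro x ⟨p, q, hq, rfl⟩
          rcases eq_or_ne (p : L) 0 with hp | hp
          · exact ⟨0, 1, by simp, by simp [hp]⟩
          · exact ⟨q, p, hp, inv_div _ _⟩ }
    suffices IntermediateField.adjoin K ((fun a : A => (a : L)) '' t) ≤
        F.toIntermediateField (fun k => ?_) from this hz
    · rw [IntermediateField.adjoin_le_iff]
      rintro _ ⟨a, ha, rfl⟩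
      refine ⟨⟨d a • (a : L), Algebra.subset_adjoin ⟨a, ha, rfl⟩⟩, algebraMap R S (d a), ?_, ?_⟩
      · exact fun h => hd0 a (hinj (by rw [map_zero]; exact h))
      · show (a : L) = d a • (a : L) / algebraMap R L (d a)
        rw [Algebra.smul_def, mul_div_cancel_left₀ _ fun h => hd0 a (hinj (by rw [map_zero]; exact h))]
    · obtain ⟨r, q, rfl⟩ := IsLocalization.exists_mk'_eq (nonZeroDivisors R) k
      refine ⟨algebraMap R S r, algebraMap R S q, fun h => ?_, ?_⟩
      · exact nonZeroDivisors.coe_ne_zero q (hinj (by rw [map_zero]; exact h))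
      · show algebraMap K L _ = algebraMap R L r / algebraMap R L q
        rw [IsFractionRing.mk'_eq_div, map_div₀, ← IsScalarTower.algebraMap_apply,
          ← IsScalarTower.algebraMap_apply]
  let A' : Subalgebra S K' :=
    { carrier := {x | (x : L) ∈ A}
      mul_mem' := fun hx hy => A.mul_mem hx hy
      one_mem' := A.one_mem
      add_mem' := fun hx hy => A.add_mem hx hy
      zero_mem' := A.zero_mem
      algebraMap_mem' := fun r => hSA r.2 }
  haveI := OneDim.isNoetherianRing_subalgebra (A := S) A'
  let e : A' →+* A :=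
    { toFun := fun x => ⟨(x : K'), x.2⟩
      map_one' := rfl
      map_mul' := fun _ _ => rfl
      map_zero' := rfl
      map_add' := fun _ _ => rfl }
  exact isNoetherianRing_of_surjective A' A e fun a =>
    ⟨⟨⟨(a : L), IntermediateField.subset_adjoin K _ a.2⟩, a.2⟩, rfl⟩

theorem length_submodule_quotient_le (M : Submodule R K) {a : R} (ha : a ≠ 0) :
    Module.length R (M ⧸ LinearMap.range (LinearMap.lsmul R M a)) ≤
      Module.length R (R ⧸ Ideal.span {a}) := by
  classical
  rcases eq_or_ne M ⊥ with hM | hM
  · haveI : Subsingleton M := by rw [hM]; infer_instance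
    rw [Module.length_eq_zero]
    exact bot_le
  obtain ⟨e, heM, he0⟩ := Submodule.exists_mem_ne_zero_of_ne_bot hM
  rw [Module.length_quotient]
  refine Order.coheight_le fun l hl => ?_
  choose r hr hr' using fun i : Fin l.length =>
    SetLike.exists_of_lt (show l i.castSucc < l i.succ from l.step i)
  set N : Submodule R M := Submodule.span R (insert (⟨e, heM⟩ : M) (Set.range r)) with hN
  have hNfg : N.FG := Submodule.fg_span ((Set.finite_range r).insert _)
  haveI : Module.Finite R N := Module.Finite.iff_fg.mpr hNfg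
  letI : AddCommGroup N := N.addCommGroup
  let e' : N := ⟨⟨e, heM⟩, Submodule.subset_span (Set.mem_insert _ _)⟩
  have hreg : IsSMulRegular N a := fun x y h => by
    have : algebraMap R K a * ((x : M) : K) = algebraMap R K a * ((y : M) : K) := by
      have h' := congrArg (fun z : N => ((z : M) : K)) h
      simpa [Algebra.smul_def] using h'
    exact Subtype.ext (Subtype.ext (mul_left_cancel₀
      ((map_ne_zero_iff _ (IsFractionRing.injective R K)).mpr ha) this))
  have he : Function.Injective (fun c : R => c • e') := fun x y h => by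
    have h' := congrArg (fun z : N => ((z : M) : K)) h
    have h'' : algebraMap R K x * e = algebraMap R K y * e := by simpa [Algebra.smul_def, e'] using h'
    exact IsFractionRing.injective R K (mul_right_cancel₀ he0 h'')
  have hden : ∀ P : Submodule R M, P.FG →
      ∃ d : R, d ≠ 0 ∧ ∀ m ∈ P, ∃ c : R, d • ((m : M) : K) = c • e := by
    intro P hP
    induction P, hP using Submodule.fg_induction with
    | singleton x =>
      obtain ⟨c, s, hs⟩ := IsLocalization.exists_mk'_eq (nonZeroDivisors R) ((x : K) / e)
      refine ⟨s, nonZeroDivisors.coe_ne_zero s, fun m hm => ?_⟩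
      obtain ⟨b, rfl⟩ := Submodule.mem_span_singleton.mp hm
      refine ⟨b * c, ?_⟩
      rw [Submodule.coe_smul, Algebra.smul_def, Algebra.smul_def, Algebra.smul_def, map_mul,
        ← IsLocalization.mk'_spec' K c s, hs]
      field_simp
    | sup P₁ P₂ _ _ h₁ h₂ =>
      obtain ⟨d₁, hd₁, h₁⟩ := h₁
      obtain ⟨d₂, hd₂, h₂⟩ := h₂
      refine ⟨d₁ * d₂, mul_ne_zero hd₁ hd₂, fun m hm => ?_⟩
      obtain ⟨x, hx, y, hy, rfl⟩ := Submodule.mem_sup.mp hm
      obtain ⟨c₁, hc₁⟩ := h₁ x hx
      obtain ⟨c₂, hc₂⟩ := h₂ y hy
      refine ⟨d₂ * c₁ + d₁ * c₂, ?_⟩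
      rw [Submodule.coe_add, smul_add, mul_comm d₁ d₂, mul_smul, hc₁, mul_comm d₂ d₁, mul_smul, hc₂,
        add_smul, mul_smul, mul_smul]
  obtain ⟨d, hd, hdN⟩ := hden N hNfg
  have hfin : Module.length R (N ⧸ LinearMap.range (LinearMap.toSpanSingleton R N e')) ≠ ⊤ := by
    refine OneDim.length_quotient_ne_top_of_smul_mem (mem_nonZeroDivisors_of_ne_zero hd) fun m => ?_
    obtain ⟨c, hc⟩ := hdN m m.2
    exact ⟨c, Subtype.ext (Subtype.ext hc.symm)⟩
  rw [← OneDim.length_quotient_smul_eq hreg he hfin, Module.length_quotient]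
  let L : LTSeries (Submodule R N) := LTSeries.mk l.length (fun i => (l i).comap N.subtype) <| by
    refine Fin.strictMono_iff_lt_succ.mpr fun i => ?_
    refine lt_of_le_of_ne (Submodule.comap_mono (show l i.castSucc < l i.succ from l.step i).le)
      fun h => hr' i ?_
    have : (⟨r i, Submodule.subset_span (Set.mem_insert_of_mem _ ⟨i, rfl⟩)⟩ : N) ∈
        (l i.succ).comap N.subtype := hr i
    rw [← h] at this
    exact this
  refine le_trans ?_ (Order.length_le_coheight (p := L) ?_)
  · rfl
  · rintro _ ⟨m, rfl⟩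
    change ((LinearMap.lsmul R N a m : N) : M) ∈ l.head
    rw [hl]
    exact ⟨(m : M), rfl⟩

theorem length_submodule_pi_quotient_le {a : R} (ha : a ≠ 0) :
    ∀ (r : ℕ) (M : Submodule R (Fin r → K)),
      Module.length R (M ⧸ LinearMap.range (LinearMap.lsmul R M a)) ≤
        r * Module.length R (R ⧸ Ideal.span {a}) := by
  intro r
  induction r with
  | zero =>
    intro M
    rw [Nat.cast_zero, zero_mul, nonpos_iff_eq_zero]
    exact Module.length_eq_zero
  | succ r ih =>
    intro M
    let p : M →ₗ[R] K := (LinearMap.proj (Fin.last r)).comp M.subtype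
    let q : (Fin (r + 1) → K) →ₗ[R] (Fin r → K) := LinearMap.funLeft R K Fin.castSucc
    let M₁ : Submodule R (Fin r → K) := (LinearMap.ker p).map (q.comp M.subtype)
    let M₂ : Submodule R K := LinearMap.range p
    let g : M₁ ≃ₗ[R] LinearMap.ker p := by
      refine (LinearEquiv.ofBijective (LinearMap.codRestrict M₁ ((q.comp M.subtype).comp
        (LinearMap.ker p).subtype) fun x => ⟨x, x.2, rfl⟩) ⟨fun x y h => ?_, ?_⟩).symm
      · have h' := congrArg Subtype.val h
        refine Subtype.ext (Subtype.ext (funext fun i => ?_))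
        induction i using Fin.lastCases with
        | last =>
          exact (x.2 : (x.1 : Fin (r + 1) → K) (Fin.last r) = 0).trans
            (y.2 : (y.1 : Fin (r + 1) → K) (Fin.last r) = 0).symm
        | cast i => exact congrFun h' i
      · rintro ⟨_, x, hx, rfl⟩
        exact ⟨⟨x, hx⟩, rfl⟩
    let i₁ : M₁ →ₗ[R] M := (LinearMap.ker p).subtype.comp g.toLinearMap
    let π : M →ₗ[R] M₂ := p.rangeRestrict
    let α := (LinearMap.range (LinearMap.lsmul R M₁ a)).mapQ (LinearMap.range (LinearMap.lsmul R M a))
      i₁ (by rintro _ ⟨x, rfl⟩; exact ⟨i₁ x, (i₁.map_smul a x).symm⟩)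
    let β := (LinearMap.range (LinearMap.lsmul R M a)).mapQ (LinearMap.range (LinearMap.lsmul R M₂ a))
      π (by rintro _ ⟨x, rfl⟩; exact ⟨π x, (π.map_smul a x).symm⟩)
    have hex : Function.Exact α β := by
      intro z
      obtain ⟨m, rfl⟩ := Submodule.mkQ_surjective _ z
      constructor
      · intro h
        obtain ⟨y, hy⟩ := (Submodule.Quotient.mk_eq_zero _).mp h
        obtain ⟨y, rfl⟩ := p.surjective_rangeRestrict y
        have hk : m - a • y ∈ LinearMap.ker p := by
          rw [LinearMap.mem_ker, map_sub, map_smul, sub_eq_zero]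
          exact (congrArg Subtype.val hy).symm
        refine ⟨Submodule.Quotient.mk (g.symm ⟨_, hk⟩), ?_⟩
        show Submodule.Quotient.mk (i₁ (g.symm ⟨_, hk⟩)) = Submodule.Quotient.mk m
        rw [Submodule.Quotient.eq]
        refine ⟨-y, ?_⟩
        simp [i₁]
      · rintro ⟨x, hx⟩
        obtain ⟨x, rfl⟩ := Submodule.mkQ_surjective _ x
        rw [← hx]
        refine (Submodule.Quotient.mk_eq_zero _).mpr ⟨0, ?_⟩
        rw [map_zero]
        exact Subtype.ext ((g x).2 : p _ = 0).symm
    have hsurj : Function.Surjective β := fun z => by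
      obtain ⟨m, rfl⟩ := Submodule.mkQ_surjective _ z
      obtain ⟨m, rfl⟩ := p.surjective_rangeRestrict m
      exact ⟨Submodule.Quotient.mk m, rfl⟩
    have hle : Module.length R (M ⧸ LinearMap.range (LinearMap.lsmul R M a)) ≤
        Module.length R (M₁ ⧸ LinearMap.range (LinearMap.lsmul R M₁ a)) +
          Module.length R (M₂ ⧸ LinearMap.range (LinearMap.lsmul R M₂ a)) := by
      rw [Module.length_eq_add_of_exact (LinearMap.range α).subtype β Subtype.val_injective hsurj
        (LinearMap.exact_iff.mpr (by rw [Submodule.range_subtype]; exact LinearMap.exact_iff.mp hex))]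
      exact add_le_add_left (Module.length_le_of_surjective α.rangeRestrict α.surjective_rangeRestrict) _
    refine hle.trans ((add_le_add (ih M₁) (length_submodule_quotient_le M₂ ha)).trans ?_)
    rw [Nat.cast_succ, add_mul, one_mul]

end Groth.Agent.RegLoc
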