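import Mathlib.RingTheory.Regular.RegularSequence
import Mathlib.Algebra.MvPolynomial.CommRing
import Mathlib.Data.Fin.Tuple.Sort
import Mathlib.Tactic.LinearCombination
import Mathlib.RingTheory.Ideal.Quotient.Operations

/-!
All permutations of a sequence are regular iff `f_i x_i` is regular in the polynomial ring.
-/

set_option autoImplicit false

universe u

namespace Groth.Agent.RegLoc.PermReg

variable {A : Type u} [CommRing A] {r : ℕ}

/-- `a` is a nonzerodivisor modulo `I`. -/
def Nzd (I : Ideal A) (a : A) : Prop := ∀ x, a * x ∈ I → x ∈ I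

theorem ofList_take_ofFn (g : Fin r → A) (i : ℕ) :
    Ideal.ofList ((List.ofFn g).take i) = Ideal.span (g '' {j | (j : ℕ) < i}) := by
  rw [Ideal.ofList]
  congr 1
  ext z
  simp only [List.mem_take_iff_getElem, List.getElem_ofFn, List.length_ofFn, Set.mem_image]
  constructor
  · rintro ⟨j, hj, rfl⟩
    exact ⟨⟨j, (lt_min_iff.mp hj).2⟩, (lt_min_iff.mp hj).1, rfl⟩
  · rintro ⟨⟨j, hjn⟩, hj, rfl⟩
    exact ⟨j, lt_min hj hjn, rfl⟩

theorem isRegular_ofFn_iff (g : Fin r → A) :
    RingTheory.Sequence.IsRegular A (List.ofFn g) ↔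
      (∀ i : Fin r, Nzd (Ideal.span (g '' {j | j < i})) (g i)) ∧ Ideal.span (Set.range g) ≠ ⊤ := by
  rw [RingTheory.Sequence.isRegular_iff, RingTheory.Sequence.isWeaklyRegular_iff]
  refine and_congr ?_ ?_
  · have key : ∀ i, (Ideal.ofList ((List.ofFn g).take i) • ⊤ : Submodule A A) =
        Ideal.span (g '' {j | (j : ℕ) < i}) := fun i => by
      rw [smul_eq_mul, Ideal.mul_top, ofList_take_ofFn]
    have hq : ∀ (I : Ideal A) (a : A), IsSMulRegular (A ⧸ I) a ↔ Nzd I a := by
      intro I a
      rw [isSMulRegular_iff_right_eq_zero_of_smul]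
      constructor
      · intro h x hx
        exact Ideal.Quotient.eq_zero_iff_mem.mp (h (Ideal.Quotient.mk I x) (by
          rw [Algebra.smul_def, Ideal.Quotient.algebraMap_eq, ← map_mul]
          exact Ideal.Quotient.eq_zero_iff_mem.mpr hx))
      · intro h x hx
        obtain ⟨x, rfl⟩ := Ideal.Quotient.mk_surjective x
        rw [Algebra.smul_def, Ideal.Quotient.algebraMap_eq, ← map_mul,
          Ideal.Quotient.eq_zero_iff_mem] at hx
        exact Ideal.Quotient.eq_zero_iff_mem.mpr (h x hx)
    simp only [List.length_ofFn, List.getElem_ofFn]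
    constructor
    · intro h i
      exact (hq _ _).mp (((Submodule.quotEquivOfEq _ _ (key i)).isSMulRegular_congr _).mp (h i i.2))
    · intro h i hi
      exact ((Submodule.quotEquivOfEq _ _ (key i)).isSMulRegular_congr _).mpr ((hq _ _).mpr (h ⟨i, hi⟩))
  · rw [ne_comm, smul_eq_mul, Ideal.mul_top, Ideal.ofList]
    refine not_congr (iff_of_eq (congrArg (· = ⊤) (congrArg Ideal.span ?_)))
    ext z
    simp [List.mem_ofFn]

/-- Exchange. -/
theorem nzd_exchange {I : Ideal A} {a b : A} (hb : Nzd (I ⊔ Ideal.span {a}) b)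
    (ha : Nzd I a) : Nzd (I ⊔ Ideal.span {b}) a := by
  intro x hx
  obtain ⟨i, hi, w, hw, hiw⟩ := Submodule.mem_sup.mp hx
  obtain ⟨y, rfl⟩ := Ideal.mem_span_singleton'.mp hw
  have hby : b * y ∈ I ⊔ Ideal.span {a} := by
    have : b * y = a * x + -i := by linear_combination hiw
    rw [this, add_comm]
    exact Submodule.add_mem_sup (I.neg_mem hi) (Ideal.mul_mem_right _ _ (Ideal.mem_span_singleton_self a))
  obtain ⟨j, hj, w', hw', hjw⟩ := Submodule.mem_sup.mp (hb y hby)
  obtain ⟨z, rfl⟩ := Ideal.mem_span_singleton'.mp hw'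
  have hxz : x - z * b ∈ I := ha _ (by
    have : a * (x - z * b) = i + j * b := by linear_combination -hiw - b * hjw
    rw [this]
    exact add_mem hi (I.mul_mem_right _ hj))
  have : x = (x - z * b) + z * b := by ring
  rw [this]
  exact Submodule.add_mem_sup hxz (Ideal.mul_mem_left _ _ (Ideal.mem_span_singleton_self b))

variable (f : Fin r → A)

/-- Only sets of smaller indices need checking. -/
theorem nzd_of_below
    (h : ∀ (k : Fin r) (E : Finset (Fin r)), (∀ i ∈ E, i < k) → Nzd (Ideal.span (f '' (E : Set (Fin r)))) (f k)) :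
    ∀ (E : Finset (Fin r)) (k : Fin r), k ∉ E → Nzd (Ideal.span (f '' (E : Set (Fin r)))) (f k) := by
  intro E
  induction E using Finset.strongInductionOn with
  | _ E ih =>
    intro k hk
    by_cases hb : ∀ i ∈ E, i < k
    · exact h k E hb
    push Not at hb
    obtain ⟨i₀, hi₀, hle⟩ := hb
    have hne : E.Nonempty := ⟨i₀, hi₀⟩
    let l := E.max' hne
    have hl : l ∈ E := E.max'_mem hne
    have hkl : k < l := lt_of_lt_of_le (lt_of_le_of_ne hle fun e => hk (e ▸ hi₀)) (E.le_max' _ hi₀)
    let E' := E.erase l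
    have h1 : Nzd (Ideal.span (f '' (E' : Set (Fin r)))) (f k) :=
      ih E' (Finset.erase_ssubset hl) k fun hk' => hk (Finset.mem_of_mem_erase hk')
    have hins : Nzd (Ideal.span (f '' (insert k E' : Finset (Fin r)))) (f l) := by
      refine h l _ fun i hi => ?_
      rcases Finset.mem_insert.mp hi with rfl | hi
      · exact hkl
      · exact lt_of_le_of_ne (E.le_max' _ (Finset.mem_of_mem_erase hi)) (Finset.ne_of_mem_erase hi)
    rw [Finset.coe_insert, Set.image_insert_eq, Ideal.span_insert, sup_comm] at hins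
    have := nzd_exchange hins h1
    rwa [← Ideal.span_singleton_mul_left_unit (isUnit_one (M := A)), one_mul, sup_comm,
      ← Ideal.span_insert, ← Set.image_insert_eq, ← Finset.coe_insert, Finset.insert_erase hl] at this

theorem perm_regular_iff_forall (hf : Ideal.span (Set.range f) ≠ ⊤) :
    (∀ σ : Equiv.Perm (Fin r), RingTheory.Sequence.IsRegular A (List.ofFn (f ∘ σ))) ↔
      ∀ (E : Finset (Fin r)) (k : Fin r), k ∉ E → Nzd (Ideal.span (f '' (E : Set (Fin r)))) (f k) := by
  classical
  constructor
  · intro h E k hk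
    let c : Fin r → ℕ := fun i => if i ∈ E then 0 else if i = k then 1 else 2
    let σ := Tuple.sort c
    have hmono : Monotone (c ∘ σ) := Tuple.monotone_sort c
    have hck : c k = 1 := by simp [c, hk]
    have h1 := ((isRegular_ofFn_iff _).mp (h σ)).1 (σ.symm k)
    have hset : (f ∘ σ) '' {j | j < σ.symm k} = f '' (E : Set (Fin r)) := by
      rw [Set.image_comp]
      congr 1
      ext i
      constructor
      · rintro ⟨j, hj, rfl⟩
        have hle : c (σ j) ≤ c (σ (σ.symm k)) := hmono (le_of_lt hj)
        rw [Equiv.apply_symm_apply, hck] at hle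
        have hne : σ j ≠ k := fun e => (ne_of_lt (show j < σ.symm k from hj)) (by rw [← e, Equiv.symm_apply_apply])
        by_contra hjE
        rw [SetLike.mem_coe] at hjE
        simp [c, hjE, hne] at hle
      · intro hi
        refine ⟨σ.symm i, ?_, σ.apply_symm_apply i⟩
        show σ.symm i < σ.symm k
        by_contra hle
        have h2 : c (σ (σ.symm k)) ≤ c (σ (σ.symm i)) := hmono (not_lt.mp hle)
        rw [Equiv.apply_symm_apply, Equiv.apply_symm_apply, hck] at h2
        simp [c, SetLike.mem_coe.mp hi] at h2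
    rw [hset, Function.comp_apply, Equiv.apply_symm_apply] at h1
    exact h1
  · intro h σ
    rw [isRegular_ofFn_iff, EquivLike.range_comp f σ]
    refine ⟨fun i => ?_, hf⟩
    have := h ((Finset.univ.filter (· < i)).image σ) (σ i) (by simp)
    have hset : f '' ((((Finset.univ.filter (· < i)).image σ) : Finset (Fin r)) : Set (Fin r)) =
        (f ∘ σ) '' {j | j < i} := by
      rw [Finset.coe_image, Set.image_comp]
      simp
    rw [hset] at this
    exact this

open MvPolynomial in
theorem mem_span_C_mul_X_iff (T : Set (Fin r)) (P : MvPolynomial (Fin r) A) :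
    P ∈ Ideal.span ((fun i => C (f i) * X i) '' T) ↔
      ∀ e : Fin r →₀ ℕ, P.coeff e ∈ Ideal.span (f '' {i | i ∈ T ∧ 1 ≤ e i}) := by
  classical
  constructor
  · intro hP
    induction hP using Submodule.span_induction with
    | mem y hy =>
      obtain ⟨i, hi, rfl⟩ := hy
      intro e
      rw [coeff_C_mul, coeff_X']
      split_ifs with he
      · subst he
        rw [mul_one]
        exact Ideal.subset_span ⟨i, ⟨hi, by simp⟩, rfl⟩
      · rw [mul_zero]; exact zero_mem _
    | zero => intro e; simp
    | add a b _ _ ha hb => intro e; rw [coeff_add]; exact add_mem (ha e) (hb e)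
    | smul c a _ ha =>
      intro e
      rw [smul_eq_mul, coeff_mul]
      refine Ideal.sum_mem _ fun x hx => Ideal.mul_mem_left _ _ ?_
      refine Ideal.span_mono (Set.image_mono ?_) (ha x.2)
      rintro i ⟨hiT, hi⟩
      refine ⟨hiT, le_trans hi ?_⟩
      rw [← Finset.mem_antidiagonal.mp hx]
      simp
  · intro h
    rw [P.as_sum]
    refine Ideal.sum_mem _ fun e _ => ?_
    suffices ∀ c ∈ Ideal.span (f '' {i | i ∈ T ∧ 1 ≤ e i}),
        monomial e c ∈ Ideal.span ((fun i => C (f i) * X i) '' T) from this _ (h e)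
    intro c hc
    induction hc using Submodule.span_induction with
    | mem y hy =>
      obtain ⟨i, ⟨hiT, hi⟩, rfl⟩ := hy
      have : monomial e (f i) = monomial (e - Finsupp.single i 1) 1 * (C (f i) * X i) := by
        rw [C_mul_X_eq_monomial, monomial_mul, one_mul, tsub_add_cancel_of_le]
        exact Finsupp.single_le_iff.mpr hi
      rw [this]
      exact Ideal.mul_mem_left _ _ (Ideal.subset_span ⟨i, hiT, rfl⟩)
    | zero => simp
    | add a b _ _ ha hb => rw [map_add]; exact add_mem ha hb
    | smul c a _ ha =>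
      rw [smul_eq_mul, ← C_mul_monomial]
      exact Ideal.mul_mem_left _ _ ha

open MvPolynomial in
theorem poly_regular_iff (hf : Ideal.span (Set.range f) ≠ ⊤) :
    RingTheory.Sequence.IsRegular (MvPolynomial (Fin r) A)
        (List.ofFn fun i => C (f i) * X i) ↔
      ∀ (E : Finset (Fin r)) (k : Fin r), k ∉ E → Nzd (Ideal.span (f '' (E : Set (Fin r)))) (f k) := by
  classical
  rw [isRegular_ofFn_iff]
  constructor
  · rintro ⟨h, -⟩
    refine nzd_of_below f fun k E hE x hx => ?_
    let e : Fin r →₀ ℕ := ∑ i ∈ E, Finsupp.single i 1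
    have he : ∀ i, e i = if i ∈ E then 1 else 0 := fun i => by
      simp [e, Finsupp.finset_sum_apply, Finsupp.single_apply]
    have hmem : (C (f k) * X k) * monomial e x ∈
        Ideal.span ((fun i => C (f i) * X i) '' {j | j < k}) := by
      rw [mem_span_C_mul_X_iff]
      intro e'
      rw [C_mul_X_eq_monomial, monomial_mul, coeff_monomial]
      split_ifs with h'
      · subst h'
        refine Ideal.span_mono (Set.image_mono ?_) hx
        intro i hi
        refine ⟨hE i hi, ?_⟩
        rw [Finsupp.add_apply, he, if_pos (Finset.mem_coe.mp hi)]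
        exact Nat.le_add_left 1 _
      · exact zero_mem _
    have h2 := (mem_span_C_mul_X_iff f _ _).mp (h k _ hmem) e
    rw [coeff_monomial, if_pos rfl] at h2
    refine Ideal.span_mono (Set.image_mono ?_) h2
    rintro i ⟨-, hi⟩
    by_contra hn
    rw [he, if_neg (fun h' => hn (Finset.mem_coe.mpr h'))] at hi
    exact absurd hi (by norm_num)
  · intro h
    refine ⟨fun k P hP => ?_, fun htop => ?_⟩
    · rw [mem_span_C_mul_X_iff] at hP ⊢
      intro e
      have h2 := hP (e + Finsupp.single k 1)
      rw [mul_assoc, coeff_C_mul, coeff_X_mul', if_pos (by simp), add_tsub_cancel_right] at h2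
      let E : Finset (Fin r) := Finset.univ.filter fun i => i < k ∧ 1 ≤ e i
      have hset : {i | i ∈ {j | j < k} ∧ 1 ≤ (e + Finsupp.single k 1 : Fin r →₀ ℕ) i} = (E : Set (Fin r)) := by
        ext i
        simp only [E, Finset.coe_filter, Finset.mem_univ, true_and, Set.mem_setOf_eq]
        refine and_congr_right fun hik => ?_
        simp [Finsupp.single_apply, ne_of_gt hik]
      have hset' : {i | i ∈ {j | j < k} ∧ 1 ≤ e i} = (E : Set (Fin r)) := by
        ext i; simp [E]
      rw [hset] at h2
      rw [hset']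
      exact h E k (by simp [E]) _ h2
    · apply hf
      rw [Ideal.eq_top_iff_one]
      have h1 : (1 : MvPolynomial (Fin r) A) ∈ Ideal.span ((fun i => C (f i) * X i) '' Set.univ) := by
        rw [Set.image_univ, htop]; trivial
      have := (mem_span_C_mul_X_iff f _ _).mp h1 0
      simp at this
      rw [this]; exact zero_mem _

end Groth.Agent.RegLoc.PermReg
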