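import Mathlib.RingTheory.Smooth.Basic
import Mathlib.RingTheory.AdicCompletion.RingHom
import Mathlib.RingTheory.MvPowerSeries.Equiv
import Mathlib.RingTheory.OrzechProperty
import Mathlib.RingTheory.Ideal.Cotangent
import Mathlib.RingTheory.MvPolynomial.Ideal

/-!
Completion of a smooth algebra along a section is a power series ring.
-/

set_option autoImplicit false
set_option linter.style.haveILetI false

open MvPolynomial

universe u

namespace Groth.Agent.RegLoc

variable {R : Type u} [CommRing R] {d : ℕ}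

section
variable {S : Type u} [CommRing S] [Algebra R S]

theorem pow_le_span_pow_sup {I : Ideal S} {X : Ideal S} (hI : I = X ⊔ I ^ 2) (j : ℕ) :
    I ^ j ≤ X ^ j ⊔ I ^ (j + 1) := by
  induction j with
  | zero => simp
  | succ j ih =>
    have hX : X ≤ I := hI ▸ le_sup_left
    calc I ^ (j + 1) = I * I ^ j := pow_succ' I j
      _ ≤ (X ⊔ I ^ 2) * (X ^ j ⊔ I ^ (j + 1)) := Ideal.mul_mono hI.le ih
      _ ≤ _ := by
        rw [Ideal.sup_mul, Ideal.mul_sup, Ideal.mul_sup, ← pow_succ', ← pow_add]
        refine sup_le (sup_le le_sup_left ?_) (sup_le ?_ ?_)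
        · exact le_sup_of_le_right ((Ideal.mul_mono_left hX).trans (pow_succ' I (j + 1)).ge)
        · refine le_sup_of_le_right ((Ideal.mul_mono_right (Ideal.pow_right_mono hX j)).trans ?_)
          rw [← pow_add]
          exact Ideal.pow_le_pow_right (by omega)
        · exact le_sup_of_le_right (Ideal.pow_le_pow_right (by omega))

theorem exists_sub_aeval_mem_pow (σ : S →ₐ[R] R) (x : Fin d → S)
    (hI : RingHom.ker σ.toRingHom = Ideal.span (Set.range x) ⊔ RingHom.ker σ.toRingHom ^ 2)
    (s : S) (j : ℕ) :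
    ∃ b : MvPolynomial (Fin d) R, s - aeval x b ∈ RingHom.ker σ.toRingHom ^ j := by
  classical
  induction j with
  | zero => exact ⟨0, by simp⟩
  | succ j ih =>
    obtain ⟨b, hb⟩ := ih
    obtain ⟨y, hy, z, hz, hyz⟩ := Submodule.mem_sup.mp (pow_le_span_pow_sup hI j hb)
    obtain ⟨P, hP, rfl⟩ := (Ideal.mem_span_pow_iff_exists_isHomogeneous x y).mp hy
    refine ⟨b + MvPolynomial.map σ.toRingHom P, ?_⟩
    have h2 : eval x P - aeval x (MvPolynomial.map σ.toRingHom P) ∈
        RingHom.ker σ.toRingHom ^ (j + 1) := by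
      rw [aeval_def, eval₂_map, eval_eq', eval₂_eq', ← Finset.sum_sub_distrib]
      refine Ideal.sum_mem _ fun m hm => ?_
      rw [← sub_mul, pow_succ']
      refine Ideal.mul_mem_mul ?_ ?_
      · simp [RingHom.mem_ker]
      · refine Ideal.pow_right_mono (hI ▸ le_sup_left : Ideal.span (Set.range x) ≤ _) j ?_
        have hmd : ∑ i, m i = j := by
          rw [← Finsupp.degree_eq_sum]
          by_contra hne
          exact mem_support_iff.mp hm (hP.coeff_eq_zero hne)
        rw [← hmd, ← Finset.prod_pow_eq_pow_sum]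
        exact Ideal.prod_mem_prod fun i _ =>
          Ideal.pow_mem_pow (Ideal.subset_span (Set.mem_range_self i) : x i ∈ Ideal.span (Set.range x)) _
    have h3 : s - aeval x (b + MvPolynomial.map σ.toRingHom P) =
        z + (eval x P - aeval x (MvPolynomial.map σ.toRingHom P)) := by
      rw [map_add]; linear_combination -hyz
    rw [h3]
    exact Ideal.add_mem _ hz h2

end

theorem mk_aeval_surjective {S : Type u} [CommRing S] [Algebra R S] (σ : S →ₐ[R] R) (x : Fin d → S)
    (hI : RingHom.ker σ.toRingHom = Ideal.span (Set.range x) ⊔ RingHom.ker σ.toRingHom ^ 2) (n : ℕ) :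
    Function.Surjective ((Ideal.Quotient.mkₐ R (RingHom.ker σ.toRingHom ^ n)).comp (aeval x)) := by
  intro z
  obtain ⟨s, rfl⟩ := Ideal.Quotient.mk_surjective z
  obtain ⟨b, hb⟩ := exists_sub_aeval_mem_pow σ x hI s n
  exact ⟨b, (Ideal.Quotient.eq.mpr hb).symm⟩

theorem factor_evalₐ {A : Type u} [CommRing A] (J : Ideal A) {k n : ℕ} (hle : k ≤ n)
    (z : AdicCompletion J A) :
    Ideal.Quotient.factor (Ideal.pow_le_pow_right hle) (AdicCompletion.evalₐ J n z) =
      AdicCompletion.evalₐ J k z := by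
  induction z using AdicCompletion.induction_on with
  | h a =>
    rw [AdicCompletion.evalₐ_mk, AdicCompletion.evalₐ_mk, Ideal.Quotient.factor_mk, Ideal.Quotient.eq]
    have := SModEq.sub_mem.mp (a.property hle).symm
    simpa [Ideal.mul_top] using this

variable {S : Type u} [CommRing S] [Algebra R S] [Algebra.FormallySmooth R S]

/-- The map `R[X]/(X)ⁿ → S/Iⁿ`. -/
noncomputable def truncMap (σ : S →ₐ[R] R) (x : Fin d → S) (hx : ∀ i, σ (x i) = 0) (n : ℕ) :
    MvPolynomial (Fin d) R ⧸ idealOfVars (Fin d) R ^ n →ₐ[R] S ⧸ RingHom.ker σ.toRingHom ^ n :=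
  Ideal.quotientMapₐ _ (aeval x) (by
    refine Ideal.map_le_iff_le_comap.mp ?_
    rw [Ideal.map_pow]
    refine Ideal.pow_right_mono ?_ n
    rw [idealOfVars, Ideal.map_span, Ideal.span_le]
    rintro _ ⟨_, ⟨i, rfl⟩, rfl⟩
    simpa [RingHom.mem_ker] using hx i)

theorem truncMap_bijective (σ : S →ₐ[R] R)
    (e : (RingHom.ker σ.toRingHom).Cotangent ≃ₗ[R] (Fin d → R))
    (x : Fin d → S) (hx : ∀ i, σ (x i) = 0)
    (hxe : ∀ i, e ((RingHom.ker σ.toRingHom).toCotangent ⟨x i, hx i⟩) = Pi.single i 1) (n : ℕ) :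
    Function.Bijective (truncMap σ x hx n) := by
  classical
  let I := RingHom.ker σ.toRingHom
  let B := MvPolynomial (Fin d) R
  let m : Ideal B := idealOfVars (Fin d) R
  have hI : I = Ideal.span (Set.range x) ⊔ I ^ 2 := by
    refine le_antisymm (fun y hy => ?_) (sup_le ?_ (Ideal.pow_le_self two_ne_zero))
    · let r := e (I.toCotangent ⟨y, hy⟩)
      have h : I.toCotangent ⟨y, hy⟩ = I.toCotangent (∑ i, r i • (⟨x i, hx i⟩ : I)) := by
        apply e.injective
        rw [map_sum, map_sum]
        conv_lhs => rw [pi_eq_sum_univ' (e (I.toCotangent ⟨y, hy⟩))]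
        refine Finset.sum_congr rfl fun i _ => ?_
        rw [LinearMap.map_smul_of_tower, map_smul, hxe]
      rw [Ideal.toCotangent_eq] at h
      refine Submodule.mem_sup.mpr ⟨_, ?_, _, h, add_sub_cancel _ _⟩
      rw [Submodule.coe_sum]
      exact Ideal.sum_mem _ fun i _ => by
        rw [Submodule.coe_smul_of_tower, Algebra.smul_def]
        exact Ideal.mul_mem_left _ _ (Ideal.subset_span (Set.mem_range_self i))
    · rw [Ideal.span_le]
      rintro _ ⟨i, rfl⟩
      exact hx i
  refine ⟨?_, fun z => ?_⟩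
  swap
  · obtain ⟨b, hb⟩ := mk_aeval_surjective σ x hI n z
    exact ⟨Ideal.Quotient.mk _ b, hb⟩
  rcases Nat.lt_or_ge n 2 with hn | hn
  · -- degree at most one: compose with the retraction
    interval_cases n
    · intro a b _
      haveI : Subsingleton (B ⧸ m ^ 0) := Ideal.Quotient.subsingleton_iff.mpr (by simp [Ideal.one_eq_top])
      exact Subsingleton.elim a b
    · rw [injective_iff_map_eq_zero]
      intro a ha
      obtain ⟨a, rfl⟩ := Ideal.Quotient.mk_surjective a
      have ha' : aeval x a ∈ I ^ 1 := Ideal.Quotient.eq_zero_iff_mem.mp ha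
      rw [pow_one] at ha'
      rw [Ideal.Quotient.eq_zero_iff_mem, mem_pow_idealOfVars_iff']
      intro t ht
      obtain rfl : t = 0 := (Finsupp.degree_eq_zero_iff t).mp (by omega)
      have h1 : σ (aeval x a) = a.coeff 0 := by
        rw [← AlgHom.comp_apply, comp_aeval, show (fun i => σ (x i)) = fun _ => (0 : R) from funext hx]
        show aeval (0 : Fin d → R) a = _
        rw [aeval_zero]
        rfl
      rw [← h1]
      exact ha'
  -- the square-zero map to `R[X]/(X)²`
  let mk2 := Ideal.Quotient.mkₐ R (m ^ 2)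
  let L : (Fin d → R) →ₗ[R] B ⧸ m ^ 2 := Fintype.linearCombination R (fun i => mk2 (X i))
  have hL2 : ∀ u v, L u * L v = 0 := fun u v => by
    simp only [L, Fintype.linearCombination_apply, Finset.sum_mul_sum]
    refine Finset.sum_eq_zero fun i _ => Finset.sum_eq_zero fun j _ => ?_
    rw [smul_mul_smul_comm, ← map_mul]
    have : mk2 (X i * X j) = 0 := Ideal.Quotient.eq_zero_iff_mem.mpr (pow_two m ▸
      Ideal.mul_mem_mul (Ideal.subset_span ⟨i, rfl⟩) (Ideal.subset_span ⟨j, rfl⟩))
    rw [this, smul_zero]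
  have hsub : ∀ s : S, s - algebraMap R S (σ s) ∈ I := fun s => by simp [I, RingHom.mem_ker]
  let δ : S →ₗ[R] (Fin d → R) :=
    e.toLinearMap.comp ((I.toCotangent.restrictScalars R).comp
      (LinearMap.codRestrict (I.restrictScalars R)
        (LinearMap.id - (Algebra.linearMap R S).comp σ.toLinearMap) hsub))
  have hδ : ∀ s, δ s = e (I.toCotangent ⟨_, hsub s⟩) := fun s => rfl
  have hδmul : ∀ s t, δ (s * t) = σ s • δ t + σ t • δ s := by
    intro s t
    rw [hδ, hδ, hδ, ← e.map_smul, ← e.map_smul, ← e.map_add]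
    congr 1
    rw [← algebraMap_smul S (σ s) (I.toCotangent ⟨_, hsub t⟩),
      ← algebraMap_smul S (σ t) (I.toCotangent ⟨_, hsub s⟩), ← map_smul, ← map_smul, ← map_add,
      Ideal.toCotangent_eq]
    simp only [Submodule.coe_add, Submodule.coe_smul, smul_eq_mul, map_mul]
    have h := Ideal.mul_mem_mul (hsub s) (hsub t)
    rw [← pow_two] at h
    convert h using 1
    ring
  let ψ₂ : S →ₐ[R] B ⧸ m ^ 2 :=
    AlgHom.ofLinearMap ((Algebra.linearMap R _).comp σ.toLinearMap + L.comp δ)
      (by
        have h1 : δ 1 = 0 := by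
          have := hδmul 1 1
          simpa using this
        simp [h1])
      (fun s t => by
        simp only [LinearMap.add_apply, LinearMap.comp_apply, Algebra.linearMap_apply,
          AlgHom.toLinearMap_apply, hδmul, map_add, map_smul]
        rw [map_mul, map_mul]
        simp only [Algebra.smul_def]
        linear_combination -(hL2 (δ s) (δ t)))
  have hψ₂x : ∀ i, ψ₂ (x i) = mk2 (X i) := by
    intro i
    have hd' : δ (x i) = Pi.single i 1 := by
      rw [hδ, ← hxe i]
      congr 2
      exact Subtype.ext (by simp [hx i])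
    show algebraMap R _ (σ (x i)) + L (δ (x i)) = _
    rw [hd', hx i, map_zero, zero_add]
    simp [L, Fintype.linearCombination_apply, Pi.single_apply]
  -- lift to `R[X]/(X)ⁿ`
  have hle : m ^ n ≤ m ^ 2 := Ideal.pow_le_pow_right hn
  let p : B ⧸ m ^ n →ₐ[R] B ⧸ m ^ 2 := Ideal.Quotient.factorₐ R hle
  have hp : Function.Surjective p := Ideal.Quotient.factor_surjective hle
  have hnil : IsNilpotent (RingHom.ker (p : B ⧸ m ^ n →+* B ⧸ m ^ 2)) := by
    refine ⟨n, ?_⟩
    have hker : RingHom.ker (p : B ⧸ m ^ n →+* B ⧸ m ^ 2) ≤ (m ^ 2).map (Ideal.Quotient.mk (m ^ n)) := by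
      intro y hy
      obtain ⟨y, rfl⟩ := Ideal.Quotient.mk_surjective y
      exact Ideal.mem_map_of_mem _ (Ideal.Quotient.eq_zero_iff_mem.mp hy)
    refine le_bot_iff.mp ((Ideal.pow_right_mono hker n).trans ?_)
    rw [← Ideal.map_pow, ← pow_mul, Ideal.map_le_iff_le_comap, ← RingHom.ker_eq_comap_bot, Ideal.mk_ker]
    exact Ideal.pow_le_pow_right (by omega)
  let ψ : S →ₐ[R] B ⧸ m ^ n := Algebra.FormallySmooth.liftOfSurjective ψ₂ p hp hnil
  have hψ : ∀ s, p (ψ s) = ψ₂ s := Algebra.FormallySmooth.liftOfSurjective_apply ψ₂ p hp hnil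
  -- `ψ` descends to `S/Iⁿ`
  have hψI : I ^ n ≤ RingHom.ker ψ.toRingHom := by
    have h1 : I.map ψ.toRingHom ≤ m.map (Ideal.Quotient.mk (m ^ n)) := by
      rw [Ideal.map_le_iff_le_comap]
      intro s hs
      obtain ⟨y, hy⟩ := Ideal.Quotient.mk_surjective (ψ s)
      have h2 : mk2 y = L (δ s) := by
        have := hψ s
        rw [← hy] at this
        refine this.trans ?_
        show algebraMap R _ (σ s) + L (δ s) = _
        rw [show σ s = 0 from hs, map_zero, zero_add]
      have h3 : y ∈ m := by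
        obtain ⟨w, hw, hwL⟩ : ∃ w ∈ m, mk2 w = L (δ s) :=
          ⟨∑ i, δ s i • X i, Ideal.sum_mem _ fun i _ => by
            rw [Algebra.smul_def]
            exact Ideal.mul_mem_left _ _ (Ideal.subset_span ⟨i, rfl⟩), by
            simp [L, Fintype.linearCombination_apply, map_sum]⟩
        have h4 : y - w ∈ m ^ 2 := Ideal.Quotient.eq.mp (h2.trans hwL.symm)
        have := m.add_mem (Ideal.pow_le_self two_ne_zero h4) hw
        rwa [sub_add_cancel] at this
      rw [Ideal.mem_comap, AlgHom.toRingHom_eq_coe, RingHom.coe_coe]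
      rw [← hy]
      exact Ideal.mem_map_of_mem _ h3
    rw [← Ideal.map_eq_bot_iff_le_ker, Ideal.map_pow]
    refine le_bot_iff.mp ((Ideal.pow_right_mono h1 n).trans ?_)
    rw [← Ideal.map_pow, Ideal.map_quotient_self]
  let ψ' : S ⧸ I ^ n →ₐ[R] B ⧸ m ^ n := Ideal.Quotient.liftₐ _ ψ fun s hs => hψI hs
  let θ : B ⧸ m ^ n →ₐ[R] B ⧸ m ^ n := ψ'.comp (truncMap σ x hx n)
  choose y hy using fun i => Ideal.Quotient.mk_surjective (ψ (x i))
  have hθ : ∀ b : B, θ (Ideal.Quotient.mk _ b) = Ideal.Quotient.mk _ (aeval y b) := by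
    intro b
    have : (θ.comp (Ideal.Quotient.mkₐ R (m ^ n))) = (Ideal.Quotient.mkₐ R (m ^ n)).comp (aeval y) := by
      refine MvPolynomial.algHom_ext fun i => ?_
      simp only [AlgHom.comp_apply, Ideal.Quotient.mkₐ_eq_mk, aeval_X]
      rw [hy i]
      show ψ' (Ideal.Quotient.mk _ (aeval x (X i))) = _
      rw [aeval_X]
      rfl
    exact AlgHom.congr_fun this b
  let σ0 : B →ₐ[R] R := aeval (0 : Fin d → R)
  have hker : RingHom.ker σ0.toRingHom = m := by
    ext b
    rw [RingHom.mem_ker, ← pow_one m, mem_pow_idealOfVars_iff']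
    show aeval (0 : Fin d → R) b = 0 ↔ _
    rw [aeval_zero]
    constructor
    · intro hb t ht
      obtain rfl : t = 0 := (Finsupp.degree_eq_zero_iff t).mp (by omega)
      simpa [constantCoeff_eq] using hb
    · intro h
      simpa [constantCoeff_eq] using h 0 (by simp)
  have hyX : ∀ i, y i - X i ∈ m ^ 2 := by
    intro i
    have h1 := hψ (x i)
    rw [← hy i, hψ₂x i] at h1
    exact Ideal.Quotient.eq.mp h1
  have hmy : RingHom.ker σ0.toRingHom = Ideal.span (Set.range y) ⊔ RingHom.ker σ0.toRingHom ^ 2 := by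
    rw [hker]
    refine le_antisymm ?_ (sup_le ?_ (Ideal.pow_le_self two_ne_zero))
    · show Ideal.span _ ≤ _
      rw [Ideal.span_le]
      rintro _ ⟨i, rfl⟩
      exact Submodule.mem_sup.mpr ⟨y i, Ideal.subset_span ⟨i, rfl⟩, _, Submodule.neg_mem _ (hyX i),
        by abel⟩
    · rw [Ideal.span_le]
      rintro _ ⟨i, rfl⟩
      have := m.add_mem (Ideal.pow_le_self two_ne_zero (hyX i))
        (Ideal.subset_span (s := Set.range (X : Fin d → B)) ⟨i, rfl⟩)
      rwa [sub_add_cancel] at this
  have hθs : Function.Surjective θ := by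
    intro z
    obtain ⟨w, rfl⟩ := Ideal.Quotient.mk_surjective z
    obtain ⟨b, hb⟩ := exists_sub_aeval_mem_pow σ0 y hmy w n
    rw [hker] at hb
    exact ⟨Ideal.Quotient.mk _ b, (hθ b).trans (Ideal.Quotient.eq.mpr hb).symm⟩
  haveI : Module.Finite R (B ⧸ m ^ n) := by
    refine ⟨⟨((Finset.range n).biUnion fun k =>
      (Finset.univ : Finset (Fin d)).finsuppAntidiag k).image fun t => Ideal.Quotient.mk (m ^ n) (monomial t 1),
      ?_⟩⟩
    refine top_le_iff.mp fun z _ => ?_
    obtain ⟨b, rfl⟩ := Ideal.Quotient.mk_surjective z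
    rw [b.as_sum, map_sum]
    refine Submodule.sum_mem _ fun t _ => ?_
    rw [← mul_one (b.coeff t), ← smul_eq_mul, ← smul_monomial, ← Ideal.Quotient.mkₐ_eq_mk R, map_smul]
    by_cases ht : t.degree < n
    · refine Submodule.smul_mem _ _ (Submodule.subset_span ?_)
      simp only [Finset.coe_image, Set.mem_image, Finset.mem_coe, Finset.mem_biUnion]
      refine ⟨t, ⟨t.degree, Finset.mem_range.mpr ht, ?_⟩, rfl⟩
      rw [Finset.mem_finsuppAntidiag]
      exact ⟨(Finsupp.degree_eq_sum t).symm, Finset.subset_univ _⟩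
    · rw [Ideal.Quotient.mkₐ_eq_mk, (Ideal.Quotient.eq_zero_iff_mem (I := m ^ n)).mpr, smul_zero]
      · exact Submodule.zero_mem _
      · rw [mem_pow_idealOfVars_iff']
        intro t' ht'
        rw [coeff_monomial, if_neg]
        rintro rfl
        exact ht ht'
  have hinj := OrzechProperty.injective_of_surjective_endomorphism θ.toLinearMap hθs
  exact Function.Injective.of_comp hinj

/-- The completion along the section is the power series ring. -/
theorem nonempty_adicCompletion_algEquiv (σ : S →ₐ[R] R)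
    (e : (RingHom.ker σ.toRingHom).Cotangent ≃ₗ[R] (Fin d → R)) :
    Nonempty (AdicCompletion (RingHom.ker σ.toRingHom) S ≃ₐ[R] MvPowerSeries (Fin d) R) := by
  classical
  let I := RingHom.ker σ.toRingHom
  let B := MvPolynomial (Fin d) R
  let m : Ideal B := idealOfVars (Fin d) R
  choose x' hx' using fun i => I.toCotangent_surjective (e.symm (Pi.single i 1))
  let x : Fin d → S := fun i => x' i
  have hx : ∀ i, σ (x i) = 0 := fun i => (x' i).2
  have hb := truncMap_bijective σ e x hx (fun i => by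
    show e (I.toCotangent (x' i)) = _
    rw [hx' i, e.apply_symm_apply])
  let q : ∀ n, (B ⧸ m ^ n) ≃ₐ[R] S ⧸ I ^ n := fun n => AlgEquiv.ofBijective (truncMap σ x hx n) (hb n)
  have hnat : ∀ {k n : ℕ} (hle : k ≤ n) (z : B ⧸ m ^ n),
      Ideal.Quotient.factorₐ R (Ideal.pow_le_pow_right hle) (q n z) =
        q k (Ideal.Quotient.factorₐ R (Ideal.pow_le_pow_right hle) z) := by
    intro k n hle z
    obtain ⟨z, rfl⟩ := Ideal.Quotient.mk_surjective z
    rfl
  let ev := fun n => (AdicCompletion.evalₐ m n).restrictScalars R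
  let ev' := fun n => (AdicCompletion.evalₐ I n).restrictScalars R
  have hev : ∀ {k n : ℕ} (hle : k ≤ n) (z : AdicCompletion m B),
      Ideal.Quotient.factorₐ R (Ideal.pow_le_pow_right hle) (ev n z) = ev k z :=
    fun hle z => factor_evalₐ m hle z
  have hev' : ∀ {k n : ℕ} (hle : k ≤ n) (z : AdicCompletion I S),
      Ideal.Quotient.factorₐ R (Ideal.pow_le_pow_right hle) (ev' n z) = ev' k z :=
    fun hle z => factor_evalₐ I hle z
  let F : AdicCompletion m B →ₐ[R] AdicCompletion I S :=
    AdicCompletion.liftAlgHom I (fun n => (q n).toAlgHom.comp (ev n)) fun hle =>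
      AlgHom.ext fun z => (hnat hle _).trans (congrArg _ (hev hle z))
  let G : AdicCompletion I S →ₐ[R] AdicCompletion m B :=
    AdicCompletion.liftAlgHom m (fun n => (q n).symm.toAlgHom.comp (ev' n)) fun {k n} hle =>
      AlgHom.ext fun z => by
        apply (q k).injective
        show q k (Ideal.Quotient.factorₐ R (Ideal.pow_le_pow_right hle) ((q n).symm (ev' n z))) =
          q k ((q k).symm (ev' k z))
        rw [← hnat hle, AlgEquiv.apply_symm_apply, AlgEquiv.apply_symm_apply]
        exact hev' hle z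
  have hFG : ∀ z, F (G z) = z := fun z => AdicCompletion.ext_evalₐ fun n => by
    rw [AdicCompletion.evalₐ_liftAlgHom]
    show q n (AdicCompletion.evalₐ m n (G z)) = _
    rw [AdicCompletion.evalₐ_liftAlgHom]
    exact (q n).apply_symm_apply _
  have hGF : ∀ z, G (F z) = z := fun z => AdicCompletion.ext_evalₐ fun n => by
    rw [AdicCompletion.evalₐ_liftAlgHom]
    show (q n).symm (AdicCompletion.evalₐ I n (F z)) = _
    rw [AdicCompletion.evalₐ_liftAlgHom]
    exact (q n).symm_apply_apply _
  exact ⟨(AlgEquiv.ofAlgHom G F (AlgHom.ext hGF) (AlgHom.ext hFG)).trans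
    ((MvPowerSeries.toAdicCompletionAlgEquiv (Fin d) R).symm.restrictScalars R)⟩

end Groth.Agent.RegLoc
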