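import Mathlib.RingTheory.Filtration
import Mathlib.RingTheory.Finiteness.Basic
import Mathlib.RingTheory.Noetherian.Basic
import Mathlib.LinearAlgebra.Pi
import Mathlib.LinearAlgebra.StdBasis
import Mathlib.RingTheory.Finiteness.Cardinality

/-!
A map of finite modules split modulo arbitrarily high powers of an ideal is split.
-/

set_option autoImplicit false

universe u

namespace Groth.Agent.RegLoc

variable {R : Type u} [CommRing R]

/-- Coordinatewise membership in `J • ⊤`. -/
theorem mem_smul_top_pi {M : Type u} [AddCommGroup M] [Module R M] {a : ℕ} (J : Ideal R)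
    (v : Fin a → M) (h : ∀ i, v i ∈ (J • ⊤ : Submodule R M)) :
    v ∈ (J • ⊤ : Submodule R (Fin a → M)) := by
  classical
  rw [← Finset.univ_sum_single v]
  refine Submodule.sum_mem _ fun i _ => ?_
  have := Submodule.mem_map_of_mem (f := LinearMap.single R (fun _ : Fin a => M) i) (h i)
  rw [Submodule.map_smul''] at this
  exact Submodule.smul_mono le_rfl le_top this

theorem apply_mem_smul_top_pi {M : Type u} [AddCommGroup M] [Module R M] {a : ℕ} (J : Ideal R)
    (v : Fin a → M) (h : v ∈ (J • ⊤ : Submodule R (Fin a → M))) (i : Fin a) :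
    v i ∈ (J • ⊤ : Submodule R M) := by
  have := Submodule.mem_map_of_mem (f := LinearMap.proj (φ := fun _ : Fin a => M) i) h
  rw [Submodule.map_smul''] at this
  exact Submodule.smul_mono le_rfl le_top this

theorem exists_leftInverse_of_forall_mod_pow [IsNoetherianRing R] {M N : Type u} (I : Ideal R)
    (hI : I ≤ (⊥ : Ideal R).jacobson) [AddCommGroup M] [Module R M] [Module.Finite R M]
    [AddCommGroup N] [Module R N] [Module.Finite R N] (u : N →ₗ[R] M)
    (h : ∀ n₀ : ℕ, ∃ n, n₀ ≤ n ∧ ∃ s : (M ⧸ (I ^ n) • (⊤ : Submodule R M)) →ₗ[R] (N ⧸ (I ^ n) • (⊤ : Submodule R N)),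
      ∀ x : N, s (Submodule.Quotient.mk (u x)) = Submodule.Quotient.mk x) :
    ∃ s : M →ₗ[R] N, s.comp u = LinearMap.id := by
  classical
  obtain ⟨a, π, hπ⟩ := Module.Finite.exists_fin' R M
  obtain ⟨b, rel, hrel⟩ :=
    Submodule.fg_iff_exists_fin_generating_family.mp (IsNoetherian.noetherian (LinearMap.ker π))
  obtain ⟨c, g, hg⟩ := Submodule.fg_iff_exists_fin_generating_family.mp
    (Module.Finite.fg_top : (⊤ : Submodule R N).FG)
  choose q hq using fun l => hπ (u (g l))
  let ev : (Fin a → N) →ₗ[R] ((Fin a → R) →ₗ[R] N) :=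
    ((Pi.basisFun R (Fin a)).constr R).toLinearMap
  let Φ : (Fin a → N) →ₗ[R] (Fin b → N) := LinearMap.pi fun j => ev.flip (rel j)
  let E : (Fin a → N) →ₗ[R] (Fin c → N) := LinearMap.pi fun l => ev.flip (q l)
  have hΦ : ∀ v j, Φ v j = ev v (rel j) := fun v j => rfl
  have hE : ∀ v l, E v l = ev v (q l) := fun v l => rfl
  suffices hmem : g ∈ (LinearMap.ker Φ).map E by
    obtain ⟨v, hv, hvg⟩ := hmem
    have hker : LinearMap.ker π ≤ LinearMap.ker (ev v) := by
      rw [← hrel, Submodule.span_le]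
      rintro _ ⟨j, rfl⟩
      exact congrFun (LinearMap.mem_ker.mp hv) j
    obtain ⟨s, hs⟩ : ∃ s : M →ₗ[R] N, ∀ z, s (π z) = ev v z :=
      ⟨(LinearMap.ker π).liftQ (ev v) hker ∘ₗ (π.quotKerEquivOfSurjective hπ).symm.toLinearMap,
        fun z => by
          have : (π.quotKerEquivOfSurjective hπ).symm (π z) = Submodule.Quotient.mk z := by
            rw [LinearEquiv.symm_apply_eq]; rfl
          simp [this]⟩
    refine ⟨s, LinearMap.ext_on_range hg fun l => ?_⟩
    rw [LinearMap.comp_apply, LinearMap.id_apply, ← hq l, hs, ← hE, hvg]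
  -- closedness
  obtain ⟨k₀, hk₀⟩ := I.exists_pow_inf_eq_pow_smul (LinearMap.range Φ)
  suffices hall : ∀ k, g ∈ (LinearMap.ker Φ).map E ⊔ (I ^ k • ⊤ : Submodule R (Fin c → N)) by
    let H := (LinearMap.ker Φ).map E
    have h0 : H.mkQ g ∈ (⨅ k, I ^ k • ⊤ : Submodule R ((Fin c → N) ⧸ H)) := by
      rw [Submodule.mem_iInf]
      intro k
      obtain ⟨x, hx, y, hy, hxy⟩ := Submodule.mem_sup.mp (hall k)
      rw [← hxy, map_add, (Submodule.Quotient.mk_eq_zero H).mpr hx |> fun e => show H.mkQ x = 0 from e,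
        zero_add]
      have := Submodule.mem_map_of_mem (f := H.mkQ) hy
      rw [Submodule.map_smul''] at this
      exact Submodule.smul_mono le_rfl le_top this
    rw [Ideal.iInf_pow_smul_eq_bot_of_le_jacobson _ hI, Submodule.mem_bot] at h0
    exact (Submodule.Quotient.mk_eq_zero H).mp h0
  intro k
  obtain ⟨n, hn, s, hs⟩ := h (k + k₀)
  choose v hv using fun i => Submodule.Quotient.mk_surjective (I ^ n • ⊤ : Submodule R N)
    (s (Submodule.Quotient.mk (π (Pi.single i 1))))
  have hev : ∀ z, Submodule.Quotient.mk (ev v z) = s (Submodule.Quotient.mk (π z)) := by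
    intro z
    have : (I ^ n • ⊤ : Submodule R N).mkQ ∘ₗ ev v = s ∘ₗ (I ^ n • ⊤ : Submodule R M).mkQ ∘ₗ π :=
      (Pi.basisFun R (Fin a)).ext fun i => by simp [ev, hv]
    exact LinearMap.congr_fun this z
  have hΦv : Φ v ∈ (I ^ n • ⊤ : Submodule R (Fin b → N)) := mem_smul_top_pi _ _ fun j => by
    rw [← Submodule.Quotient.mk_eq_zero, hΦ, hev]
    have : π (rel j) = 0 := LinearMap.mem_ker.mp (hrel ▸ Submodule.subset_span ⟨j, rfl⟩)
    rw [this, Submodule.Quotient.mk_zero, map_zero]
  have hmem : Φ v ∈ (I ^ (n - k₀) • ⊤ : Submodule R (Fin a → N)).map Φ := by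
    have h1 : Φ v ∈ (I ^ n • ⊤ : Submodule R (Fin b → N)) ⊓ LinearMap.range Φ :=
      ⟨hΦv, LinearMap.mem_range_self Φ v⟩
    rw [hk₀ n (by omega)] at h1
    rw [Submodule.map_smul'', Submodule.map_top]
    exact Submodule.smul_mono le_rfl inf_le_right h1
  obtain ⟨w, hw, hwv⟩ := hmem
  have hnk : I ^ (n - k₀) ≤ I ^ k := Ideal.pow_le_pow_right (by omega)
  have h1 : E (v - w) ∈ (LinearMap.ker Φ).map E :=
    Submodule.mem_map_of_mem (by rw [LinearMap.mem_ker, map_sub, hwv, sub_self])
  have h2 : E w ∈ (I ^ k • ⊤ : Submodule R (Fin c → N)) := by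
    have := Submodule.mem_map_of_mem (f := E) hw
    rw [Submodule.map_smul''] at this
    exact Submodule.smul_mono hnk le_top this
  have h3 : g - E v ∈ (I ^ k • ⊤ : Submodule R (Fin c → N)) := mem_smul_top_pi _ _ fun l => by
    refine Submodule.smul_mono_left (Ideal.pow_le_pow_right (show k ≤ n by omega)) ?_
    rw [Pi.sub_apply, ← Submodule.Quotient.eq, hE, hev, hq, hs]
  have : g = E (v - w) + (E w + (g - E v)) := by rw [map_sub]; abel
  rw [this]
  exact Submodule.add_mem_sup h1 (Submodule.add_mem _ h2 h3)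

end Groth.Agent.RegLoc
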