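import Groth.Agent.RegLoc.Basic
import Mathlib.RingTheory.UniqueFactorizationDomain.Kaplansky
import Mathlib.RingTheory.PrincipalIdealDomainOfPrime
import Mathlib.RingTheory.DiscreteValuationRing.TFAE

/-!
# Regular local rings of dimension two are factorial
-/

universe u

namespace Groth.Agent.RegLoc.TwoDim

open IsLocalRing

variable {A : Type u} [CommRing A]

/-- A regular local ring of dimension one is a principal ideal ring. -/
lemma isPrincipalIdealRing_of_dim_one [IsRegularLocalRing A] (h : ringKrullDim A = 1) :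
    IsPrincipalIdealRing A := by
  have hn : ringKrullDim A = ((1 : ℕ) : ℕ) := by simpa using h
  have h1 := spanFinrank_eq_dim hn
  have := RegLoc.isDomain A
  have hp : (maximalIdeal A).IsPrincipal := by
    obtain ⟨s, hs, hs'⟩ := Submodule.FG.exists_span_finset_card_eq_spanFinrank
      (IsNoetherian.noetherian (maximalIdeal A))
    rw [h1] at hs
    obtain ⟨a, rfl⟩ := Finset.card_eq_one.mp hs
    exact ⟨a, by simpa using hs'.symm⟩
  exact ((tfae_of_isNoetherianRing_of_isLocalRing_of_isDomain A).out 4 0).mp hp

/-- A regular local ring `A` of dimension two has a prime element `x` with `A/(x)` principal. -/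
lemma exists_prime_quotient_pir [IsRegularLocalRing A] (h : ringKrullDim A = 2) :
    ∃ x : A, Prime x ∧ IsPrincipalIdealRing (A ⧸ Ideal.span {x}) := by
  have := RegLoc.isDomain A
  have hn : ringKrullDim A = ((2 : ℕ) : ℕ) := by simpa using h
  have hne : maximalIdeal A ≠ ⊥ := by
    intro h0
    have h2 := spanFinrank_eq_dim hn
    rw [h0] at h2
    simp at h2
  have hsq : ∃ x ∈ maximalIdeal A, x ∉ maximalIdeal A ^ 2 := by
    by_contra hc
    push_neg at hc
    apply hne
    refine Submodule.eq_bot_of_le_smul_of_le_jacobson_bot (maximalIdeal A) _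
      (IsNoetherian.noetherian _) (fun a ha => ?_) (maximalIdeal_le_jacobson _)
    rw [smul_eq_mul, ← sq]
    exact hc a ha
  obtain ⟨x, hx, hx2⟩ := hsq
  obtain ⟨hreg, e, he, he'⟩ := isRegularLocalRing_quotient_span_singleton hx hx2 hn
  have hx0 : x ≠ 0 := by rintro rfl; exact hx2 (zero_mem _)
  have := RegLoc.isDomain (A ⧸ Ideal.span {x})
  have he1 : e = 1 := by omega
  subst he1
  refine ⟨x, ?_, isPrincipalIdealRing_of_dim_one (by simpa using he)⟩
  rw [← Ideal.span_singleton_prime hx0]
  exact (Ideal.Quotient.isDomain_iff_prime _).mp inferInstance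

/-- In a regular local ring of dimension two a prime ideal different from the maximal ideal is
principal. -/
lemma exists_prime_mem [IsRegularLocalRing A] (h : ringKrullDim A = 2) (P : Ideal A) [P.IsPrime]
    (hP : P ≠ ⊥) : ∃ p ∈ P, Prime p := by
  have := RegLoc.isDomain A
  obtain ⟨x, hx, hpir⟩ := exists_prime_quotient_pir h
  by_cases hxP : x ∈ P
  · exact ⟨x, hxP, hx⟩
  set π := Ideal.Quotient.mk (Ideal.span {x}) with hπ
  obtain ⟨yb, hyb⟩ := (IsPrincipalIdealRing.principal (P.map π)).principal
  have hybmem : yb ∈ P.map π := by rw [hyb]; exact Submodule.mem_span_singleton_self _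
  obtain ⟨y, hy, rfl⟩ := (Ideal.mem_map_iff_of_surjective π Ideal.Quotient.mk_surjective).mp hybmem
  have hle : P ≤ Ideal.span {y} ⊔ Ideal.span {x} • P := by
    intro p hp
    have h1 : π p ∈ Ideal.span {π y} := hyb.le (Ideal.mem_map_of_mem π hp)
    obtain ⟨cb, hcb⟩ := Ideal.mem_span_singleton.mp h1
    obtain ⟨c, rfl⟩ := Ideal.Quotient.mk_surjective cb
    rw [← map_mul, Ideal.Quotient.eq, Ideal.mem_span_singleton] at hcb
    obtain ⟨b, hb⟩ := hcb
    have hbP : b ∈ P := by
      refine (‹P.IsPrime›.mem_or_mem ?_).resolve_left hxP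
      rw [← hb]
      exact P.sub_mem hp (P.mul_mem_right c hy)
    rw [eq_add_of_sub_eq hb, add_comm]
    exact Submodule.add_mem_sup (Ideal.mem_span_singleton.mpr (dvd_mul_right _ _))
      (Submodule.smul_mem_smul (Ideal.mem_span_singleton_self x) hbP)
  have hle' : P ≤ Ideal.span {y} := by
    apply Submodule.le_of_le_smul_of_le_jacobson_bot (IsNoetherian.noetherian P) ?_ hle
    refine le_trans ?_ (maximalIdeal_le_jacobson _)
    rw [Ideal.span_le, Set.singleton_subset_iff]
    exact (mem_maximalIdeal x).mpr hx.not_isUnit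
  have heq : P = Ideal.span {y} := le_antisymm hle' ((Ideal.span_singleton_le_iff_mem P).mpr hy)
  refine ⟨y, hy, ?_⟩
  have hy0 : y ≠ 0 := by
    rintro rfl
    exact hP (by rw [heq, Ideal.span_singleton_eq_bot.mpr rfl])
  rw [← Ideal.span_singleton_prime hy0, ← heq]
  infer_instance

/-- A regular local ring of dimension two is a unique factorization domain. -/
theorem uniqueFactorizationMonoid_of_dim_two [IsRegularLocalRing A] (h : ringKrullDim A = 2) :
    UniqueFactorizationMonoid A := by
  have := RegLoc.isDomain A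
  refine UniqueFactorizationMonoid.iff_exists_prime_mem_of_isPrime.mpr fun P hP hPp => ?_
  exact exists_prime_mem h P hP

end Groth.Agent.RegLoc.TwoDim
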